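import Mathlib
import Cfsg.Prelude.Def_Sporadic_a
import Cfsg.Agent.Lib.Helper3.Golay.DodecadCert

set_option autoImplicit false

/-! `M24` is transitive on dodecads; the stabilizer of a dodecad has order 95040 and is sharply
5-transitive on the dodecad; the stabilizer of a point in it is 3-transitive on the complement. -/

namespace Cfsg.Agent.Lib.Helper3.Golay

open Cfsg
open scoped Pointwise

theorem img_spec {σ : Equiv.Perm GolayPt} (hσ : σ ∈ M24) {N : ℕ}
    (h : ∀ i < 24, idx (σ (pt i)) = tblN N i) (c : ℕ) :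
    bitSet (codeMask (imgIdx N c)) = σ • bitSet (codeMask c) := by
  rw [smul_bitSet_of_tbl h]
  have hlt : pmAux (tblN N) 24 (codeMask c) < 2 ^ 24 := by
    apply pmAux_lt
    intro i hi
    rw [← h i hi]; exact idx_lt _
  have hmem : wordOf (pmAux (tblN N) 24 (codeMask c)) ∈ golayCode := by
    rw [← permWord_wordOf σ (tblN N) h]
    exact (mem_M24_iff σ).mp hσ _ (wordOf_codeMask_mem c)
  unfold imgIdx
  rw [pmFast_eq, (wordOf_mem_iff hlt).mp hmem]

/-- the orbit of the base dodecad -/
def Orb : Set (Finset GolayPt) := {d | ∃ g ∈ M24, g • bitSet d0 = d}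

theorem codeMask_c0 : codeMask c0 = d0 := by decide +kernel

theorem orb_step {σ : Equiv.Perm GolayPt} (hσ : σ ∈ M24) {d : Finset GolayPt} (h : σ • d ∈ Orb) :
    d ∈ Orb := by
  obtain ⟨g, hg, hgd⟩ := h
  refine ⟨σ⁻¹ * g, M24.mul_mem (M24.inv_mem hσ) hg, ?_⟩
  rw [mul_smul, hgd, inv_smul_smul]

theorem orb_of_dep : ∀ n, ∀ c < 4096, dep c = n → pc24 (codeMask c) = 12 →
    bitSet (codeMask c) ∈ Orb := by
  intro n
  induction n using Nat.strong_induction_on with
  | _ n ih =>
    intro c hc hn hw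
    have h1 := (allBelow_iff _ _).mp dep_cert c hc
    unfold depOK at h1
    simp only [Bool.or_eq_true] at h1
    have key : ∀ {σ : Equiv.Perm GolayPt} (_ : σ ∈ M24) {N : ℕ}
        (_ : ∀ i < 24, idx (σ (pt i)) = tblN N i), Nat.blt (dep (imgIdx N c)) (dep c) = true →
        bitSet (codeMask c) ∈ Orb := by
      intro σ hσ N hN hlt
      have hlt' : dep (imgIdx N c) < n := by
        rw [← hn]; simpa [Nat.blt_eq] using hlt
      apply orb_step hσ
      rw [← img_spec hσ hN c]
      have hidx : imgIdx N c < 4096 := Nat.mod_lt _ (by norm_num)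
      apply ih _ hlt' _ hidx rfl
      rw [← card_bitSet', img_spec hσ hN c, Finset.card_smul_finset, card_bitSet', hw]
    rcases h1 with (((h | h) | h) | h) | h
    · rw [hw] at h; simp at h
    · rw [Nat.eq_of_beq_eq_true h, codeMask_c0]
      exact ⟨1, M24.one_mem, one_smul _ _⟩
    · exact key Cfsg.Agent.S0370.result tblN_trN h
    · exact key Cfsg.Agent.S0372.result tblN_piN h
    · exact key Cfsg.Agent.S0373.result tblN_ctN h

theorem mem_Orb_of_mem_dodecads {d : Finset GolayPt} (hd : d ∈ dodecads) : d ∈ Orb := by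
  obtain ⟨c, hc, rfl⟩ := (mem_supports_iff d).mp hd.1
  have hw : pc24 (codeMask c) = 12 := by rw [← card_bitSet']; exact hd.2
  exact orb_of_dep _ c hc rfl hw

theorem d0_mem : bitSet d0 ∈ dodecads := by
  rw [← codeMask_c0]
  refine ⟨(mem_supports_iff _).mpr ⟨c0, by decide, rfl⟩, ?_⟩
  rw [card_bitSet']
  decide +kernel

/-- transitivity on dodecads -/
theorem exists_map_dodecad {d d' : Finset GolayPt} (hd : d ∈ dodecads) (hd' : d' ∈ dodecads) :
    ∃ g ∈ M24, g • d = d' := by
  obtain ⟨g, hg, rfl⟩ := mem_Orb_of_mem_dodecads hd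
  obtain ⟨g', hg', rfl⟩ := mem_Orb_of_mem_dodecads hd'
  refine ⟨g' * g⁻¹, M24.mul_mem hg' (M24.inv_mem hg), ?_⟩
  rw [mul_smul, inv_smul_smul]

/-- the stabilizer of a dodecad in `M24` has order 95040 -/
theorem card_stab_dodecad {d : Finset GolayPt} (hd : d ∈ dodecads) :
    Nat.card ↥(M24 ⊓ MulAction.stabilizer (Equiv.Perm GolayPt) d) = 95040 := by
  classical
  have hfin : (dodecads : Set (Finset GolayPt)).Finite := Set.toFinite _
  have h := card_of_orbit_eq M24 d hfin.toFinset
    (by
      intro g hg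
      rw [Set.Finite.mem_toFinset]
      exact smul_mem_dodecads hg hd)
    (by
      intro δ hδ
      rw [Set.Finite.mem_toFinset] at hδ
      exact exists_map_dodecad hd hδ)
  rw [card_M24, ← Set.ncard_eq_toFinset_card _ hfin, ncard_dodecads] at h
  omega

end Cfsg.Agent.Lib.Helper3.Golay
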