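import Mathlib
import Cfsg.Prelude.Def_Sporadic_a
import Cfsg.Agent.Lib.Helper3.Golay.Dodecad

set_option autoImplicit false

/-! The stabilizer of a dodecad: sharp 5-transitivity on the dodecad, 3-transitivity of a point
stabilizer on the complement, intersection numbers with octads. -/

namespace Cfsg.Agent.Lib.Helper3.Golay

open Cfsg
open scoped Pointwise

/-- the stabilizer of the base dodecad -/
def H12 : Subgroup (Equiv.Perm GolayPt) :=
  M24 ⊓ MulAction.stabilizer (Equiv.Perm GolayPt) (bitSet d0)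

theorem m12L_sound : Sound H12 m12L := sound_of_all_tblOK m12L_ok

/-- base points in the dodecad -/
def b2 (j : ℕ) : GolayPt := pt (bs2.getD j 0)

/-- base points outside the dodecad -/
def b3 (j : ℕ) : GolayPt := pt (bs3.getD (j + 1) 0)

/-- the base point of the dodecad -/
def p0 : GolayPt := pt 0

/-- the stabilizer of the base dodecad and the base point -/
def H11 : Subgroup (Equiv.Perm GolayPt) := H12 ⊓ MulAction.stabilizer (Equiv.Perm GolayPt) p0

theorem bs2_lt (j : ℕ) : bs2.getD j 0 < 24 := by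
  unfold bs2
  by_cases hj : j < 5
  · interval_cases j <;> decide
  · rw [List.getD_eq_default _ _ (by simpa using hj)]; norm_num

theorem bs3_lt (j : ℕ) : bs3.getD j 0 < 24 := by
  unfold bs3
  by_cases hj : j < 4
  · interval_cases j <;> decide
  · rw [List.getD_eq_default _ _ (by simpa using hj)]; norm_num

theorem mem_H12_smul {g : Equiv.Perm GolayPt} (hg : g ∈ H12) (y : GolayPt) :
    g • y ∈ bitSet d0 ↔ y ∈ bitSet d0 :=
  mem_smul_iff_of_smul_eq hg.2 y

theorem D2_aux : ∀ k < 5, ∀ y : GolayPt, d0.testBit (idx y) = true → (∀ j < k, y ≠ b2 j) →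
    (D2L.getD k 0).testBit (idx y) = true := by
  decide +kernel

theorem D3_aux : ∀ k < 3, ∀ y : GolayPt, d0.testBit (idx y) = false → (∀ j < k, y ≠ b3 j) →
    (D3L.getD (k + 1) 0).testBit (idx y) = true := by
  decide +kernel

theorem trans2 : ∀ k < 5, ∀ y ∈ (bitSet d0 : Set GolayPt), (∀ j < k, y ≠ b2 j) →
    ∃ u ∈ H12, (∀ j < k, u • b2 j = b2 j) ∧ u • b2 k = y := by
  intro k hk y hy hne
  have h1 := (allBelow_iff _ _).mp trans2_ok k hk
  have hy' : y ∈ bitSet (D2L.getD k 0) := by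
    rw [mem_bitSet]
    exact D2_aux k hk y (mem_bitSet.mp hy) hne
  exact transOK_sound m12L_sound bs2_lt h1 hy'

theorem trans3 : ∀ k < 3, ∀ y ∈ ((bitSet d0 : Set GolayPt))ᶜ, (∀ j < k, y ≠ b3 j) →
    ∃ u ∈ H11, (∀ j < k, u • b3 j = b3 j) ∧ u • b3 k = y := by
  intro k hk y hy hne
  have h1 := (allBelow_iff _ _).mp trans3_ok k hk
  have hy' : y ∈ bitSet (D3L.getD (k + 1) 0) := by
    rw [mem_bitSet]
    apply D3_aux k hk y _ hne
    rw [Set.mem_compl_iff, Finset.mem_coe, mem_bitSet] at hy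
    simpa using hy
  obtain ⟨σ, hσ, hfix, hmap⟩ := transOK_sound m12L_sound bs3_lt h1 hy'
  refine ⟨σ, Subgroup.mem_inf.mpr ⟨hσ, ?_⟩, ?_, hmap⟩
  · exact hfix 0 (by omega)
  · intro j hj
    exact hfix (j + 1) (by omega)

/-- the stabilizer of the base dodecad is 5-transitive on it -/
theorem H12_map (x y : ℕ → GolayPt) (k : ℕ) (hk : k ≤ 5)
    (hxS : ∀ i < k, x i ∈ bitSet d0) (hyS : ∀ i < k, y i ∈ bitSet d0)
    (hx : ∀ i < k, ∀ j < k, x i = x j → i = j) (hy : ∀ i < k, ∀ j < k, y i = y j → i = j) :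
    ∃ g ∈ H12, ∀ j < k, g • x j = y j :=
  exists_map_of_trans H12 (bitSet d0 : Set GolayPt) b2 5 (fun _ hg y => mem_H12_smul hg y) trans2
    x y k hk hxS hyS hx hy

theorem H12_map_base (x : ℕ → GolayPt) (k : ℕ) (hk : k ≤ 5)
    (hxS : ∀ i < k, x i ∈ bitSet d0) (hx : ∀ i < k, ∀ j < k, x i = x j → i = j) :
    ∃ g ∈ H12, ∀ j < k, g • b2 j = x j :=
  exists_map_base_of_trans H12 (bitSet d0 : Set GolayPt) b2 5 (fun _ hg y => mem_H12_smul hg y) trans2
    x k hk hxS hx

/-- the stabilizer of the base dodecad and the base point is 3-transitive on the complement -/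
theorem H11_map (x y : ℕ → GolayPt) (k : ℕ) (hk : k ≤ 3)
    (hxS : ∀ i < k, x i ∉ bitSet d0) (hyS : ∀ i < k, y i ∉ bitSet d0)
    (hx : ∀ i < k, ∀ j < k, x i = x j → i = j) (hy : ∀ i < k, ∀ j < k, y i = y j → i = j) :
    ∃ g ∈ H11, ∀ j < k, g • x j = y j :=
  exists_map_of_trans H11 ((bitSet d0 : Set GolayPt))ᶜ b3 3
    (fun g hg y => by
      rw [Set.mem_compl_iff, Set.mem_compl_iff, Finset.mem_coe, Finset.mem_coe,
        mem_H12_smul hg.1 y])
    trans3 x y k hk (fun i hi => by simpa using hxS i hi) (fun i hi => by simpa using hyS i hi) hx hy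

theorem b2_mem : ∀ k < 5, b2 k ∈ bitSet d0 := by
  intro k hk
  rw [mem_bitSet]
  interval_cases k <;> decide +kernel

theorem b2_injective : ∀ j < 5, ∀ k < 5, b2 j = b2 k → j = k := by decide +kernel

theorem card_D2 : ∀ j < 5, (bitSet (D2L.getD j 0)).card = [12, 11, 10, 9, 8].getD j 0 := by
  intro j hj
  rw [card_bitSet']
  interval_cases j <;> decide +kernel

/-- only the identity of the stabilizer of the base dodecad fixes the five base points -/
theorem H12_fix5 : H12 ⊓ fixSeq (Equiv.Perm GolayPt) b2 5 = ⊥ := by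
  apply Subgroup.eq_bot_of_card_eq
  have h := chain_card H12 b2 (fun k => bitSet (D2L.getD k 0)) 5
    (by
      intro k hk g hg
      rw [mem_bitSet]
      apply D2_aux k hk
      · rw [← mem_bitSet, mem_H12_smul hg.1]; exact b2_mem k hk
      · intro j hj h
        have h1 := mem_fixSeq.mp hg.2 j hj
        rw [← h1] at h
        have := b2_injective k hk j (by omega) (smul_left_cancel g h)
        omega)
    (by
      intro k hk δ hδ
      rw [mem_bitSet] at hδ
      have h1 := (allBelow_iff _ _).mp trans2_ok k hk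
      obtain ⟨σ, hσ, hfix, hmap⟩ := transOK_sound m12L_sound bs2_lt h1 (mem_bitSet.mpr hδ)
      exact ⟨σ, Subgroup.mem_inf.mpr ⟨hσ, mem_fixSeq.mpr hfix⟩, hmap⟩)
    5 le_rfl
  have hc : Nat.card H12 = 95040 := card_stab_dodecad d0_mem
  rw [hc] at h
  have hprod : ∏ j ∈ Finset.range 5, (bitSet (D2L.getD j 0)).card = 95040 := by
    rw [Finset.prod_congr rfl (fun j hj => card_D2 j (Finset.mem_range.mp hj))]
    decide
  rw [hprod] at h
  omega

end Cfsg.Agent.Lib.Helper3.Golay
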