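import Mathlib
import Cfsg.Prelude.Def_Sporadic_a
import Cfsg.Agent.Lib.Helper3.Golay.Dodecad2

set_option autoImplicit false

/-! Transport of the facts about the base dodecad to all dodecads. -/

namespace Cfsg.Agent.Lib.Helper3.Golay

open Cfsg
open scoped Pointwise

theorem exists_transport {d : Finset GolayPt} (hd : d ∈ dodecads) :
    ∃ t ∈ M24, t • bitSet d0 = d := exists_map_dodecad d0_mem hd

theorem conj_mem_stab {t u : Equiv.Perm GolayPt} (ht : t ∈ M24) {d : Finset GolayPt}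
    (htd : t • bitSet d0 = d) (hu : u ∈ H12) :
    t * u * t⁻¹ ∈ M24 ⊓ MulAction.stabilizer (Equiv.Perm GolayPt) d := by
  refine Subgroup.mem_inf.mpr ⟨M24.mul_mem (M24.mul_mem ht hu.1) (M24.inv_mem ht), ?_⟩
  rw [MulAction.mem_stabilizer_iff, mul_smul, mul_smul, ← htd, inv_smul_smul]
  have : u • bitSet d0 = bitSet d0 := hu.2
  rw [this]

theorem conj_inv_mem_H12 {t h : Equiv.Perm GolayPt} (ht : t ∈ M24) {d : Finset GolayPt}
    (htd : t • bitSet d0 = d) (hh : h ∈ M24 ⊓ MulAction.stabilizer (Equiv.Perm GolayPt) d) :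
    t⁻¹ * h * t ∈ H12 := by
  refine Subgroup.mem_inf.mpr ⟨M24.mul_mem (M24.mul_mem (M24.inv_mem ht) hh.1) ht, ?_⟩
  rw [MulAction.mem_stabilizer_iff, mul_smul, mul_smul, htd]
  have : h • d = d := hh.2
  rw [this, ← htd, inv_smul_smul]

theorem inv_apply_mem {t : Equiv.Perm GolayPt} {d : Finset GolayPt} (htd : t • bitSet d0 = d)
    (p : GolayPt) : t⁻¹ p ∈ bitSet d0 ↔ p ∈ d := by
  rw [← htd]
  show t⁻¹ • p ∈ bitSet d0 ↔ p ∈ t • bitSet d0
  exact Finset.inv_smul_mem_iff

/-- the stabilizer of a dodecad is 5-transitive on it -/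
theorem stab_dodecad_map {d : Finset GolayPt} (hd : d ∈ dodecads) (x y : ℕ → GolayPt) (k : ℕ)
    (hk : k ≤ 5) (hxS : ∀ i < k, x i ∈ d) (hyS : ∀ i < k, y i ∈ d)
    (hx : ∀ i < k, ∀ j < k, x i = x j → i = j) (hy : ∀ i < k, ∀ j < k, y i = y j → i = j) :
    ∃ g ∈ M24 ⊓ MulAction.stabilizer (Equiv.Perm GolayPt) d, ∀ i < k, g (x i) = y i := by
  obtain ⟨t, ht, htd⟩ := exists_transport hd
  obtain ⟨u, hu, hmap⟩ := H12_map (fun i => t⁻¹ (x i)) (fun i => t⁻¹ (y i)) k hk
    (fun i hi => (inv_apply_mem htd _).mpr (hxS i hi))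
    (fun i hi => (inv_apply_mem htd _).mpr (hyS i hi))
    (fun i hi j hj h => hx i hi j hj (t⁻¹.injective h))
    (fun i hi j hj h => hy i hi j hj (t⁻¹.injective h))
  refine ⟨t * u * t⁻¹, conj_mem_stab ht htd hu, ?_⟩
  intro i hi
  have := hmap i hi
  simp only [Equiv.Perm.smul_def] at this
  rw [Equiv.Perm.mul_apply, Equiv.Perm.mul_apply, this]
  simp

/-- an element of the stabilizer of a dodecad fixing five of its points is the identity -/
theorem stab_dodecad_unique {d : Finset GolayPt} (hd : d ∈ dodecads) (x : ℕ → GolayPt)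
    (hxS : ∀ i < 5, x i ∈ d) (hx : ∀ i < 5, ∀ j < 5, x i = x j → i = j)
    {h : Equiv.Perm GolayPt} (hh : h ∈ M24 ⊓ MulAction.stabilizer (Equiv.Perm GolayPt) d)
    (hfix : ∀ i < 5, h (x i) = x i) : h = 1 := by
  obtain ⟨t, ht, htd⟩ := exists_transport hd
  obtain ⟨v, hv, hmap⟩ := H12_map_base (fun i => t⁻¹ (x i)) 5 le_rfl
    (fun i hi => (inv_apply_mem htd _).mpr (hxS i hi))
    (fun i hi j hj h => hx i hi j hj (t⁻¹.injective h))
  have hw : v⁻¹ * (t⁻¹ * h * t) * v ∈ H12 ⊓ fixSeq (Equiv.Perm GolayPt) b2 5 := by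
    refine Subgroup.mem_inf.mpr
      ⟨H12.mul_mem (H12.mul_mem (H12.inv_mem hv) (conj_inv_mem_H12 ht htd hh)) hv, ?_⟩
    rw [mem_fixSeq]
    intro j hj
    have h1 := hmap j hj
    simp only [Equiv.Perm.smul_def] at h1 ⊢
    rw [Equiv.Perm.mul_apply, Equiv.Perm.mul_apply, Equiv.Perm.mul_apply, Equiv.Perm.mul_apply, h1]
    have h2 : t (t⁻¹ (x j)) = x j := by simp
    rw [h2, hfix j hj, ← h1]
    simp
  rw [H12_fix5, Subgroup.mem_bot] at hw
  have h3 : t⁻¹ * h * t = 1 := by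
    have := congrArg (fun z => v * z * v⁻¹) hw
    simpa [mul_assoc] using this
  have h4 := congrArg (fun z => t * z * t⁻¹) h3
  simpa [mul_assoc] using h4

theorem p0_mem : p0 ∈ bitSet d0 := by
  rw [mem_bitSet]; decide +kernel

/-- flag transitivity: a dodecad and a point of it come from the base dodecad and base point -/
theorem exists_transport_flag {d : Finset GolayPt} (hd : d ∈ dodecads) {p : GolayPt} (hp : p ∈ d) :
    ∃ t ∈ M24, t • bitSet d0 = d ∧ t p0 = p := by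
  obtain ⟨t, ht, htd⟩ := exists_transport hd
  obtain ⟨v, hv, hmap⟩ := H12_map (fun _ => p0) (fun _ => t⁻¹ p) 1 (by norm_num)
    (fun _ _ => p0_mem) (fun _ _ => (inv_apply_mem htd _).mpr hp)
    (by intro i hi j hj _; omega) (by intro i hi j hj _; omega)
  refine ⟨t * v, M24.mul_mem ht hv.1, ?_, ?_⟩
  · rw [mul_smul]
    have : v • bitSet d0 = bitSet d0 := hv.2
    rw [this, htd]
  · have := hmap 0 (by norm_num)
    simp only [Equiv.Perm.smul_def] at this
    rw [Equiv.Perm.mul_apply, this]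
    simp

/-- the stabilizer of a dodecad and a point of it has order 7920 -/
theorem card_stab_dodecad_point {d : Finset GolayPt} (hd : d ∈ dodecads) {p : GolayPt}
    (hp : p ∈ d) :
    Nat.card ↥(M24 ⊓ MulAction.stabilizer (Equiv.Perm GolayPt) d ⊓
      MulAction.stabilizer (Equiv.Perm GolayPt) p) = 7920 := by
  have h := card_of_orbit_eq (M24 ⊓ MulAction.stabilizer (Equiv.Perm GolayPt) d) p d
    (by
      intro g hg
      have h1 : g • d = d := hg.2
      rw [← h1]
      exact Finset.smul_mem_smul_finset hp)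
    (by
      intro δ hδ
      obtain ⟨g, hg, hmap⟩ := stab_dodecad_map hd (fun _ => p) (fun _ => δ) 1 (by norm_num)
        (fun _ _ => hp) (fun _ _ => hδ) (by intro i hi j hj _; omega) (by intro i hi j hj _; omega)
      exact ⟨g, hg, hmap 0 (by norm_num)⟩)
  rw [card_stab_dodecad hd, hd.2] at h
  omega

/-- the stabilizer of a dodecad and a point of it is 3-transitive on the complement -/
theorem stab_dodecad_point_map {d : Finset GolayPt} (hd : d ∈ dodecads) {p : GolayPt} (hp : p ∈ d)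
    (x y : ℕ → GolayPt) (k : ℕ) (hk : k ≤ 3) (hxS : ∀ i < k, x i ∉ d) (hyS : ∀ i < k, y i ∉ d)
    (hx : ∀ i < k, ∀ j < k, x i = x j → i = j) (hy : ∀ i < k, ∀ j < k, y i = y j → i = j) :
    ∃ g ∈ M24 ⊓ MulAction.stabilizer (Equiv.Perm GolayPt) d ⊓
      MulAction.stabilizer (Equiv.Perm GolayPt) p, ∀ i < k, g (x i) = y i := by
  obtain ⟨t, ht, htd, htp⟩ := exists_transport_flag hd hp
  obtain ⟨u, hu, hmap⟩ := H11_map (fun i => t⁻¹ (x i)) (fun i => t⁻¹ (y i)) k hk
    (fun i hi => fun h => hxS i hi ((inv_apply_mem htd _).mp h))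
    (fun i hi => fun h => hyS i hi ((inv_apply_mem htd _).mp h))
    (fun i hi j hj h => hx i hi j hj (t⁻¹.injective h))
    (fun i hi j hj h => hy i hi j hj (t⁻¹.injective h))
  refine ⟨t * u * t⁻¹, Subgroup.mem_inf.mpr ⟨conj_mem_stab ht htd hu.1, ?_⟩, ?_⟩
  · rw [MulAction.mem_stabilizer_iff, Equiv.Perm.smul_def, Equiv.Perm.mul_apply,
      Equiv.Perm.mul_apply, ← htp]
    have h1 : t⁻¹ (t p0) = p0 := by simp
    have h2 : u p0 = p0 := hu.2
    rw [h1, h2]
  · intro i hi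
    have := hmap i hi
    simp only [Equiv.Perm.smul_def] at this
    rw [Equiv.Perm.mul_apply, Equiv.Perm.mul_apply, this]
    simp

end Cfsg.Agent.Lib.Helper3.Golay
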