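import Mathlib

set_option autoImplicit false

/-! Generic orbit-stabilizer bookkeeping for subgroups, in "flat" form, and stabilizer chains. -/

namespace Cfsg.Agent.Lib.Helper3.Golay

section generic

variable {Γ : Type*} [Group Γ] {X : Type*} [MulAction Γ X]

/-- the stabilizer of `x` in the subgroup `H` (a subgroup of `↥H`) versus `H ⊓ stabilizer Γ x` -/
def stabEquiv (H : Subgroup Γ) (x : X) :
    MulAction.stabilizer H x ≃ ↥(H ⊓ MulAction.stabilizer Γ x) where
  toFun g := ⟨g.1.1, g.1.2, g.2⟩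
  invFun g := ⟨⟨g.1, g.2.1⟩, g.2.2⟩
  left_inv _ := rfl
  right_inv _ := rfl

theorem card_stabilizer_eq (H : Subgroup Γ) (x : X) :
    Nat.card (MulAction.stabilizer H x) = Nat.card ↥(H ⊓ MulAction.stabilizer Γ x) :=
  Nat.card_congr (stabEquiv H x)

/-- orbit-stabilizer for a subgroup, flat form -/
theorem card_eq_orbit_mul (H : Subgroup Γ) (x : X) :
    Nat.card H = Nat.card (MulAction.orbit H x) * Nat.card ↥(H ⊓ MulAction.stabilizer Γ x) := by
  rw [← card_stabilizer_eq, Subgroup.card_eq_card_quotient_mul_card_subgroup (MulAction.stabilizer H x),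
    Nat.card_congr (MulAction.orbitEquivQuotientStabilizer H x)]

theorem card_of_orbit_eq (H : Subgroup Γ) (x : X) (Δ : Finset X)
    (h1 : ∀ g ∈ H, g • x ∈ Δ) (h2 : ∀ δ ∈ Δ, ∃ g ∈ H, g • x = δ) :
    Nat.card H = Δ.card * Nat.card ↥(H ⊓ MulAction.stabilizer Γ x) := by
  rw [card_eq_orbit_mul H x]
  congr 1
  have : MulAction.orbit H x = (Δ : Set X) := by
    ext y
    constructor
    · rintro ⟨g, rfl⟩
      exact h1 g.1 g.2
    · intro hy
      obtain ⟨g, hg, rfl⟩ := h2 y hy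
      exact ⟨⟨g, hg⟩, rfl⟩
  rw [this, Nat.card_coe_set_eq, Set.ncard_coe_finset]

/-- one step of a stabilizer chain: if `H' ≤ H` agree on the stabilizer of `x` and `H'` is already
transitive on a set containing the `H`-orbit of `x`, then `H' = H` -/
theorem eq_of_step (H H' : Subgroup Γ) (hle : H' ≤ H) (x : X) (Δ : Set X)
    (h1 : ∀ g ∈ H, g • x ∈ Δ) (h2 : ∀ δ ∈ Δ, ∃ g ∈ H', g • x = δ)
    (h3 : H ⊓ MulAction.stabilizer Γ x ≤ H') : H' = H := by
  apply le_antisymm hle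
  intro g hg
  obtain ⟨u, hu, hux⟩ := h2 _ (h1 g hg)
  have : u⁻¹ * g ∈ H ⊓ MulAction.stabilizer Γ x := by
    refine ⟨H.mul_mem (H.inv_mem (hle hu)) hg, ?_⟩
    show u⁻¹ * g ∈ MulAction.stabilizer Γ x
    rw [MulAction.mem_stabilizer_iff, mul_smul, ← hux, inv_smul_smul]
  have h4 := H'.mul_mem hu (h3 this)
  rwa [mul_inv_cancel_left] at h4

/-- a stabilizer chain certificate: upper bounds `hU` for the orbits in `G`, transversals `hL` in
`K ≤ G`, and triviality of the last stabilizer give `K = G` level by level and all the orders -/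
theorem chain (G K : Subgroup Γ) (hKG : K ≤ G) (β : ℕ → X) (Δ : ℕ → Finset X) (n : ℕ)
    (F : ℕ → Subgroup Γ) (hFs : ∀ k, F (k + 1) = F k ⊓ MulAction.stabilizer Γ (β k))
    (hU : ∀ k < n, ∀ g ∈ G ⊓ F k, g • β k ∈ Δ k)
    (hL : ∀ k < n, ∀ δ ∈ Δ k, ∃ u ∈ K ⊓ F k, u • β k = δ)
    (hT : G ⊓ F n = ⊥) :
    ∀ m ≤ n, K ⊓ F (n - m) = G ⊓ F (n - m) ∧
      Nat.card ↥(G ⊓ F (n - m)) = ∏ j ∈ Finset.Ico (n - m) n, (Δ j).card := by
  intro m
  induction m with
  | zero =>
    intro _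
    rw [Nat.sub_zero, hT]
    refine ⟨?_, by simp⟩
    apply le_antisymm _ bot_le
    rw [← hT]
    exact inf_le_inf_right _ hKG
  | succ m ih =>
    intro hm
    obtain ⟨ih1, ih2⟩ := ih (by omega)
    have hk : n - (m + 1) < n := by omega
    have hk' : n - m = (n - (m + 1)) + 1 := by omega
    set k := n - (m + 1) with hkdef
    rw [hk', hFs k, ← inf_assoc, ← inf_assoc] at ih1
    rw [hk', hFs k, ← inf_assoc] at ih2
    have hle : K ⊓ F k ≤ G ⊓ F k := inf_le_inf_right _ hKG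
    have heq : K ⊓ F k = G ⊓ F k := by
      apply eq_of_step (G ⊓ F k) (K ⊓ F k) hle (β k) (Δ k : Set X) (hU k hk)
      · intro δ hδ
        exact hL k hk δ hδ
      · rw [← ih1]
        exact inf_le_left
    refine ⟨heq, ?_⟩
    rw [card_of_orbit_eq (G ⊓ F k) (β k) (Δ k) (hU k hk), ih2]
    · exact (Finset.prod_eq_prod_Ico_succ_bot hk (fun j => (Δ j).card)).symm
    · intro δ hδ
      obtain ⟨u, hu, hux⟩ := hL k hk δ hδ
      exact ⟨u, hle hu, hux⟩

/-- the intersection of two stabilizers in the subgroup `H`, flat form -/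
def stabEquiv₂ (H : Subgroup Γ) {Y : Type*} [MulAction Γ Y] (x : X) (y : Y) :
    ↥(MulAction.stabilizer H x ⊓ MulAction.stabilizer H y) ≃
      ↥(H ⊓ MulAction.stabilizer Γ x ⊓ MulAction.stabilizer Γ y) where
  toFun g := ⟨g.1.1, ⟨g.1.2, g.2.1⟩, g.2.2⟩
  invFun g := ⟨⟨g.1, g.2.1.1⟩, g.2.1.2, g.2.2⟩
  left_inv _ := rfl
  right_inv _ := rfl

theorem card_stabilizer_inf_eq (H : Subgroup Γ) {Y : Type*} [MulAction Γ Y] (x : X) (y : Y) :
    Nat.card ↥(MulAction.stabilizer H x ⊓ MulAction.stabilizer H y) =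
      Nat.card ↥(H ⊓ MulAction.stabilizer Γ x ⊓ MulAction.stabilizer Γ y) :=
  Nat.card_congr (stabEquiv₂ H x y)

/-- conjugation by `g ∈ H` maps `H ⊓ A` onto `H ⊓ B` when it maps `A` onto `B` -/
theorem card_inf_eq_of_conj (H A B : Subgroup Γ) (g : Γ) (hg : g ∈ H)
    (hAB : ∀ a, a ∈ A ↔ g * a * g⁻¹ ∈ B) : Nat.card ↥(H ⊓ A) = Nat.card ↥(H ⊓ B) := by
  refine Nat.card_congr
    { toFun := fun a => ⟨g * a.1 * g⁻¹, H.mul_mem (H.mul_mem hg a.2.1) (H.inv_mem hg),
        (hAB a.1).mp a.2.2⟩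
      invFun := fun b => ⟨g⁻¹ * b.1 * g, H.mul_mem (H.mul_mem (H.inv_mem hg) b.2.1) hg, by
        apply (hAB _).mpr
        have : g * (g⁻¹ * b.1 * g) * g⁻¹ = b.1 := by group
        rw [this]; exact b.2.2⟩
      left_inv := fun a => by
        apply Subtype.ext
        show g⁻¹ * (g * a.1 * g⁻¹) * g = a.1
        group
      right_inv := fun b => by
        apply Subtype.ext
        show g * (g⁻¹ * b.1 * g) * g⁻¹ = b.1
        group }

/-- the pointwise stabilizer of the first `k` points of a sequence -/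
def fixSeq (Γ : Type*) [Group Γ] {X : Type*} [MulAction Γ X] (b : ℕ → X) : ℕ → Subgroup Γ
  | 0 => ⊤
  | k + 1 => fixSeq Γ b k ⊓ MulAction.stabilizer Γ (b k)

theorem mem_fixSeq {b : ℕ → X} {k : ℕ} {g : Γ} : g ∈ fixSeq Γ b k ↔ ∀ j < k, g • b j = b j := by
  induction k with
  | zero => simp [fixSeq]
  | succ k ih =>
    rw [fixSeq, Subgroup.mem_inf, ih, MulAction.mem_stabilizer_iff]
    constructor
    · rintro ⟨h1, h2⟩ j hj
      rcases Nat.lt_succ_iff_lt_or_eq.mp hj with h | rfl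
      · exact h1 j h
      · exact h2
    · intro h
      exact ⟨fun j hj => h j (Nat.lt_succ_of_lt hj), h k (Nat.lt_succ_self k)⟩

/-- orders along a chain of stabilizers with known orbits -/
theorem chain_card (G : Subgroup Γ) (b : ℕ → X) (Δ : ℕ → Finset X) (n : ℕ)
    (hU : ∀ k < n, ∀ g ∈ G ⊓ fixSeq Γ b k, g • b k ∈ Δ k)
    (hL : ∀ k < n, ∀ δ ∈ Δ k, ∃ u ∈ G ⊓ fixSeq Γ b k, u • b k = δ) :
    ∀ k ≤ n, Nat.card G = (∏ j ∈ Finset.range k, (Δ j).card) * Nat.card ↥(G ⊓ fixSeq Γ b k) := by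
  intro k
  induction k with
  | zero =>
    intro _
    have : G ⊓ fixSeq Γ b 0 = G := by simp [fixSeq]
    rw [this]; simp
  | succ k ih =>
    intro hk
    rw [ih (by omega), card_of_orbit_eq (G ⊓ fixSeq Γ b k) (b k) (Δ k) (hU k (by omega)) (hL k (by omega)),
      Finset.prod_range_succ, mul_assoc]
    have : G ⊓ fixSeq Γ b (k + 1) = G ⊓ fixSeq Γ b k ⊓ MulAction.stabilizer Γ (b k) := by
      rw [inf_assoc]; rfl
    rw [this]

/-- multiple transitivity from transversals: if `H` preserves `S` and for each level `k < n` every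
point of `S` different from the first `k` base points is the image of the `k`-th base point under an
element of `H` fixing the first `k` base points, then the first `k ≤ n` base points can be mapped
to any `k` distinct points of `S` -/
theorem exists_map_base_of_trans (H : Subgroup Γ) (S : Set X) (b : ℕ → X) (n : ℕ)
    (hS : ∀ g ∈ H, ∀ y, g • y ∈ S ↔ y ∈ S)
    (htrans : ∀ k < n, ∀ y ∈ S, (∀ j < k, y ≠ b j) →
      ∃ u ∈ H, (∀ j < k, u • b j = b j) ∧ u • b k = y)
    (x : ℕ → X) :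
    ∀ k ≤ n, (∀ i < k, x i ∈ S) → (∀ i < k, ∀ j < k, x i = x j → i = j) →
      ∃ g ∈ H, ∀ j < k, g • b j = x j := by
  intro k
  induction k with
  | zero => intro _ _ _; exact ⟨1, H.one_mem, by simp⟩
  | succ k ih =>
    intro hk hxS hinj
    obtain ⟨g, hg, hgx⟩ := ih (by omega) (fun i hi => hxS i (by omega))
      (fun i hi j hj h => hinj i (by omega) j (by omega) h)
    have hy : g⁻¹ • x k ∈ S := (hS g⁻¹ (H.inv_mem hg) _).mpr (hxS k (by omega))
    have hne : ∀ j < k, g⁻¹ • x k ≠ b j := by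
      intro j hj h
      have h1 : x k = x j := by rw [← hgx j hj, ← h, smul_inv_smul]
      have := hinj k (by omega) j (by omega) h1
      omega
    obtain ⟨u, hu, huf, hux⟩ := htrans k (by omega) _ hy hne
    refine ⟨g * u, H.mul_mem hg hu, ?_⟩
    intro j hj
    rw [mul_smul]
    rcases Nat.lt_succ_iff_lt_or_eq.mp hj with h | rfl
    · rw [huf j h, hgx j h]
    · rw [hux, smul_inv_smul]

theorem exists_map_of_trans (H : Subgroup Γ) (S : Set X) (b : ℕ → X) (n : ℕ)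
    (hS : ∀ g ∈ H, ∀ y, g • y ∈ S ↔ y ∈ S)
    (htrans : ∀ k < n, ∀ y ∈ S, (∀ j < k, y ≠ b j) →
      ∃ u ∈ H, (∀ j < k, u • b j = b j) ∧ u • b k = y)
    (x y : ℕ → X) (k : ℕ) (hk : k ≤ n) (hxS : ∀ i < k, x i ∈ S) (hyS : ∀ i < k, y i ∈ S)
    (hx : ∀ i < k, ∀ j < k, x i = x j → i = j) (hy : ∀ i < k, ∀ j < k, y i = y j → i = j) :
    ∃ g ∈ H, ∀ j < k, g • x j = y j := by
  obtain ⟨g1, hg1, h1⟩ := exists_map_base_of_trans H S b n hS htrans x k hk hxS hx
  obtain ⟨g2, hg2, h2⟩ := exists_map_base_of_trans H S b n hS htrans y k hk hyS hy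
  refine ⟨g2 * g1⁻¹, H.mul_mem hg2 (H.inv_mem hg1), ?_⟩
  intro j hj
  rw [mul_smul, ← h1 j hj, inv_smul_smul, h2 j hj]

end generic

end Cfsg.Agent.Lib.Helper3.Golay
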