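import Mathlib
import Cfsg.Prelude.Def_Sporadic_a

set_option autoImplicit false

/-! Bitmask model of subsets of / binary words on the 24 points `GolayPt = Option (ZMod 23)`. -/

namespace Cfsg.Agent.Lib.Helper3.Golay

open Cfsg

/-- index of a point: the residue `x` has index `x`, the extra point has index 23 -/
def idx : GolayPt → ℕ
  | none => 23
  | some x => x.val

/-- the point with a given index -/
def pt (i : ℕ) : GolayPt := if i = 23 then none else some (i : ZMod 23)

theorem idx_lt (p : GolayPt) : idx p < 24 := by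
  revert p; decide

theorem pt_idx (p : GolayPt) : pt (idx p) = p := by
  revert p; decide

theorem idx_pt {i : ℕ} (h : i < 24) : idx (pt i) = i := by
  interval_cases i <;> rfl

theorem idx_injective : Function.Injective idx := by
  intro p q h
  rw [← pt_idx p, ← pt_idx q, h]

/-- the equivalence between the 24 points and `Fin 24` -/
def ptEquiv : GolayPt ≃ Fin 24 where
  toFun p := ⟨idx p, idx_lt p⟩
  invFun i := pt i
  left_inv p := pt_idx p
  right_inv i := Fin.ext (idx_pt i.2)

/-- the binary word with bitmask `m` -/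
def wordOf (m : ℕ) : GolayPt → ZMod 2 := fun p => if m.testBit (idx p) then 1 else 0

/-- the set of points with bitmask `m` -/
def bitSet (m : ℕ) : Finset GolayPt := Finset.univ.filter (fun p => m.testBit (idx p) = true)

theorem mem_bitSet {m : ℕ} {p : GolayPt} : p ∈ bitSet m ↔ m.testBit (idx p) = true := by
  simp [bitSet]

theorem wordOf_apply (m : ℕ) (p : GolayPt) : wordOf m p = if m.testBit (idx p) then 1 else 0 := rfl

theorem wordOf_zero : wordOf 0 = 0 := by
  funext p; simp [wordOf]

theorem wordOf_xor (m n : ℕ) : wordOf (m ^^^ n) = wordOf m + wordOf n := by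
  funext p
  simp only [wordOf, Pi.add_apply, Nat.testBit_xor]
  cases m.testBit (idx p) <;> cases n.testBit (idx p) <;> decide

theorem wordOf_ne_zero {m : ℕ} {p : GolayPt} : wordOf m p ≠ 0 ↔ m.testBit (idx p) = true := by
  simp only [wordOf]
  cases m.testBit (idx p) <;> simp

theorem mem_support₂ {w : GolayPt → ZMod 2} {p : GolayPt} : p ∈ support₂ w ↔ w p ≠ 0 := by
  simp [support₂]

theorem support_wordOf (m : ℕ) : support₂ (wordOf m) = bitSet m := by
  ext p
  simp only [support₂, Finset.mem_filter, Finset.mem_univ, true_and, mem_bitSet, wordOf_ne_zero]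

/-- the bitmask of a set of points -/
def maskOf (s : Finset GolayPt) : ℕ := Nat.ofBits (fun i : Fin 24 => decide (pt i ∈ s))

theorem maskOf_lt (s : Finset GolayPt) : maskOf s < 2 ^ 24 := Nat.ofBits_lt_two_pow _

theorem testBit_maskOf (s : Finset GolayPt) (p : GolayPt) :
    (maskOf s).testBit (idx p) = decide (p ∈ s) := by
  unfold maskOf
  rw [Nat.testBit_ofBits_lt _ _ (idx_lt p)]
  simp only [pt_idx]

theorem bitSet_maskOf (s : Finset GolayPt) : bitSet (maskOf s) = s := by
  ext p
  rw [mem_bitSet, testBit_maskOf]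
  simp

theorem testBit_eq_false_of_lt {m : ℕ} (hm : m < 2 ^ 24) {i : ℕ} (hi : 24 ≤ i) :
    m.testBit i = false := by
  apply Nat.testBit_lt_two_pow
  exact lt_of_lt_of_le hm (Nat.pow_le_pow_right (by norm_num) hi)

theorem bitSet_injective {m n : ℕ} (hm : m < 2 ^ 24) (hn : n < 2 ^ 24) (h : bitSet m = bitSet n) :
    m = n := by
  apply Nat.eq_of_testBit_eq
  intro i
  by_cases hi : i < 24
  · have := Finset.ext_iff.mp h (pt i)
    rw [mem_bitSet, mem_bitSet, idx_pt hi] at this
    cases hm' : m.testBit i <;> cases hn' : n.testBit i <;> simp_all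
  · push Not at hi
    rw [testBit_eq_false_of_lt hm hi, testBit_eq_false_of_lt hn hi]

theorem maskOf_bitSet {m : ℕ} (hm : m < 2 ^ 24) : maskOf (bitSet m) = m :=
  bitSet_injective (maskOf_lt _) hm (bitSet_maskOf _)

/-- the bitmask of a word -/
def maskOfWord (w : GolayPt → ZMod 2) : ℕ := maskOf (support₂ w)

theorem wordOf_maskOfWord (w : GolayPt → ZMod 2) : wordOf (maskOfWord w) = w := by
  funext p
  rw [wordOf_apply, maskOfWord, testBit_maskOf]
  simp only [support₂, Finset.mem_filter, Finset.mem_univ, true_and, decide_eq_true_eq]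
  have : ∀ a : ZMod 2, (if a ≠ 0 then (1 : ZMod 2) else 0) = a := by decide
  exact this (w p)

theorem wordOf_injective {m n : ℕ} (hm : m < 2 ^ 24) (hn : n < 2 ^ 24) (h : wordOf m = wordOf n) :
    m = n := by
  apply bitSet_injective hm hn
  rw [← support_wordOf, ← support_wordOf, h]

theorem support₂_injective {v w : GolayPt → ZMod 2} (h : support₂ v = support₂ w) : v = w := by
  rw [← wordOf_maskOfWord v, ← wordOf_maskOfWord w, maskOfWord, maskOfWord, h]

theorem bitSet_xor (m n : ℕ) : bitSet (m ^^^ n) = symmDiff (bitSet m) (bitSet n) := by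
  ext p
  rw [Finset.mem_symmDiff, mem_bitSet, mem_bitSet, mem_bitSet, Nat.testBit_xor]
  cases m.testBit (idx p) <;> cases n.testBit (idx p) <;> simp

theorem bitSet_and (m n : ℕ) : bitSet (m &&& n) = bitSet m ∩ bitSet n := by
  ext p
  rw [Finset.mem_inter, mem_bitSet, mem_bitSet, mem_bitSet, Nat.testBit_and]
  cases m.testBit (idx p) <;> cases n.testBit (idx p) <;> simp

theorem bitSet_or (m n : ℕ) : bitSet (m ||| n) = bitSet m ∪ bitSet n := by
  ext p
  rw [Finset.mem_union, mem_bitSet, mem_bitSet, mem_bitSet, Nat.testBit_or]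
  cases m.testBit (idx p) <;> cases n.testBit (idx p) <;> simp

theorem bitSet_zero : bitSet 0 = ∅ := by
  ext p; simp [mem_bitSet]

/-- simple recursive popcount of the lowest `k` bits -/
def pcAux : ℕ → ℕ → ℕ
  | 0, _ => 0
  | k + 1, m => m % 2 + pcAux k (m / 2)

theorem sum_testBit_eq_pcAux (k m : ℕ) :
    (∑ i ∈ Finset.range k, if m.testBit i then 1 else 0) = pcAux k m := by
  induction k generalizing m with
  | zero => simp [pcAux]
  | succ k ih =>
    rw [Finset.sum_range_succ', pcAux, ← ih (m / 2), add_comm]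
    congr 1
    · rw [Nat.testBit_zero]
      rcases Nat.mod_two_eq_zero_or_one m with h | h <;> simp [h]
    · apply Finset.sum_congr rfl
      intro i _
      rw [Nat.testBit_succ]

theorem card_bitSet (m : ℕ) : (bitSet m).card = pcAux 24 m := by
  rw [← sum_testBit_eq_pcAux, bitSet, Finset.card_filter]
  rw [← Fin.sum_univ_eq_sum_range (fun i => if m.testBit i then 1 else 0) 24]
  exact Fintype.sum_equiv ptEquiv _ _ (fun p => rfl)

theorem hammingNorm_wordOf (m : ℕ) : hammingNorm (wordOf m) = pcAux 24 m := by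
  rw [← card_bitSet, ← support_wordOf]
  rfl

theorem hammingNorm_eq_card_support (w : GolayPt → ZMod 2) : hammingNorm w = (support₂ w).card := rfl

theorem pcAux_add (a b m : ℕ) : pcAux (a + b) m = pcAux a (m % 2 ^ a) + pcAux b (m / 2 ^ a) := by
  induction a generalizing m with
  | zero => simp [pcAux]
  | succ a ih =>
    have e : a + 1 + b = (a + b) + 1 := by omega
    rw [e, pcAux, pcAux, ih (m / 2), ← add_assoc]
    congr 2
    · rw [pow_succ, Nat.mod_mul_left_mod]
    · congr 1
      rw [pow_succ, Nat.mod_mul_left_div_self]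
    · rw [Nat.div_div_eq_div_mul, pow_succ, mul_comm]

/-- popcount of an 8-bit number by table lookup (4 bits per entry) -/
def pcTable : ℕ :=
  0x8776766576656554766565546554544376656554655454436554544354434332766565546554544365545443544343326554544354434332544343324332322176656554655454436554544354434332655454435443433254434332433232216554544354434332544343324332322154434332433232214332322132212110

def pc8 (x : ℕ) : ℕ := (pcTable >>> (4 * x)) &&& 15

theorem pc8_eq : ∀ x < 256, pc8 x = pcAux 8 x := by decide +kernel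

/-- fast popcount of a 24-bit number -/
def pc24 (m : ℕ) : ℕ := pc8 (m % 256) + pc8 (m / 256 % 256) + pc8 (m / 65536 % 256)

theorem pc24_eq (m : ℕ) : pc24 m = pcAux 24 m := by
  have h1 : pcAux 24 m = pcAux 8 (m % 2 ^ 8) + pcAux 16 (m / 2 ^ 8) := pcAux_add 8 16 m
  have h2 : pcAux 16 (m / 2 ^ 8) = pcAux 8 (m / 2 ^ 8 % 2 ^ 8) + pcAux 8 (m / 2 ^ 8 / 2 ^ 8) :=
    pcAux_add 8 8 _
  have h3 : pcAux 8 (m / 2 ^ 8 / 2 ^ 8) = pcAux 8 (m / 2 ^ 8 / 2 ^ 8 % 2 ^ 8) + pcAux 0 (m / 2 ^ 8 / 2 ^ 8 / 2 ^ 8) :=
    pcAux_add 8 0 _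
  rw [h1, h2, h3]
  unfold pc24
  rw [pc8_eq _ (Nat.mod_lt _ (by norm_num)), pc8_eq _ (Nat.mod_lt _ (by norm_num)),
    pc8_eq _ (Nat.mod_lt _ (by norm_num))]
  have e1 : m / 65536 = m / 2 ^ 8 / 2 ^ 8 := by
    rw [Nat.div_div_eq_div_mul]; norm_num
  rw [e1]
  simp only [pcAux, add_zero]
  norm_num
  ring

theorem card_bitSet' (m : ℕ) : (bitSet m).card = pc24 m := by rw [pc24_eq, card_bitSet]

end Cfsg.Agent.Lib.Helper3.Golay
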