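import Mathlib
import Cfsg.Prelude.Def_Sporadic_a
import Cfsg.Agent.Lib.Helper3.Golay.Bits

set_option autoImplicit false

/-! The length-24 code `golayCode` in the bitmask model. -/

namespace Cfsg.Agent.Lib.Helper3.Golay

open Cfsg

/-- bitmasks of the words `qrWord t`, `t = 0, …, 22` -/
def qrMaskList : List ℕ :=
  [0x5335f, 0xa66be, 0x14cd7c, 0x299af8, 0x5335f0, 0x266be1, 0x4cd7c2, 0x19af85, 0x335f0a, 0x66be14,
   0x4d7c29, 0x1af853, 0x35f0a6, 0x6be14c, 0x57c299, 0x2f8533, 0x5f0a66, 0x3e14cd, 0x7c299a, 0x785335,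
   0x70a66b, 0x614cd7, 0x4299af]

/-- the generator masks: the 23 words `qrWord t` and the all-ones word -/
def genMask (j : ℕ) : ℕ := (qrMaskList ++ [0xffffff]).getD j 0

theorem qrWord_eq_wordOf : ∀ t : ZMod 23, ∀ p : GolayPt, qrWord t p = wordOf (genMask t.val) p := by
  decide +kernel

theorem qrWord_eq (t : ZMod 23) : qrWord t = wordOf (genMask t.val) := funext (qrWord_eq_wordOf t)

theorem one_eq_wordOf : (1 : GolayPt → ZMod 2) = wordOf (genMask 23) := by
  funext p
  revert p
  decide +kernel

theorem wordOf_genMask_mem {j : ℕ} (hj : j < 24) : wordOf (genMask j) ∈ golayCode := by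
  apply Submodule.subset_span
  by_cases h : j = 23
  · subst h
    right
    rw [← one_eq_wordOf]; rfl
  · left
    have hj' : j < 23 := by omega
    refine ⟨(j : ZMod 23), ?_⟩
    rw [qrWord_eq]
    congr 2
    rw [ZMod.val_natCast, Nat.mod_eq_of_lt hj']

/-- xor of the generator masks selected by the low `k` bits of `sel`, from generator `j` on -/
def xorSel : ℕ → ℕ → ℕ → ℕ
  | 0, _, _ => 0
  | k + 1, j, sel => (bif sel.testBit j then genMask j else 0) ^^^ xorSel k (j + 1) sel

theorem wordOf_xorSel_mem (k j sel : ℕ) (h : j + k ≤ 24) : wordOf (xorSel k j sel) ∈ golayCode := by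
  induction k generalizing j with
  | zero => rw [xorSel, wordOf_zero]; exact Submodule.zero_mem _
  | succ k ih =>
    rw [xorSel, wordOf_xor]
    apply Submodule.add_mem
    · cases sel.testBit j
      · rw [cond_false, wordOf_zero]; exact Submodule.zero_mem _
      · rw [cond_true]; exact wordOf_genMask_mem (by omega)
    · exact ih (j + 1) (by omega)

/-- the systematic basis of the code -/
def basisList : List ℕ :=
  [0xc75001, 0x49f002, 0xd4b004, 0x6e3008, 0x9b3010, 0xb66020, 0xecc040, 0x1ed080, 0x3da100, 0x7b4200,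
   0xb1d400, 0xe3a800]

def basisMask (i : ℕ) : ℕ := basisList.getD i 0

/-- how the basis is obtained from the generators -/
def coefList : List ℕ :=
  [0x8006a9, 0x118, 0x800499, 0x578, 0x8006ba, 0x800797, 0x8005cd, 0x7d0, 0x543, 0x65, 0x800663, 0x800625]

theorem basisMask_eq_xorSel : ∀ i < 12, basisMask i = xorSel 24 0 (coefList.getD i 0) := by
  decide +kernel

/-- the basis words -/
def bvec (i : Fin 12) : GolayPt → ZMod 2 := wordOf (basisMask i)

theorem bvec_mem (i : Fin 12) : bvec i ∈ golayCode := by
  unfold bvec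
  rw [basisMask_eq_xorSel i i.2]
  exact wordOf_xorSel_mem 24 0 _ (by norm_num)

/-- a fast loop: `f k` holds for all `k < n` -/
def allBelow (n : ℕ) (f : ℕ → Bool) : Bool := Nat.rec true (fun k ih => ih && f k) n

theorem allBelow_iff (n : ℕ) (f : ℕ → Bool) : allBelow n f = true ↔ ∀ k < n, f k = true := by
  induction n with
  | zero => simp [allBelow]
  | succ n ih =>
    have : allBelow (n + 1) f = (allBelow n f && f n) := rfl
    rw [this, Bool.and_eq_true, ih]
    constructor
    · rintro ⟨h1, h2⟩ k hk
      rcases Nat.lt_succ_iff_lt_or_eq.mp hk with h | h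
      · exact h1 k h
      · rw [h]; exact h2
    · intro h
      exact ⟨fun k hk => h k (Nat.lt_succ_of_lt hk), h n (Nat.lt_succ_self n)⟩

/-- the `i`-th bit as a number -/
def bit (c i : ℕ) : ℕ := (c >>> i) &&& 1

theorem bit_eq (c i : ℕ) : bit c i = (c.testBit i).toNat := by
  rw [bit, Nat.and_one_is_mod, Nat.shiftRight_eq_div_pow, Nat.toNat_testBit]

theorem bit_mul (c i m : ℕ) : bit c i * m = bif c.testBit i then m else 0 := by
  rw [bit_eq]
  cases c.testBit i <;> simp

/-- encoding: xor of the basis masks selected by the low 12 bits of `c` -/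
def codeMask (c : ℕ) : ℕ :=
  (bit c 0 * 0xc75001) ^^^ (bit c 1 * 0x49f002) ^^^ (bit c 2 * 0xd4b004) ^^^ (bit c 3 * 0x6e3008) ^^^
  (bit c 4 * 0x9b3010) ^^^ (bit c 5 * 0xb66020) ^^^ (bit c 6 * 0xecc040) ^^^ (bit c 7 * 0x1ed080) ^^^
  (bit c 8 * 0x3da100) ^^^ (bit c 9 * 0x7b4200) ^^^ (bit c 10 * 0xb1d400) ^^^ (bit c 11 * 0xe3a800)

theorem wordOf_cond (b : Bool) (m : ℕ) :
    wordOf (bif b then m else 0) = if b then wordOf m else 0 := by
  cases b
  · simp [wordOf_zero]
  · simp

theorem wordOf_codeMask (c : ℕ) :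
    wordOf (codeMask c) = ∑ i : Fin 12, if c.testBit i then bvec i else 0 := by
  unfold codeMask
  simp only [bit_mul, wordOf_xor, wordOf_cond, Fin.sum_univ_succ, Fin.sum_univ_zero, add_zero,
    ← add_assoc]
  rfl

set_option maxRecDepth 100000 in
theorem codeMask_lt_aux : allBelow 4096 (fun c => Nat.blt (codeMask c) 16777216) = true := by
  decide +kernel

theorem codeMask_lt : ∀ c < 4096, codeMask c < 2 ^ 24 := by
  intro c hc
  have := (allBelow_iff _ _).mp codeMask_lt_aux c hc
  simpa using this

set_option maxRecDepth 100000 in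
theorem codeMask_mod_aux : allBelow 4096 (fun c => Nat.beq (codeMask c % 4096) c) = true := by
  decide +kernel

theorem codeMask_mod : ∀ c < 4096, codeMask c % 4096 = c := by
  intro c hc
  have := (allBelow_iff _ _).mp codeMask_mod_aux c hc
  simpa using this

theorem genMask_mem_code : ∀ j < 24, codeMask (genMask j % 4096) = genMask j := by decide +kernel

theorem basisMask_testBit : ∀ i < 12, ∀ j < 12, (basisMask i).testBit j = decide (i = j) := by
  decide +kernel

theorem wordOf_codeMask_mem (c : ℕ) : wordOf (codeMask c) ∈ golayCode := by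
  rw [wordOf_codeMask]
  apply Submodule.sum_mem
  intro i _
  split_ifs
  · exact bvec_mem i
  · exact Submodule.zero_mem _

theorem golayCode_eq_span : golayCode = Submodule.span (ZMod 2) (Set.range bvec) := by
  apply le_antisymm
  · unfold golayCode
    rw [Submodule.span_le]
    have key : ∀ j < 24, wordOf (genMask j) ∈ Submodule.span (ZMod 2) (Set.range bvec) := by
      intro j hj
      rw [← genMask_mem_code j hj, wordOf_codeMask]
      apply Submodule.sum_mem
      intro i _
      split_ifs
      · exact Submodule.subset_span ⟨i, rfl⟩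
      · exact Submodule.zero_mem _
    rintro w (⟨t, rfl⟩ | hw)
    · rw [qrWord_eq]
      exact key _ (lt_trans (ZMod.val_lt t) (by norm_num))
    · rw [Set.mem_singleton_iff] at hw
      rw [hw, one_eq_wordOf]
      exact key 23 (by norm_num)
  · rw [Submodule.span_le]
    rintro _ ⟨i, rfl⟩
    exact bvec_mem i

/-- evaluation at the twelve information positions -/
def evalInfo : (GolayPt → ZMod 2) →ₗ[ZMod 2] (Fin 12 → ZMod 2) where
  toFun w := fun j => w (pt j)
  map_add' _ _ := rfl
  map_smul' _ _ := rfl

theorem evalInfo_bvec (i : Fin 12) : evalInfo (bvec i) = Pi.single i 1 := by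
  funext j
  show wordOf (basisMask i) (pt j) = _
  rw [wordOf_apply, idx_pt (lt_trans j.2 (by norm_num)), basisMask_testBit i i.2 j j.2]
  by_cases h : i = j
  · subst h; simp
  · have : (i : ℕ) ≠ j := fun h' => h (Fin.ext h')
    simp [this, Ne.symm h]

theorem bvec_linearIndependent : LinearIndependent (ZMod 2) bvec := by
  apply LinearIndependent.of_comp evalInfo
  have : (evalInfo ∘ bvec) = fun i => Pi.single i (1 : ZMod 2) := funext evalInfo_bvec
  rw [this]
  have := (Pi.basisFun (ZMod 2) (Fin 12)).linearIndependent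
  convert this using 1
  funext i
  simp [Pi.basisFun_apply]

/-- the dimension of the code -/
theorem finrank_golayCode : Module.finrank (ZMod 2) golayCode = 12 := by
  rw [golayCode_eq_span, finrank_span_eq_card bvec_linearIndependent]
  rfl

/-- the codewords are exactly the `wordOf (codeMask c)`, `c < 4096` -/
theorem mem_golayCode_iff (w : GolayPt → ZMod 2) :
    w ∈ golayCode ↔ ∃ c < 4096, w = wordOf (codeMask c) := by
  constructor
  · intro hw
    rw [golayCode_eq_span, Submodule.mem_span_range_iff_exists_fun] at hw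
    obtain ⟨a, rfl⟩ := hw
    refine ⟨Nat.ofBits (fun i : Fin 12 => decide (a i ≠ 0)), Nat.ofBits_lt_two_pow _, ?_⟩
    rw [wordOf_codeMask]
    apply Finset.sum_congr rfl
    intro i _
    rw [Nat.testBit_ofBits_lt _ _ i.2]
    have : ∀ x : ZMod 2, x = 0 ∨ x = 1 := by decide
    rcases this (a i) with h | h
    · simp [h]
    · simp [h]
  · rintro ⟨c, _, rfl⟩
    exact wordOf_codeMask_mem c

/-- membership test for bitmasks -/
theorem wordOf_mem_iff {m : ℕ} (hm : m < 2 ^ 24) : wordOf m ∈ golayCode ↔ codeMask (m % 4096) = m := by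
  constructor
  · intro h
    obtain ⟨c, hc, he⟩ := (mem_golayCode_iff _).mp h
    have := wordOf_injective hm (codeMask_lt c hc) he
    rw [this, codeMask_mod c hc]
  · intro h
    rw [← h]
    exact wordOf_codeMask_mem _

end Cfsg.Agent.Lib.Helper3.Golay
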