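import Mathlib
import Cfsg.Prelude.Def_Sporadic_a
import Cfsg.Agent.Lib.Helper3.Golay.Bits
import Cfsg.Agent.Lib.Helper3.Golay.Code

set_option autoImplicit false

/-! Weights of the words of `golayCode`; octads and dodecads. -/

namespace Cfsg.Agent.Lib.Helper3.Golay

open Cfsg

/-- a fast counting loop -/
def countBelow (n : ℕ) (f : ℕ → Bool) : ℕ := Nat.rec 0 (fun k ih => ih + (f k).toNat) n

theorem countBelow_eq (n : ℕ) (f : ℕ → Bool) :
    countBelow n f = ((Finset.range n).filter (fun k => f k = true)).card := by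
  induction n with
  | zero => simp [countBelow]
  | succ n ih =>
    have : countBelow (n + 1) f = countBelow n f + (f n).toNat := rfl
    rw [this, ih, Finset.range_add_one, Finset.filter_insert]
    cases h : f n
    · simp
    · rw [if_pos rfl, Finset.card_insert_of_notMem (by simp)]
      simp

def okW (n : ℕ) : Bool := Nat.beq n 0 || Nat.beq n 8 || Nat.beq n 12 || Nat.beq n 16 || Nat.beq n 24

set_option maxRecDepth 100000 in
theorem weights_aux : allBelow 4096 (fun c => okW (pc24 (codeMask c))) = true := by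
  decide +kernel

theorem weight_codeMask {c : ℕ} (hc : c < 4096) :
    pc24 (codeMask c) = 0 ∨ pc24 (codeMask c) = 8 ∨ pc24 (codeMask c) = 12 ∨ pc24 (codeMask c) = 16 ∨
      pc24 (codeMask c) = 24 := by
  have := (allBelow_iff _ _).mp weights_aux c hc
  simpa [okW, or_assoc] using this

/-- the weights of the code -/
theorem weight_mem {w : GolayPt → ZMod 2} (hw : w ∈ golayCode) :
    hammingNorm w = 0 ∨ hammingNorm w = 8 ∨ hammingNorm w = 12 ∨ hammingNorm w = 16 ∨
      hammingNorm w = 24 := by
  obtain ⟨c, hc, rfl⟩ := (mem_golayCode_iff w).mp hw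
  rw [hammingNorm_wordOf, ← pc24_eq]
  exact weight_codeMask hc

/-- the supports of the code, as the image of `c ↦ bitSet (codeMask c)` -/
theorem mem_supports_iff (b : Finset GolayPt) :
    b ∈ supports (golayCode : Set (GolayPt → ZMod 2)) ↔ ∃ c < 4096, b = bitSet (codeMask c) := by
  constructor
  · rintro ⟨w, hw, rfl⟩
    obtain ⟨c, hc, rfl⟩ := (mem_golayCode_iff w).mp hw
    exact ⟨c, hc, support_wordOf _⟩
  · rintro ⟨c, _, rfl⟩
    exact ⟨wordOf (codeMask c), wordOf_codeMask_mem c, support_wordOf _⟩

theorem codeMask_injOn {c d : ℕ} (hc : c < 4096) (hd : d < 4096)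
    (h : bitSet (codeMask c) = bitSet (codeMask d)) : c = d := by
  have := bitSet_injective (codeMask_lt c hc) (codeMask_lt d hd) h
  rw [← codeMask_mod c hc, ← codeMask_mod d hd, this]

/-- the words of weight `n`, as a finset -/
theorem wordsOfWeight_eq (n : ℕ) :
    wordsOfWeight (golayCode : Set (GolayPt → ZMod 2)) n =
      ↑(((Finset.range 4096).filter (fun c => Nat.beq (pc24 (codeMask c)) n = true)).image
        (fun c => bitSet (codeMask c))) := by
  ext b
  simp only [wordsOfWeight, Set.mem_ofPred_eq, mem_supports_iff, Finset.coe_image, Finset.coe_filter,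
    Finset.mem_range, Set.mem_image]
  constructor
  · rintro ⟨⟨c, hc, rfl⟩, hcard⟩
    refine ⟨c, ⟨hc, ?_⟩, rfl⟩
    rw [card_bitSet'] at hcard
    simpa using hcard
  · rintro ⟨c, ⟨hc, hcard⟩, rfl⟩
    refine ⟨⟨c, hc, rfl⟩, ?_⟩
    rw [card_bitSet']
    simpa using hcard

theorem ncard_wordsOfWeight (n : ℕ) :
    (wordsOfWeight (golayCode : Set (GolayPt → ZMod 2)) n).ncard =
      countBelow 4096 (fun c => Nat.beq (pc24 (codeMask c)) n) := by
  rw [wordsOfWeight_eq, Set.ncard_coe_finset, countBelow_eq, Finset.card_image_of_injOn]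
  intro c hc d hd h
  simp only [Finset.coe_filter, Finset.mem_range, Set.mem_ofPred_eq] at hc hd
  exact codeMask_injOn hc.1 hd.1 h

set_option maxRecDepth 100000 in
theorem count8 : countBelow 4096 (fun c => Nat.beq (pc24 (codeMask c)) 8) = 759 := by
  decide +kernel

set_option maxRecDepth 100000 in
theorem count12 : countBelow 4096 (fun c => Nat.beq (pc24 (codeMask c)) 12) = 2576 := by
  decide +kernel

theorem ncard_octads : octads.ncard = 759 := by
  unfold octads
  rw [ncard_wordsOfWeight, count8]

theorem ncard_dodecads : dodecads.ncard = 2576 := by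
  unfold dodecads
  rw [ncard_wordsOfWeight, count12]

end Cfsg.Agent.Lib.Helper3.Golay
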