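import Mathlib
import Cfsg.Prelude.Def_Sporadic_a
import Cfsg.Agent.Lib.Helper3.Golay.Bits
import Cfsg.Agent.Lib.Helper3.Golay.Code
import Cfsg.Agent.Lib.Helper3.Golay.Weights

set_option autoImplicit false

/-! Permutations of the 24 points acting on words; membership in `M24`. -/

namespace Cfsg.Agent.Lib.Helper3.Golay

open Cfsg
open scoped Pointwise

/-- the linear action of a permutation on words: `w ↦ w ∘ σ⁻¹` -/
def permWord (σ : Equiv.Perm GolayPt) : (GolayPt → ZMod 2) →ₗ[ZMod 2] (GolayPt → ZMod 2) :=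
  LinearMap.funLeft (ZMod 2) (ZMod 2) σ.symm

theorem permWord_apply (σ : Equiv.Perm GolayPt) (w : GolayPt → ZMod 2) (p : GolayPt) :
    permWord σ w p = w (σ.symm p) := rfl

theorem support_permWord (σ : Equiv.Perm GolayPt) (w : GolayPt → ZMod 2) :
    support₂ (permWord σ w) = σ • support₂ w := by
  ext p
  rw [Finset.smul_finset_def, Finset.mem_image, mem_support₂, permWord_apply]
  constructor
  · intro h
    exact ⟨σ.symm p, mem_support₂.mpr h, by simp [Equiv.Perm.smul_def]⟩
  · rintro ⟨q, hq, rfl⟩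
    rw [mem_support₂] at hq
    simpa [Equiv.Perm.smul_def] using hq

theorem supports_finite : (supports (golayCode : Set (GolayPt → ZMod 2))).Finite := Set.toFinite _

theorem mem_M24_iff (σ : Equiv.Perm GolayPt) :
    σ ∈ M24 ↔ ∀ w ∈ golayCode, permWord σ w ∈ golayCode := by
  constructor
  · intro h w hw
    have h1 : σ • supports (golayCode : Set (GolayPt → ZMod 2)) = supports (golayCode : Set (GolayPt → ZMod 2)) := h
    have h2 : σ • support₂ w ∈ σ • supports (golayCode : Set (GolayPt → ZMod 2)) :=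
      Set.smul_mem_smul_set ⟨w, hw, rfl⟩
    rw [h1] at h2
    obtain ⟨w', hw', he⟩ := h2
    rw [← support_permWord] at he
    rw [← support₂_injective he]
    exact hw'
  · intro h
    show σ ∈ MulAction.stabilizer (Equiv.Perm GolayPt) (supports (golayCode : Set (GolayPt → ZMod 2)))
    rw [MulAction.mem_stabilizer_set_iff_smul_set_subset supports_finite]
    rintro _ ⟨b, ⟨w, hw, rfl⟩, rfl⟩
    exact ⟨permWord σ w, h w hw, support_permWord σ w⟩

/-- it is enough to check the original generators -/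
theorem mem_M24_of_gens (σ : Equiv.Perm GolayPt) (h : ∀ t, permWord σ (qrWord t) ∈ golayCode)
    (h1 : permWord σ 1 ∈ golayCode) : σ ∈ M24 := by
  rw [mem_M24_iff]
  have : golayCode ≤ Submodule.comap (permWord σ) golayCode := by
    unfold golayCode
    rw [Submodule.span_le]
    rintro w (⟨t, rfl⟩ | hw)
    · exact h t
    · rw [Set.mem_singleton_iff] at hw
      rw [hw]; exact h1
  exact fun w hw => this hw

/-- it is enough to check the systematic basis -/
theorem mem_M24_of_basis (σ : Equiv.Perm GolayPt) (h : ∀ j : Fin 12, permWord σ (bvec j) ∈ golayCode) :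
    σ ∈ M24 := by
  rw [mem_M24_iff]
  have : golayCode ≤ Submodule.comap (permWord σ) golayCode := by
    conv_lhs => rw [golayCode_eq_span]
    rw [Submodule.span_le]
    rintro w ⟨j, rfl⟩
    exact h j
  exact fun w hw => this hw

/-- the image of a bitmask under the map of indices `tbl`, on the lowest `k` bits -/
def pmAux (tbl : ℕ → ℕ) : ℕ → ℕ → ℕ
  | 0, _ => 0
  | k + 1, m => pmAux tbl k m ||| (bit m k <<< tbl k)

theorem testBit_bit (m i e : ℕ) : (bit m i).testBit e = true ↔ e = 0 ∧ m.testBit i = true := by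
  rw [bit_eq]
  cases m.testBit i
  · simp
  · simp [Nat.testBit_one_eq_true_iff_self_eq_zero]

theorem testBit_pmAux (tbl : ℕ → ℕ) (k m e : ℕ) :
    (pmAux tbl k m).testBit e = true ↔ ∃ i < k, m.testBit i = true ∧ tbl i = e := by
  induction k with
  | zero => simp [pmAux]
  | succ k ih =>
    rw [pmAux, Nat.testBit_or, Bool.or_eq_true, ih, Nat.testBit_shiftLeft, Bool.and_eq_true,
      decide_eq_true_eq, testBit_bit]
    constructor
    · rintro (⟨i, hi, h1, h2⟩ | ⟨h1, h2, h3⟩)
      · exact ⟨i, Nat.lt_succ_of_lt hi, h1, h2⟩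
      · exact ⟨k, Nat.lt_succ_self k, h3, by omega⟩
    · rintro ⟨i, hi, h1, h2⟩
      rcases Nat.lt_succ_iff_lt_or_eq.mp hi with h | h
      · exact Or.inl ⟨i, h, h1, h2⟩
      · subst h
        exact Or.inr ⟨by omega, by omega, h1⟩

theorem pmAux_lt (tbl : ℕ → ℕ) (k m : ℕ) (h : ∀ i < k, tbl i < 24) : pmAux tbl k m < 2 ^ 24 := by
  apply Nat.lt_pow_two_of_testBit
  intro e he
  by_contra hcon
  rw [Bool.not_eq_false, testBit_pmAux] at hcon
  obtain ⟨i, hi, -, h2⟩ := hcon
  have := h i hi
  omega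

theorem permWord_wordOf (σ : Equiv.Perm GolayPt) (tbl : ℕ → ℕ)
    (hσ : ∀ i < 24, idx (σ (pt i)) = tbl i) (m : ℕ) :
    permWord σ (wordOf m) = wordOf (pmAux tbl 24 m) := by
  funext p
  rw [permWord_apply, wordOf_apply, wordOf_apply]
  congr 1
  rw [eq_iff_iff, testBit_pmAux]
  constructor
  · intro h
    refine ⟨idx (σ.symm p), idx_lt _, h, ?_⟩
    rw [← hσ _ (idx_lt _), pt_idx, Equiv.apply_symm_apply]
  · rintro ⟨i, hi, h1, h2⟩
    have : σ.symm p = pt i := by
      rw [Equiv.symm_apply_eq]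
      apply idx_injective
      rw [hσ i hi, h2]
    rw [this, idx_pt hi]
    exact h1

/-- membership in `M24` from a table of the permutation and a computation on the basis -/
theorem mem_M24_of_tbl (σ : Equiv.Perm GolayPt) (tbl : ℕ → ℕ)
    (hσ : ∀ i < 24, idx (σ (pt i)) = tbl i)
    (hcode : ∀ j < 12, codeMask (pmAux tbl 24 (basisMask j) % 4096) = pmAux tbl 24 (basisMask j)) :
    σ ∈ M24 := by
  apply mem_M24_of_basis
  intro j
  unfold bvec
  rw [permWord_wordOf σ tbl hσ]
  have hlt : pmAux tbl 24 (basisMask j) < 2 ^ 24 := by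
    apply pmAux_lt
    intro i hi
    rw [← hσ i hi]
    exact idx_lt _
  rw [wordOf_mem_iff hlt]
  exact hcode j j.2

end Cfsg.Agent.Lib.Helper3.Golay
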