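import Mathlib
import Cfsg.Prelude.Def_Sporadic_a
import Cfsg.Agent.Lib.Helper3.Golay.Bits
import Cfsg.Agent.Lib.Helper3.Golay.Code

set_option autoImplicit false

/-! Permutations of the 24 points given by tables (lists of 24 indices); straight-line programs
of table compositions and their soundness. -/

namespace Cfsg.Agent.Lib.Helper3.Golay

open Cfsg

/-- the identity table -/
def idT : List ℕ := List.range 24

/-- composition of tables: `i ↦ S[T[i]]` -/
def compT (S T : List ℕ) : List ℕ := T.map (fun j => S.getD j 0)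

/-- `σ` has table `T` -/
def HasTbl (σ : Equiv.Perm GolayPt) (T : List ℕ) : Prop :=
  T.length = 24 ∧ ∀ i < 24, idx (σ (pt i)) = T.getD i 0

theorem HasTbl.apply {σ : Equiv.Perm GolayPt} {T : List ℕ} (h : HasTbl σ T) {i : ℕ} (hi : i < 24) :
    σ (pt i) = pt (T.getD i 0) := by
  rw [← h.2 i hi, pt_idx]

theorem HasTbl.lt {σ : Equiv.Perm GolayPt} {T : List ℕ} (h : HasTbl σ T) {i : ℕ} (hi : i < 24) :
    T.getD i 0 < 24 := by
  rw [← h.2 i hi]; exact idx_lt _

theorem HasTbl.one : HasTbl 1 idT := by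
  refine ⟨by simp [idT], ?_⟩
  intro i hi
  rw [Equiv.Perm.one_apply, idx_pt hi, idT, List.getD_eq_getElem _ _ (by simpa using hi)]
  simp

theorem compT_getD (S T : List ℕ) {i : ℕ} (hi : i < T.length) :
    (compT S T).getD i 0 = S.getD (T.getD i 0) 0 := by
  unfold compT
  rw [List.getD_eq_getElem _ _ (by simpa using hi), List.getElem_map, List.getD_eq_getElem _ _ hi]

theorem HasTbl.mul {σ τ : Equiv.Perm GolayPt} {S T : List ℕ} (hσ : HasTbl σ S) (hτ : HasTbl τ T) :
    HasTbl (σ * τ) (compT S T) := by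
  refine ⟨by simp [compT, hτ.1], ?_⟩
  intro i hi
  rw [compT_getD S T (by rw [hτ.1]; exact hi), Equiv.Perm.mul_apply, hτ.apply hi,
    hσ.2 _ (hτ.lt hi)]

theorem HasTbl.ext {σ τ : Equiv.Perm GolayPt} {T : List ℕ} (hσ : HasTbl σ T) (hτ : HasTbl τ T) :
    σ = τ := by
  ext p
  rw [← pt_idx p, hσ.apply (idx_lt p), hτ.apply (idx_lt p)]

/-- the candidate inverse table -/
def invT (T : List ℕ) : List ℕ := (List.range 24).map (fun j => T.idxOf j)

/-- check that `T'` is a right inverse table of `T` with entries below 24 -/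
def okInv (T T' : List ℕ) : Bool :=
  Nat.beq T'.length 24 &&
    allBelow 24 (fun i => Nat.blt (T'.getD i 0) 24 && Nat.beq (T.getD (T'.getD i 0) 0) i)

theorem HasTbl.inv {σ : Equiv.Perm GolayPt} {T T' : List ℕ} (hσ : HasTbl σ T)
    (h : okInv T T' = true) : HasTbl σ⁻¹ T' := by
  unfold okInv at h
  rw [Bool.and_eq_true, allBelow_iff] at h
  obtain ⟨h1, h2⟩ := h
  have hlen : T'.length = 24 := Nat.eq_of_beq_eq_true h1
  refine ⟨hlen, ?_⟩
  intro i hi
  have := h2 i hi
  rw [Bool.and_eq_true] at this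
  obtain ⟨h3, h4⟩ := this
  have h3' : T'.getD i 0 < 24 := by simpa [Nat.blt_eq] using h3
  have h4' : T.getD (T'.getD i 0) 0 = i := Nat.eq_of_beq_eq_true h4
  have h5 : σ (pt (T'.getD i 0)) = pt i := by rw [hσ.apply h3', h4']
  have h6 : σ⁻¹ (pt i) = pt (T'.getD i 0) := by
    rw [Equiv.Perm.inv_def, Equiv.symm_apply_eq, h5]
  rw [h6, idx_pt h3']

/-- instructions of a straight-line program -/
inductive Ins where
  | mul (j k : ℕ) : Ins
  | inv (j : ℕ) : Ins

/-- the table computed by one instruction -/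
def stepT (acc : List (List ℕ)) : Ins → List ℕ
  | Ins.mul j k => compT (acc.getD j idT) (acc.getD k idT)
  | Ins.inv j =>
    if okInv (acc.getD j idT) (invT (acc.getD j idT)) = true then invT (acc.getD j idT) else idT

/-- run a straight-line program -/
def run : List Ins → List (List ℕ) → List (List ℕ)
  | [], acc => acc
  | i :: is, acc => run is (acc ++ [stepT acc i])

/-- every table of the list belongs to an element of `K` -/
def Sound (K : Subgroup (Equiv.Perm GolayPt)) (acc : List (List ℕ)) : Prop :=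
  ∀ T ∈ acc, ∃ σ ∈ K, HasTbl σ T

theorem Sound.getD {K : Subgroup (Equiv.Perm GolayPt)} {acc : List (List ℕ)} (h : Sound K acc)
    (j : ℕ) : ∃ σ ∈ K, HasTbl σ (acc.getD j idT) := by
  by_cases hj : j < acc.length
  · rw [List.getD_eq_getElem _ _ hj]
    exact h _ (List.getElem_mem hj)
  · rw [List.getD_eq_default _ _ (by omega)]
    exact ⟨1, K.one_mem, HasTbl.one⟩

theorem Sound.stepT {K : Subgroup (Equiv.Perm GolayPt)} {acc : List (List ℕ)} (h : Sound K acc)
    (i : Ins) : ∃ σ ∈ K, HasTbl σ (stepT acc i) := by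
  cases i with
  | mul j k =>
    obtain ⟨σ, hσ, hσT⟩ := h.getD j
    obtain ⟨τ, hτ, hτT⟩ := h.getD k
    exact ⟨σ * τ, K.mul_mem hσ hτ, hσT.mul hτT⟩
  | inv j =>
    obtain ⟨σ, hσ, hσT⟩ := h.getD j
    show ∃ σ ∈ K, HasTbl σ (if okInv (acc.getD j idT) (invT (acc.getD j idT)) = true
      then invT (acc.getD j idT) else idT)
    split_ifs with hc
    · exact ⟨σ⁻¹, K.inv_mem hσ, hσT.inv hc⟩
    · exact ⟨1, K.one_mem, HasTbl.one⟩

theorem Sound.run {K : Subgroup (Equiv.Perm GolayPt)} (prog : List Ins) :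
    ∀ acc : List (List ℕ), Sound K acc → Sound K (run prog acc) := by
  induction prog with
  | nil => intro acc h; exact h
  | cons i is ih =>
    intro acc h
    apply ih
    intro T hT
    rw [List.mem_append, List.mem_singleton] at hT
    rcases hT with hT | rfl
    · exact h T hT
    · exact h.stepT i

end Cfsg.Agent.Lib.Helper3.Golay
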