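import Mathlib
import Cfsg.Prelude.Def_Sporadic_a
import Cfsg.Agent.Lib.Helper3.Golay.Bits
import Cfsg.Agent.Lib.Helper3.Golay.Code
import Cfsg.Agent.Lib.Helper3.Golay.Weights

set_option autoImplicit false

/-! The octads form a Steiner system S(5,8,24). -/

namespace Cfsg.Agent.Lib.Helper3.Golay

open Cfsg

theorem support₂_add (v w : GolayPt → ZMod 2) :
    support₂ (v + w) = symmDiff (support₂ v) (support₂ w) := by
  ext p
  simp only [support₂, Finset.mem_filter, Finset.mem_univ, true_and, Finset.mem_symmDiff,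
    Pi.add_apply]
  have : ∀ a b : ZMod 2, a + b ≠ 0 ↔ (a ≠ 0 ∧ ¬ b ≠ 0) ∨ (b ≠ 0 ∧ ¬ a ≠ 0) := by decide
  exact this (v p) (w p)

theorem card_support_mem {w : GolayPt → ZMod 2} (hw : w ∈ golayCode) :
    (support₂ w).card = 0 ∨ (support₂ w).card = 8 ∨ (support₂ w).card = 12 ∨
      (support₂ w).card = 16 ∨ (support₂ w).card = 24 := weight_mem hw

theorem mem_octads_iff {b : Finset GolayPt} :
    b ∈ octads ↔ (∃ w ∈ golayCode, support₂ w = b) ∧ b.card = 8 := Iff.rfl

theorem mem_dodecads_iff {b : Finset GolayPt} :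
    b ∈ dodecads ↔ (∃ w ∈ golayCode, support₂ w = b) ∧ b.card = 12 := Iff.rfl

/-- the symmetric difference of two supports of codewords is the support of a codeword -/
theorem symmDiff_mem_supports {a b : Finset GolayPt}
    (ha : a ∈ supports (golayCode : Set (GolayPt → ZMod 2)))
    (hb : b ∈ supports (golayCode : Set (GolayPt → ZMod 2))) :
    symmDiff a b ∈ supports (golayCode : Set (GolayPt → ZMod 2)) := by
  obtain ⟨v, hv, rfl⟩ := ha
  obtain ⟨w, hw, rfl⟩ := hb
  exact ⟨v + w, Submodule.add_mem _ hv hw, support₂_add v w⟩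

theorem card_mem_supports {a : Finset GolayPt}
    (ha : a ∈ supports (golayCode : Set (GolayPt → ZMod 2))) :
    a.card = 0 ∨ a.card = 8 ∨ a.card = 12 ∨ a.card = 16 ∨ a.card = 24 := by
  obtain ⟨v, hv, rfl⟩ := ha
  exact card_support_mem hv

theorem card_symmDiff_add (a b : Finset GolayPt) :
    (symmDiff a b).card + 2 * (a ∩ b).card = a.card + b.card := by
  have h1 : symmDiff a b = (a \ b) ∪ (b \ a) := rfl
  have hd : Disjoint (a \ b) (b \ a) := by
    rw [Finset.disjoint_left]
    intro x hx hx'
    rw [Finset.mem_sdiff] at hx hx'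
    exact hx.2 hx'.1
  rw [h1, Finset.card_union_of_disjoint hd]
  have h2 := Finset.card_sdiff_add_card_inter a b
  have h3 := Finset.card_sdiff_add_card_inter b a
  rw [Finset.inter_comm b a] at h3
  omega

/-- two distinct octads meet in at most four points -/
theorem octad_inter_le {a b : Finset GolayPt} (ha : a ∈ octads) (hb : b ∈ octads) (hne : a ≠ b) :
    (a ∩ b).card ≤ 4 := by
  have hs := symmDiff_mem_supports ha.1 hb.1
  have hc := card_mem_supports hs
  have h1 := card_symmDiff_add a b
  rw [ha.2, hb.2] at h1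
  have h0 : (symmDiff a b).card ≠ 0 := by
    intro h
    rw [Finset.card_eq_zero] at h
    exact hne (symmDiff_eq_bot.mp h)
  omega

theorem octads_finite : (octads : Set (Finset GolayPt)).Finite := Set.toFinite _

/-- the octads form a Steiner system S(5,8,24) -/
theorem octads_steiner : IsSteinerSystem 5 8 octads := by
  classical
  refine ⟨fun b hb => hb.2, ?_⟩
  set O : Finset (Finset GolayPt) := octads_finite.toFinset with hO
  have hmemO : ∀ b, b ∈ O ↔ b ∈ octads := fun b => Set.Finite.mem_toFinset _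
  have hOcard : O.card = 759 := by
    rw [← ncard_octads, Set.ncard_eq_toFinset_card _ octads_finite]
  have huniq : ∀ s : Finset GolayPt, s.card = 5 → ∀ a ∈ octads, ∀ b ∈ octads, s ⊆ a → s ⊆ b → a = b := by
    intro s hs a ha b hb hsa hsb
    by_contra hne
    have h1 := octad_inter_le ha hb hne
    have h2 : s.card ≤ (a ∩ b).card := Finset.card_le_card (Finset.subset_inter hsa hsb)
    omega
  have hdisj : (O : Set (Finset GolayPt)).PairwiseDisjoint (fun b => b.powersetCard 5) := by
    intro a ha b hb hne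
    rw [Function.onFun, Finset.disjoint_left]
    intro s hsa hsb
    rw [Finset.mem_powersetCard] at hsa hsb
    exact hne (huniq s hsa.2 a ((hmemO a).mp ha) b ((hmemO b).mp hb) hsa.1 hsb.1)
  have hcardU : (O.biUnion (fun b => b.powersetCard 5)).card = 42504 := by
    rw [Finset.card_biUnion hdisj]
    rw [Finset.sum_congr rfl (fun b hb => by
      rw [Finset.card_powersetCard, ((hmemO b).mp hb).2])]
    rw [Finset.sum_const, hOcard]
    rfl
  have hsub : O.biUnion (fun b => b.powersetCard 5) ⊆ (Finset.univ : Finset GolayPt).powersetCard 5 := by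
    intro s hs
    rw [Finset.mem_biUnion] at hs
    obtain ⟨b, _, hsb⟩ := hs
    rw [Finset.mem_powersetCard] at hsb ⊢
    exact ⟨Finset.subset_univ _, hsb.2⟩
  have hT : ((Finset.univ : Finset GolayPt).powersetCard 5).card = 42504 := by
    rw [Finset.card_powersetCard, Finset.card_univ]
    rfl
  have heq := Finset.eq_of_subset_of_card_le hsub (by rw [hT, hcardU])
  intro s hs
  have hsT : s ∈ (Finset.univ : Finset GolayPt).powersetCard 5 := by
    rw [Finset.mem_powersetCard]; exact ⟨Finset.subset_univ _, hs⟩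
  rw [← heq, Finset.mem_biUnion] at hsT
  obtain ⟨b, hbO, hsb⟩ := hsT
  rw [Finset.mem_powersetCard] at hsb
  refine ⟨b, ⟨(hmemO b).mp hbO, hsb.1⟩, ?_⟩
  rintro c ⟨hc, hsc⟩
  exact huniq s hs c hc b ((hmemO b).mp hbO) hsc hsb.1

end Cfsg.Agent.Lib.Helper3.Golay
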