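import Mathlib
import Cfsg.Prelude.Def_Sporadic_a
import Cfsg.Agent.Lib.Helper3.Golay.Steiner
import Cfsg.Agent.Lib.Helper3.Golay.Perm
import Cfsg.Agent.Lib.Helper3.Golay.SLP
import Cfsg.Agent.Lib.Helper3.Golay.OrbitStab
import Cfsg.Agent.S0370
import Cfsg.Agent.S0372
import Cfsg.Agent.S0373

set_option autoImplicit false

/-! The order of `M24` by a stabilizer chain certificate (Schreier-Sims): base points
`∞, 0, 1, 2, 3, 5, 4`, orbit lengths `24, 23, 22, 21, 20, 3, 16`. -/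

namespace Cfsg.Agent.Lib.Helper3.Golay

open Cfsg
open scoped Pointwise

/-! ### `M24` permutes the octads -/

theorem smul_mem_supports {g : Equiv.Perm GolayPt} (hg : g ∈ M24) {b : Finset GolayPt}
    (hb : b ∈ supports (golayCode : Set (GolayPt → ZMod 2))) :
    g • b ∈ supports (golayCode : Set (GolayPt → ZMod 2)) := by
  have h1 : g • supports (golayCode : Set (GolayPt → ZMod 2)) =
      supports (golayCode : Set (GolayPt → ZMod 2)) := hg
  have h2 : g • b ∈ g • supports (golayCode : Set (GolayPt → ZMod 2)) := Set.smul_mem_smul_set hb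
  rwa [h1] at h2

theorem smul_mem_octads {g : Equiv.Perm GolayPt} (hg : g ∈ M24) {o : Finset GolayPt}
    (ho : o ∈ octads) : g • o ∈ octads :=
  ⟨smul_mem_supports hg ho.1, by rw [Finset.card_smul_finset]; exact ho.2⟩

theorem smul_mem_dodecads {g : Equiv.Perm GolayPt} (hg : g ∈ M24) {o : Finset GolayPt}
    (ho : o ∈ dodecads) : g • o ∈ dodecads :=
  ⟨smul_mem_supports hg ho.1, by rw [Finset.card_smul_finset]; exact ho.2⟩

theorem mem_smul_iff_of_smul_eq {g : Equiv.Perm GolayPt} {o : Finset GolayPt} (h : g • o = o)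
    (p : GolayPt) : g p ∈ o ↔ p ∈ o := by
  have : g p ∈ g • o ↔ p ∈ o := Finset.smul_mem_smul_finset_iff g
  rwa [h] at this

/-- an element of `M24` fixing five points of an octad stabilizes the octad -/
theorem smul_octad_eq {g : Equiv.Perm GolayPt} (hg : g ∈ M24) {o : Finset GolayPt}
    (ho : o ∈ octads) (F : Finset GolayPt) (hF : ∀ p ∈ F, g p = p) (h5 : 5 ≤ (o ∩ F).card) :
    g • o = o := by
  obtain ⟨s, hs, hcard⟩ := Finset.exists_subset_card_eq h5
  obtain ⟨b, -, hb⟩ := octads_steiner.2 s hcard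
  have h1 : o = b := hb o ⟨ho, fun p hp => (Finset.mem_inter.mp (hs hp)).1⟩
  have h2 : g • o = b := by
    apply hb
    refine ⟨smul_mem_octads hg ho, ?_⟩
    intro p hp
    have hp' := Finset.mem_inter.mp (hs hp)
    have : g • p ∈ g • o := Finset.smul_mem_smul_finset hp'.1
    rwa [Equiv.Perm.smul_def, hF p hp'.2] at this
  rw [h2, ← h1]

theorem fixed_of_inter {g : Equiv.Perm GolayPt} {o1 o2 F : Finset GolayPt} {r : GolayPt}
    (h1 : g • o1 = o1) (h2 : g • o2 = o2) (hF : ∀ p ∈ F, g p = p) (hr1 : r ∈ o1) (hr2 : r ∈ o2)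
    (hsub : ∀ p ∈ o1 ∩ o2, p ∈ F ∨ p = r) : g r = r := by
  have h3 : g r ∈ o1 ∩ o2 :=
    Finset.mem_inter.mpr ⟨(mem_smul_iff_of_smul_eq h1 r).mpr hr1, (mem_smul_iff_of_smul_eq h2 r).mpr hr2⟩
  rcases hsub _ h3 with h | h
  · exact g.injective (hF _ h)
  · exact h

/-! ### Fixed-point closure certificates -/

/-- the bitmask `m` is an octad -/
def isOct (m : ℕ) : Bool :=
  Nat.blt m 16777216 && Nat.beq (codeMask (m % 4096)) m && Nat.beq (pc24 m) 8

theorem isOct_mem {m : ℕ} (h : isOct m = true) : bitSet m ∈ octads := by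
  unfold isOct at h
  rw [Bool.and_eq_true, Bool.and_eq_true] at h
  obtain ⟨⟨h1, h2⟩, h3⟩ := h
  have hm : m < 2 ^ 24 := by
    have : m < 16777216 := by simpa [Nat.blt_eq] using h1
    simpa using this
  have h2' : codeMask (m % 4096) = m := Nat.eq_of_beq_eq_true h2
  have h3' : pc24 m = 8 := Nat.eq_of_beq_eq_true h3
  refine ⟨⟨wordOf m, (wordOf_mem_iff hm).mpr h2', support_wordOf m⟩, ?_⟩
  rw [card_bitSet', h3']

theorem mem_bitSet_shift {r : ℕ} {p : GolayPt} : p ∈ bitSet (1 <<< r) ↔ idx p = r := by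
  rw [mem_bitSet, Nat.one_shiftLeft, Nat.testBit_two_pow]
  simp [eq_comm]

/-- check of one step of the closure -/
def fpOK (F : ℕ) (s : ℕ × ℕ × ℕ) : Bool :=
  isOct s.1 && isOct s.2.1 && Nat.ble 5 (pc24 (s.1 &&& F)) && Nat.ble 5 (pc24 (s.2.1 &&& F)) &&
    Nat.blt s.2.2 24 && (s.1 &&& s.2.1).testBit s.2.2 &&
    Nat.beq (((s.1 &&& s.2.1) ||| F) ||| (1 <<< s.2.2)) (F ||| (1 <<< s.2.2))

/-- run the closure: each valid step adds one fixed point -/
def fpRun : List (ℕ × ℕ × ℕ) → ℕ → ℕ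
  | [], F => F
  | s :: ss, F => fpRun ss (if fpOK F s = true then F ||| (1 <<< s.2.2) else F)

theorem fpOK_sound {g : Equiv.Perm GolayPt} (hg : g ∈ M24) {F : ℕ} {s : ℕ × ℕ × ℕ}
    (hF : ∀ p ∈ bitSet F, g p = p) (h : fpOK F s = true) :
    ∀ p ∈ bitSet (F ||| (1 <<< s.2.2)), g p = p := by
  obtain ⟨m1, m2, r⟩ := s
  unfold fpOK at h
  simp only [Bool.and_eq_true] at h
  obtain ⟨⟨⟨⟨⟨⟨h1, h2⟩, h3⟩, h4⟩, h5⟩, h6⟩, h7⟩ := h
  have h3' : 5 ≤ pc24 (m1 &&& F) := Nat.le_of_ble_eq_true h3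
  have h4' : 5 ≤ pc24 (m2 &&& F) := Nat.le_of_ble_eq_true h4
  have h5' : r < 24 := by simpa [Nat.blt_eq] using h5
  have h7' : ((m1 &&& m2) ||| F) ||| (1 <<< r) = F ||| (1 <<< r) := Nat.eq_of_beq_eq_true h7
  have e1 : g • bitSet m1 = bitSet m1 := by
    apply smul_octad_eq hg (isOct_mem h1) (bitSet F) hF
    rw [← bitSet_and, card_bitSet']; exact h3'
  have e2 : g • bitSet m2 = bitSet m2 := by
    apply smul_octad_eq hg (isOct_mem h2) (bitSet F) hF
    rw [← bitSet_and, card_bitSet']; exact h4'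
  have hr : pt r ∈ bitSet m1 ∩ bitSet m2 := by
    rw [← bitSet_and, mem_bitSet, idx_pt h5']; exact h6
  have hfix : g (pt r) = pt r := by
    apply fixed_of_inter e1 e2 hF (Finset.mem_inter.mp hr).1 (Finset.mem_inter.mp hr).2
    intro p hp
    have : p ∈ bitSet (((m1 &&& m2) ||| F) ||| (1 <<< r)) := by
      rw [bitSet_or, bitSet_or, bitSet_and]
      exact Finset.mem_union_left _ (Finset.mem_union_left _ hp)
    rw [h7', bitSet_or, Finset.mem_union, mem_bitSet_shift] at this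
    rcases this with h | h
    · exact Or.inl h
    · right; rw [← h, pt_idx]
  change ∀ p ∈ bitSet (F ||| (1 <<< r)), g p = p
  intro p hp
  rw [bitSet_or, Finset.mem_union, mem_bitSet_shift] at hp
  rcases hp with h | h
  · exact hF p h
  · have : p = pt r := by rw [← h, pt_idx]
    rw [this]; exact hfix

theorem fpRun_sound {g : Equiv.Perm GolayPt} (hg : g ∈ M24) (steps : List (ℕ × ℕ × ℕ)) :
    ∀ F : ℕ, (∀ p ∈ bitSet F, g p = p) → ∀ p ∈ bitSet (fpRun steps F), g p = p := by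
  induction steps with
  | nil => intro F hF; exact hF
  | cons s ss ih =>
    intro F hF
    show ∀ p ∈ bitSet (fpRun ss (if fpOK F s = true then F ||| (1 <<< s.2.2) else F)), g p = p
    apply ih
    split_ifs with hc
    · exact fpOK_sound hg hF hc
    · exact hF

/-- a closure certificate reaching all points proves that only the identity fixes `F` pointwise -/
theorem eq_one_of_fpRun {g : Equiv.Perm GolayPt} (hg : g ∈ M24) (steps : List (ℕ × ℕ × ℕ)) (F : ℕ)
    (hF : ∀ p ∈ bitSet F, g p = p) (h : fpRun steps F = 16777215) : g = 1 := by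
  apply Equiv.ext
  intro p
  rw [Equiv.Perm.one_apply]
  apply fpRun_sound hg steps F hF
  rw [h, mem_bitSet]
  have : ∀ i < 24, Nat.testBit 16777215 i = true := by decide
  exact this _ (idx_lt p)

/-! ### The generators and the straight-line program -/

/-- the translation `x ↦ x + 1` -/
def gA : Equiv.Perm GolayPt := Equiv.optionCongr (Equiv.addRight (1 : ZMod 23))

def trL : List ℕ := [1, 2, 3, 4, 5, 6, 7, 8, 9, 10, 11, 12, 13, 14, 15, 16, 17, 18, 19, 20, 21, 22, 0, 23]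
def piL : List ℕ := [23, 22, 11, 15, 17, 9, 19, 13, 20, 5, 16, 2, 21, 7, 18, 3, 10, 4, 14, 6, 8, 12, 1, 0]
def ctL : List ℕ := [0, 18, 6, 3, 2, 21, 1, 5, 16, 12, 7, 19, 8, 9, 17, 15, 13, 11, 4, 22, 10, 20, 14, 23]

theorem hasTbl_gA : HasTbl gA trL := ⟨rfl, fun i hi => Cfsg.Agent.S0370.trTbl_ok i hi⟩
theorem hasTbl_projInv : HasTbl projInv piL := ⟨rfl, fun i hi => Cfsg.Agent.S0372.piTbl_ok i hi⟩
theorem hasTbl_cubeTwist : HasTbl cubeTwist ctL := ⟨rfl, fun i hi => Cfsg.Agent.S0373.ctTbl_ok i hi⟩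

/-- the subgroup generated by the three permutations -/
def K3 : Subgroup (Equiv.Perm GolayPt) := Subgroup.closure {gA, projInv, cubeTwist}

theorem K3_le : K3 ≤ M24 := by
  unfold K3
  rw [Subgroup.closure_le]
  rintro x (rfl | rfl | rfl)
  · exact Cfsg.Agent.S0370.result
  · exact Cfsg.Agent.S0372.result
  · exact Cfsg.Agent.S0373.result

def progL : List Ins := [
  Ins.mul 0 1, Ins.mul 0 3, Ins.mul 1 3, Ins.mul 2 3, Ins.mul 0 4, Ins.mul 1 4, Ins.mul 2 4, Ins.mul 2 5,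
  Ins.mul 0 6, Ins.mul 2 6, Ins.mul 1 7, Ins.mul 0 8, Ins.mul 0 9, Ins.mul 2 10, Ins.mul 0 11, Ins.mul 0 12,
  Ins.mul 0 13, Ins.mul 0 14, Ins.mul 1 14, Ins.mul 2 14, Ins.mul 2 17, Ins.mul 1 18, Ins.mul 0 2, Ins.mul 1 25,
  Ins.mul 1 26, Ins.mul 0 27, Ins.mul 1 28, Ins.mul 2 29, Ins.mul 1 30, Ins.mul 0 31, Ins.mul 32 32, Ins.mul 32 33,
  Ins.mul 32 34, Ins.mul 1 0, Ins.mul 1 36, Ins.mul 2 37, Ins.mul 2 38, Ins.mul 0 39, Ins.mul 2 40, Ins.mul 2 41,
  Ins.mul 42 32, Ins.mul 32 42, Ins.mul 42 42, Ins.mul 42 33, Ins.mul 32 43, Ins.mul 42 43, Ins.mul 32 44, Ins.mul 32 45,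
  Ins.mul 42 34, Ins.mul 32 47, Ins.mul 42 47, Ins.mul 42 48, Ins.mul 32 52, Ins.mul 42 52, Ins.mul 42 54, Ins.mul 32 55,
  Ins.mul 32 56, Ins.mul 2 1, Ins.mul 2 60, Ins.mul 0 61, Ins.mul 2 62, Ins.inv 6, Ins.mul 64 63, Ins.mul 65 65,
  Ins.mul 65 66, Ins.mul 65 67, Ins.mul 2 2, Ins.mul 0 69, Ins.mul 0 70, Ins.mul 0 71, Ins.mul 2 72, Ins.mul 0 73,
  Ins.mul 0 74, Ins.mul 1 75, Ins.inv 1, Ins.mul 77 76, Ins.inv 56, Ins.mul 79 78, Ins.mul 80 65, Ins.mul 65 80,
  Ins.mul 80 80, Ins.mul 80 81, Ins.mul 65 82, Ins.mul 65 83, Ins.mul 80 67, Ins.mul 65 84, Ins.mul 65 85, Ins.mul 80 86,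
  Ins.mul 80 68, Ins.mul 80 87, Ins.mul 80 89, Ins.mul 80 90, Ins.mul 65 93, Ins.mul 65 95, Ins.mul 0 37, Ins.mul 2 97,
  Ins.mul 2 98, Ins.mul 2 99, Ins.mul 1 100, Ins.mul 77 101, Ins.inv 49, Ins.mul 103 102, Ins.inv 68, Ins.mul 105 104,
  Ins.mul 106 106, Ins.mul 2 0, Ins.mul 0 108, Ins.inv 48, Ins.mul 110 109, Ins.inv 80, Ins.mul 112 111, Ins.mul 113 106,
  Ins.mul 106 113, Ins.mul 113 113, Ins.mul 113 107, Ins.mul 106 114, Ins.mul 113 114, Ins.mul 106 115, Ins.mul 106 116, Ins.mul 106 117,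
  Ins.mul 106 118, Ins.mul 113 118, Ins.mul 113 120, Ins.mul 106 121, Ins.mul 113 121, Ins.mul 106 122, Ins.mul 106 123, Ins.mul 106 125,
  Ins.mul 0 36, Ins.mul 2 131, Ins.mul 1 132, Ins.mul 0 133, Ins.mul 2 134, Ins.mul 2 135, Ins.mul 0 136, Ins.mul 2 137,
  Ins.mul 1 138, Ins.mul 0 139, Ins.inv 22, Ins.mul 141 140, Ins.inv 54, Ins.mul 143 142, Ins.inv 84, Ins.mul 145 144,
  Ins.inv 113, Ins.mul 147 146, Ins.mul 148 148, Ins.mul 148 149, Ins.mul 148 150, Ins.mul 1 69, Ins.mul 0 152, Ins.mul 0 153,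
  Ins.mul 0 154, Ins.mul 1 155, Ins.mul 0 156, Ins.mul 2 157, Ins.mul 2 158, Ins.mul 2 159, Ins.inv 14, Ins.mul 161 160,
  Ins.inv 58, Ins.mul 163 162, Ins.inv 96, Ins.mul 165 164, Ins.inv 106, Ins.mul 167 166, Ins.mul 168 148, Ins.mul 148 168,
  Ins.mul 168 168, Ins.mul 168 149, Ins.mul 148 169, Ins.mul 148 170, Ins.mul 148 171, Ins.mul 148 172, Ins.mul 168 172, Ins.mul 148 173,
  Ins.mul 148 174, Ins.mul 148 175, Ins.mul 168 151, Ins.mul 168 176, Ins.inv 3, Ins.mul 183 131, Ins.inv 59, Ins.mul 185 184,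
  Ins.inv 83, Ins.mul 187 186, Ins.inv 126, Ins.mul 189 188, Ins.inv 148, Ins.mul 191 190, Ins.mul 192 192, Ins.mul 2 7,
  Ins.mul 1 194, Ins.mul 0 195, Ins.mul 1 196, Ins.mul 0 197, Ins.inv 8, Ins.mul 199 198, Ins.inv 81, Ins.mul 201 200,
  Ins.inv 127, Ins.mul 203 202, Ins.inv 176, Ins.mul 205 204, Ins.inv 193, Ins.mul 207 206, Ins.mul 2 36, Ins.mul 0 209,
  Ins.mul 0 210, Ins.mul 2 211, Ins.mul 1 212, Ins.mul 1 213, Ins.mul 2 214, Ins.mul 1 215, Ins.mul 2 216, Ins.inv 10,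
  Ins.mul 218 217, Ins.inv 42, Ins.mul 220 219, Ins.mul 201 221, Ins.inv 122, Ins.mul 223 222, Ins.inv 172, Ins.mul 225 224,
  Ins.inv 192, Ins.mul 227 226, Ins.mul 228 208, Ins.mul 0 0, Ins.mul 1 230, Ins.mul 0 231, Ins.mul 2 232, Ins.mul 0 233,
  Ins.inv 11, Ins.mul 235 234, Ins.inv 53, Ins.mul 237 236, Ins.inv 87, Ins.mul 239 238, Ins.inv 107, Ins.mul 241 240,
  Ins.inv 170, Ins.mul 243 242, Ins.mul 207 244, Ins.mul 245 208, Ins.mul 245 228, Ins.mul 245 229, Ins.mul 0 97, Ins.mul 0 249,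
  Ins.mul 0 250, Ins.mul 1 251, Ins.mul 1 252, Ins.mul 79 253, Ins.mul 145 254, Ins.inv 118, Ins.mul 256 255, Ins.inv 171,
  Ins.mul 258 257, Ins.mul 259 208, Ins.mul 259 228, Ins.mul 259 245, Ins.mul 259 229, Ins.mul 259 246, Ins.mul 259 247, Ins.mul 259 248]

def fpSteps : List (ℕ × ℕ × ℕ) := [
  (0xc12017, 0x50803d, 22),
  (0xc12017, 0xe0206c, 13),
  (0x34200f, 0x68401e, 21),
  (0xa96009, 0xc12017, 16),
  (0xa96009, 0x2b2026, 19),
  (0x8ea003, 0x9d4006, 18),
  (0x8ea003, 0xb66020, 17),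
  (0x8ea003, 0x13e005, 15),
  (0x13e005, 0xa96009, 14),
  (0x13e005, 0x9d4006, 20),
  (0xecc040, 0x626043, 6),
  (0xd98081, 0x572082, 7),
  (0x3da100, 0xb30103, 8),
  (0x7b4200, 0x68a205, 9),
  (0x768401, 0xf82402, 10),
  (0xe3a800, 0x6d0803, 11),
  (0xc75001, 0x49f002, 12)]

def DmaskL : List ℕ := [0xffffff, 0x7fffff, 0x7ffffe, 0x7ffffc, 0x7ffff8, 0x24020, 0x7dbfd0]


/-- the tables computed by the program, and the identity table -/
def tables : List (List ℕ) := run progL [trL, piL, ctL] ++ [idT]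

theorem tables_sound : Sound K3 tables := by
  intro T hT
  unfold tables at hT
  rw [List.mem_append, List.mem_singleton] at hT
  rcases hT with hT | rfl
  · refine Sound.run progL _ ?_ T hT
    intro T hT
    simp only [List.mem_cons, List.not_mem_nil, or_false] at hT
    rcases hT with rfl | rfl | rfl
    · exact ⟨gA, Subgroup.subset_closure (by simp), hasTbl_gA⟩
    · exact ⟨projInv, Subgroup.subset_closure (by simp), hasTbl_projInv⟩
    · exact ⟨cubeTwist, Subgroup.subset_closure (by simp), hasTbl_cubeTwist⟩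
  · exact ⟨1, K3.one_mem, HasTbl.one⟩

/-! ### The base and the chain of stabilizers -/

def baseL : List ℕ := [23, 0, 1, 2, 3, 5, 4]

def base (k : ℕ) : ℕ := baseL.getD k 0

/-- the base points -/
def β (k : ℕ) : GolayPt := pt (base k)

theorem base_lt (k : ℕ) : base k < 24 := by
  unfold base baseL
  by_cases hk : k < 7
  · interval_cases k <;> decide
  · rw [List.getD_eq_default _ _ (by simpa using hk)]; norm_num

/-- the pointwise stabilizer of the first `k` base points -/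
def fixB : ℕ → Subgroup (Equiv.Perm GolayPt)
  | 0 => ⊤
  | k + 1 => fixB k ⊓ MulAction.stabilizer (Equiv.Perm GolayPt) (β k)

theorem mem_fixB {k : ℕ} {g : Equiv.Perm GolayPt} : g ∈ fixB k ↔ ∀ j < k, g (β j) = β j := by
  induction k with
  | zero => simp [fixB]
  | succ k ih =>
    rw [fixB, Subgroup.mem_inf, ih, MulAction.mem_stabilizer_iff, Equiv.Perm.smul_def]
    constructor
    · rintro ⟨h1, h2⟩ j hj
      rcases Nat.lt_succ_iff_lt_or_eq.mp hj with h | rfl
      · exact h1 j h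
      · exact h2
    · intro h
      exact ⟨fun j hj => h j (Nat.lt_succ_of_lt hj), h k (Nat.lt_succ_self k)⟩

/-- the octad through the first five base points -/
def O0 : ℕ := 0x82402f

/-- the table fixes the first `k` base points -/
def fixesB (T : List ℕ) (k : ℕ) : Bool :=
  allBelow k (fun j => Nat.beq (T.getD (base j) 0) (base j))

theorem HasTbl.mem_fixB {σ : Equiv.Perm GolayPt} {T : List ℕ} (h : HasTbl σ T) {k : ℕ}
    (hf : fixesB T k = true) : σ ∈ fixB k := by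
  rw [Golay.mem_fixB]
  intro j hj
  unfold fixesB at hf
  rw [allBelow_iff] at hf
  have := Nat.eq_of_beq_eq_true (hf j hj)
  unfold β
  rw [h.apply (base_lt j), this]

/-- the table fixes the octad `O0` pointwise and is an involution -/
def extraOK (T : List ℕ) : Bool :=
  allBelow 24 (fun i => !(O0.testBit i) || Nat.beq (T.getD i 0) i) &&
    allBelow 24 (fun i => Nat.beq ((compT T T).getD i 0) i)

theorem HasTbl.extra {σ : Equiv.Perm GolayPt} {T : List ℕ} (h : HasTbl σ T)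
    (he : extraOK T = true) : (∀ p ∈ bitSet O0, σ p = p) ∧ σ * σ = 1 := by
  unfold extraOK at he
  rw [Bool.and_eq_true, allBelow_iff, allBelow_iff] at he
  obtain ⟨h1, h2⟩ := he
  constructor
  · intro p hp
    rw [mem_bitSet] at hp
    have := h1 _ (idx_lt p)
    rw [hp] at this
    simp only [Bool.not_true, Bool.false_or] at this
    have h3 := Nat.eq_of_beq_eq_true this
    have h4 := h.apply (idx_lt p)
    rw [h3, pt_idx] at h4
    exact h4
  · apply HasTbl.ext (h.mul h)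
    refine ⟨by simp [compT, h.1], ?_⟩
    intro i hi
    rw [Equiv.Perm.one_apply, idx_pt hi]
    exact (Nat.eq_of_beq_eq_true (h2 i hi)).symm

/-- some table of the list fixes the first `k` base points and maps the next one to `δ` -/
def hasTrans (L : List (List ℕ)) (k δ : ℕ) : Bool :=
  L.any (fun T => fixesB T k && Nat.beq (T.getD (base k) 0) δ && (Nat.blt k 6 || extraOK T))

def Dmask (k : ℕ) : ℕ := DmaskL.getD k 0

def levelOK (L : List (List ℕ)) (k : ℕ) : Bool :=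
  allBelow 24 (fun δ => !((Dmask k).testBit δ) || hasTrans L k δ)

set_option maxRecDepth 100000 in
theorem cert : allBelow 7 (fun k => levelOK tables k) = true := by
  decide +kernel

theorem fp_cert : fpRun fpSteps 0x80003F = 16777215 := by
  decide +kernel

end Cfsg.Agent.Lib.Helper3.Golay
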