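import Mathlib
import Cfsg.Prelude.Def_Sporadic_a
import Cfsg.Agent.Lib.Helper3.Golay.M24Chain

set_option autoImplicit false

/-! Consequences of the stabilizer chain certificate: the order of `M24`, generation, the orders of
the point stabilizers of the chain, transversals. -/

namespace Cfsg.Agent.Lib.Helper3.Golay

open Cfsg
open scoped Pointwise

/-- the transversal elements: for `k < 7` and `δ` in the `k`-th orbit there is an element of `K3`
fixing the first `k` base points and mapping the next one to `δ` -/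
theorem exists_trans {k : ℕ} (hk : k < 7) {δ : ℕ} (hδ : δ < 24) (hD : (Dmask k).testBit δ = true) :
    ∃ σ ∈ K3, σ ∈ fixB k ∧ σ (β k) = pt δ ∧
      (6 ≤ k → (∀ p ∈ bitSet O0, σ p = p) ∧ σ * σ = 1) := by
  have h1 := (allBelow_iff _ _).mp cert k hk
  unfold levelOK at h1
  have h2 := (allBelow_iff _ _).mp h1 δ hδ
  rw [hD] at h2
  simp only [Bool.not_true, Bool.false_or] at h2
  unfold hasTrans at h2
  rw [List.any_eq_true] at h2
  obtain ⟨T, hT, h3⟩ := h2
  rw [Bool.and_eq_true, Bool.and_eq_true] at h3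
  obtain ⟨⟨h4, h5⟩, h6⟩ := h3
  obtain ⟨σ, hσ, hσT⟩ := tables_sound T hT
  refine ⟨σ, hσ, hσT.mem_fixB h4, ?_, ?_⟩
  · unfold β
    rw [hσT.apply (base_lt k), Nat.eq_of_beq_eq_true h5]
  · intro h6k
    rw [Bool.or_eq_true] at h6
    rcases h6 with h | h
    · have : k < 6 := by simpa [Nat.blt_eq] using h
      omega
    · exact hσT.extra h

theorem base_injective : ∀ j < 7, ∀ k < 7, base j = base k → j = k := by decide

theorem β_injective {j k : ℕ} (hj : j < 7) (hk : k < 7) (h : β j = β k) : j = k := by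
  apply base_injective j hj k hk
  have := congrArg idx h
  unfold β at this
  rwa [idx_pt (base_lt j), idx_pt (base_lt k)] at this

theorem O0_mem : bitSet O0 ∈ octads := isOct_mem (by decide +kernel)

theorem Dmask_aux : ∀ k < 7, ∀ p : GolayPt, (∀ j < k, p ≠ β j) →
    (5 ≤ k → (O0.testBit (idx p) = true ↔ k = 5)) → (Dmask k).testBit (idx p) = true := by
  decide +kernel

theorem F5_aux : ∀ p : GolayPt, Nat.testBit 0x80000F (idx p) = true → ∃ j < 5, p = β j := by
  decide +kernel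

/-- an element of `M24` fixing the first five base points stabilizes the octad `O0` -/
theorem smul_O0 {g : Equiv.Perm GolayPt} (hg : g ∈ M24) {k : ℕ} (hk : 5 ≤ k) (hf : g ∈ fixB k) :
    g • bitSet O0 = bitSet O0 := by
  apply smul_octad_eq hg O0_mem (bitSet 0x80000F)
  · intro p hp
    rw [mem_bitSet] at hp
    obtain ⟨j, hj, rfl⟩ := F5_aux p hp
    exact mem_fixB.mp hf j (by omega)
  · rw [← bitSet_and, card_bitSet']
    decide +kernel

theorem hU : ∀ k < 7, ∀ g ∈ M24 ⊓ fixB k, g • β k ∈ bitSet (Dmask k) := by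
  intro k hk g hg
  rw [Equiv.Perm.smul_def, mem_bitSet]
  apply Dmask_aux k hk
  · intro j hj h
    have h1 := mem_fixB.mp hg.2 j hj
    rw [← h1] at h
    have := β_injective hk (by omega) (g.injective h)
    omega
  · intro h5
    have h1 := smul_O0 hg.1 h5 hg.2
    rw [← mem_bitSet, mem_smul_iff_of_smul_eq h1, mem_bitSet]
    have : k = 5 ∨ k = 6 := by omega
    rcases this with rfl | rfl
    · simp only [iff_true]; decide +kernel
    · simp only [show (6 : ℕ) ≠ 5 by norm_num, iff_false]; decide +kernel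

theorem hL : ∀ k < 7, ∀ δ ∈ bitSet (Dmask k), ∃ u ∈ K3 ⊓ fixB k, u • β k = δ := by
  intro k hk δ hδ
  rw [mem_bitSet] at hδ
  obtain ⟨σ, h1, h2, h3, -⟩ := exists_trans hk (idx_lt δ) hδ
  exact ⟨σ, ⟨h1, h2⟩, by rw [Equiv.Perm.smul_def, h3, pt_idx]⟩

theorem fix7_aux : ∀ p : GolayPt, Nat.testBit 0x80003F (idx p) = true → ∃ j < 7, p = β j := by
  decide +kernel

theorem hT : M24 ⊓ fixB 7 = ⊥ := by
  rw [eq_bot_iff]
  intro g hg
  rw [Subgroup.mem_bot]
  apply eq_one_of_fpRun hg.1 fpSteps 0x80003F _ fp_cert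
  intro p hp
  rw [mem_bitSet] at hp
  obtain ⟨j, hj, rfl⟩ := fix7_aux p hp
  exact mem_fixB.mp hg.2 j hj

theorem chain_M24 : ∀ m ≤ 7, K3 ⊓ fixB (7 - m) = M24 ⊓ fixB (7 - m) ∧
    Nat.card ↥(M24 ⊓ fixB (7 - m)) = ∏ j ∈ Finset.Ico (7 - m) 7, (bitSet (Dmask j)).card :=
  chain M24 K3 K3_le β (fun k => bitSet (Dmask k)) 7 fixB (fun _ => rfl) hU hL hT

theorem K3_inf_fixB {k : ℕ} (hk : k ≤ 7) : K3 ⊓ fixB k = M24 ⊓ fixB k := by
  have := (chain_M24 (7 - k) (by omega)).1
  rwa [show 7 - (7 - k) = k by omega] at this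

theorem card_Dmask : ∀ j < 7, (bitSet (Dmask j)).card = [24, 23, 22, 21, 20, 3, 16].getD j 0 := by
  intro j hj
  rw [card_bitSet']
  interval_cases j <;> decide +kernel

theorem card_M24_inf_fixB {k : ℕ} (hk : k ≤ 7) :
    Nat.card ↥(M24 ⊓ fixB k) = ∏ j ∈ Finset.Ico k 7, [24, 23, 22, 21, 20, 3, 16].getD j 0 := by
  have := (chain_M24 (7 - k) (by omega)).2
  rw [show 7 - (7 - k) = k by omega] at this
  rw [this]
  apply Finset.prod_congr rfl
  intro j hj
  rw [Finset.mem_Ico] at hj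
  exact card_Dmask j hj.2

theorem K3_eq : K3 = M24 := by
  have := K3_inf_fixB (Nat.zero_le 7)
  simpa [fixB] using this

theorem card_M24 : Nat.card M24 = 244823040 := by
  have := card_M24_inf_fixB (Nat.zero_le 7)
  have h2 : M24 ⊓ fixB 0 = M24 := by simp [fixB]
  rw [h2] at this
  rw [this]
  decide

end Cfsg.Agent.Lib.Helper3.Golay
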