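import Mathlib
import Cfsg.Prelude.Def_Sporadic_a
import Cfsg.Agent.Lib.Helper3.Golay.M24Order

set_option autoImplicit false

/-! `M24` is 5-transitive on the 24 points and transitive on octads. -/

namespace Cfsg.Agent.Lib.Helper3.Golay

open Cfsg
open scoped Pointwise

/-- the core of 5-transitivity: the first `k ≤ 5` base points can be mapped to any `k` distinct
points -/
theorem exists_map_base (x : ℕ → GolayPt) :
    ∀ k ≤ 5, (∀ i < k, ∀ j < k, x i = x j → i = j) → ∃ g ∈ M24, ∀ j < k, g (β j) = x j := by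
  intro k
  induction k with
  | zero => intro _ _; exact ⟨1, M24.one_mem, by simp⟩
  | succ k ih =>
    intro hk hinj
    obtain ⟨g, hg, hgx⟩ := ih (by omega) (fun i hi j hj h => hinj i (by omega) j (by omega) h)
    have hy : (Dmask k).testBit (idx (g⁻¹ (x k))) = true := by
      apply Dmask_aux k (by omega)
      · intro j hj h
        have h1 : x k = x j := by rw [← hgx j hj, ← h]; simp
        have := hinj k (by omega) j (by omega) h1
        omega
      · intro h5; omega
    obtain ⟨u, hu, huf, hux, -⟩ := exists_trans (show k < 7 by omega) (idx_lt _) hy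
    refine ⟨g * u, M24.mul_mem hg (K3_le hu), ?_⟩
    intro j hj
    rw [Equiv.Perm.mul_apply]
    rcases Nat.lt_succ_iff_lt_or_eq.mp hj with h | rfl
    · rw [mem_fixB.mp huf j h, hgx j h]
    · rw [hux, pt_idx]; simp

/-- `k ≤ 5` distinct points can be mapped to any `k` distinct points -/
theorem exists_map (x y : ℕ → GolayPt) (k : ℕ) (hk : k ≤ 5)
    (hx : ∀ i < k, ∀ j < k, x i = x j → i = j) (hy : ∀ i < k, ∀ j < k, y i = y j → i = j) :
    ∃ g ∈ M24, ∀ j < k, g (x j) = y j := by
  obtain ⟨g1, hg1, h1⟩ := exists_map_base x k hk hx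
  obtain ⟨g2, hg2, h2⟩ := exists_map_base y k hk hy
  refine ⟨g2 * g1⁻¹, M24.mul_mem hg2 (M24.inv_mem hg1), ?_⟩
  intro j hj
  rw [Equiv.Perm.mul_apply, ← h1 j hj, ← h2 j hj]
  simp

theorem M24_five_transitive : MulAction.IsMultiplyPretransitive M24 GolayPt 5 := by
  refine ⟨fun x y => ?_⟩
  obtain ⟨g, hg, h⟩ := exists_map (fun i => if h : i < 5 then x ⟨i, h⟩ else none)
    (fun i => if h : i < 5 then y ⟨i, h⟩ else none) 5 le_rfl
    (by
      intro i hi j hj h
      simp only [hi, hj, dif_pos] at h
      simpa using x.injective h)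
    (by
      intro i hi j hj h
      simp only [hi, hj, dif_pos] at h
      simpa using y.injective h)
  refine ⟨⟨g, hg⟩, ?_⟩
  ext i : 1
  have := h i.1 i.2
  simp only [i.2, dif_pos, Fin.eta] at this
  rw [Function.Embedding.smul_apply]
  exact this

/-- transitivity on points -/
theorem exists_map_one (p q : GolayPt) : ∃ g ∈ M24, g p = q := by
  obtain ⟨g, hg, h⟩ := exists_map (fun _ => p) (fun _ => q) 1 (by norm_num)
    (by intro i hi j hj _; omega) (by intro i hi j hj _; omega)
  exact ⟨g, hg, h 0 (by norm_num)⟩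

/-- 2-transitivity -/
theorem exists_map_two {p p' q q' : GolayPt} (hp : p ≠ p') (hq : q ≠ q') :
    ∃ g ∈ M24, g p = q ∧ g p' = q' := by
  obtain ⟨g, hg, h⟩ := exists_map (fun i => if i = 0 then p else p') (fun i => if i = 0 then q else q')
    2 (by norm_num)
    (by
      intro i hi j hj h
      interval_cases i <;> interval_cases j <;> simp_all)
    (by
      intro i hi j hj h
      interval_cases i <;> interval_cases j <;> simp_all)
  exact ⟨g, hg, by simpa using h 0 (by norm_num), by simpa using h 1 (by norm_num)⟩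

/-- transitivity on octads -/
theorem exists_map_octad {o o' : Finset GolayPt} (ho : o ∈ octads) (ho' : o' ∈ octads) :
    ∃ g ∈ M24, g • o = o' := by
  classical
  obtain ⟨s, hs, hscard⟩ := Finset.exists_subset_card_eq (show 5 ≤ o.card by rw [ho.2]; norm_num)
  obtain ⟨s', hs', hscard'⟩ := Finset.exists_subset_card_eq (show 5 ≤ o'.card by rw [ho'.2]; norm_num)
  let e := s.equivFinOfCardEq hscard
  let e' := s'.equivFinOfCardEq hscard'
  obtain ⟨g, hg, h⟩ := exists_map (fun i => if h : i < 5 then (e.symm ⟨i, h⟩ : GolayPt) else none)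
    (fun i => if h : i < 5 then (e'.symm ⟨i, h⟩ : GolayPt) else none) 5 le_rfl
    (by
      intro i hi j hj h
      simp only [hi, hj, dif_pos] at h
      simpa using e.symm.injective (Subtype.ext h))
    (by
      intro i hi j hj h
      simp only [hi, hj, dif_pos] at h
      simpa using e'.symm.injective (Subtype.ext h))
  refine ⟨g, hg, ?_⟩
  obtain ⟨b, -, hb⟩ := octads_steiner.2 s' hscard'
  have h1 : o' = b := hb o' ⟨ho', hs'⟩
  have h2 : g • o = b := by
    apply hb
    refine ⟨smul_mem_octads hg ho, ?_⟩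
    intro p hp
    have hi := (e' ⟨p, hp⟩).2
    have := h (e' ⟨p, hp⟩).1 hi
    simp only [hi, dif_pos, Fin.eta, Equiv.symm_apply_apply] at this
    rw [← this]
    exact Finset.smul_mem_smul_finset (hs (e.symm (e' ⟨p, hp⟩)).2)
  rw [h2, h1]

theorem card_pts : Fintype.card GolayPt = 24 := by decide

theorem card_stab_point (p : GolayPt) :
    Nat.card ↥(M24 ⊓ MulAction.stabilizer (Equiv.Perm GolayPt) p) = 10200960 := by
  have h := card_of_orbit_eq M24 p Finset.univ (fun _ _ => Finset.mem_univ _) (fun δ _ => by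
     obtain ⟨g, hg, h⟩ := exists_map_one p δ; exact ⟨g, hg, h⟩)
  rw [card_M24, Finset.card_univ, card_pts] at h
  omega

theorem card_stab_two {p q : GolayPt} (hpq : p ≠ q) :
    Nat.card ↥(M24 ⊓ MulAction.stabilizer (Equiv.Perm GolayPt) p ⊓
      MulAction.stabilizer (Equiv.Perm GolayPt) q) = 443520 := by
  have h := card_of_orbit_eq (M24 ⊓ MulAction.stabilizer (Equiv.Perm GolayPt) p) q
    (Finset.univ.erase p)
    (by
      intro g hg
      rw [Finset.mem_erase]
      refine ⟨?_, Finset.mem_univ _⟩
      intro h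
      have h2 : g • p = p := hg.2
      rw [← h2] at h
      exact hpq (smul_left_cancel g h).symm)
    (by
      intro δ hδ
      rw [Finset.mem_erase] at hδ
      obtain ⟨g, hg, h1, h2⟩ := exists_map_two hpq (Ne.symm hδ.1)
      exact ⟨g, ⟨hg, h1⟩, h2⟩)
  rw [card_stab_point, Finset.card_erase_of_mem (Finset.mem_univ _), Finset.card_univ, card_pts] at h
  omega

end Cfsg.Agent.Lib.Helper3.Golay
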