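import Mathlib
import Cfsg.Prelude.Def_Sporadic_a
import Cfsg.Agent.Lib.Helper3.Golay.M24Trans

set_option autoImplicit false

/-! List forms of the multiple transitivity of `M24`, and transitivity on octads with marked
points. -/

namespace Cfsg.Agent.Lib.Helper3.Golay

open Cfsg
open scoped Pointwise

/-- a list of at most five distinct points can be mapped to any other such list of the same length -/
theorem exists_map_list (l l' : List GolayPt) (hl : l.Nodup) (hl' : l'.Nodup)
    (hlen : l.length = l'.length) (h5 : l.length ≤ 5) : ∃ g ∈ M24, l.map g = l' := by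
  obtain ⟨g, hg, hmap⟩ := exists_map (fun i => l.getD i none) (fun i => l'.getD i none) l.length h5
    (by
      intro i hi j hj h
      rw [List.getD_eq_getElem _ _ hi, List.getD_eq_getElem _ _ hj] at h
      exact (List.Nodup.getElem_inj_iff hl).mp h)
    (by
      intro i hi j hj h
      rw [hlen] at hi hj
      rw [List.getD_eq_getElem _ _ hi, List.getD_eq_getElem _ _ hj] at h
      exact (List.Nodup.getElem_inj_iff hl').mp h)
  refine ⟨g, hg, ?_⟩
  apply List.ext_getElem (by simp [hlen])
  intro i h1 h2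
  have hi : i < l.length := by simpa using h1
  have := hmap i hi
  rw [List.getD_eq_getElem _ _ hi, List.getD_eq_getElem _ _ (by rw [← hlen]; exact hi)] at this
  simpa using this

/-- extension of a list of distinct points of a set to a list of five distinct points of the set -/
theorem exists_extend (o : Finset GolayPt) (ho : 8 ≤ o.card) (l : List GolayPt) (hl : l.Nodup)
    (h5 : l.length ≤ 5) (hlo : ∀ p ∈ l, p ∈ o) :
    ∃ r : List GolayPt, (l ++ r).Nodup ∧ (l ++ r).length = 5 ∧ ∀ p ∈ l ++ r, p ∈ o := by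
  classical
  have hcard : 5 - l.length ≤ (o \ l.toFinset).card := by
    have h1 : (o \ l.toFinset).card = o.card - (l.toFinset ∩ o).card := by
      rw [Finset.card_sdiff, Finset.inter_comm]
    have h2 : (l.toFinset ∩ o).card ≤ l.length :=
      le_trans (Finset.card_le_card Finset.inter_subset_left) (List.toFinset_card_le l)
    omega
  obtain ⟨s, hs, hscard⟩ := Finset.exists_subset_card_eq hcard
  refine ⟨s.toList, ?_, ?_, ?_⟩
  · rw [List.nodup_append]
    refine ⟨hl, s.nodup_toList, ?_⟩
    intro a ha b hb hab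
    rw [Finset.mem_toList] at hb
    have := hs hb
    rw [Finset.mem_sdiff, List.mem_toFinset] at this
    exact this.2 (hab ▸ ha)
  · rw [List.length_append, Finset.length_toList, hscard]; omega
  · intro p hp
    rw [List.mem_append] at hp
    rcases hp with h | h
    · exact hlo p h
    · rw [Finset.mem_toList] at h
      exact (Finset.mem_sdiff.mp (hs h)).1

/-- transitivity on octads with at most five marked points -/
theorem exists_map_octad_list {o o' : Finset GolayPt} (ho : o ∈ octads) (ho' : o' ∈ octads)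
    (l l' : List GolayPt) (hl : l.Nodup) (hl' : l'.Nodup) (hlen : l.length = l'.length)
    (h5 : l.length ≤ 5) (hlo : ∀ p ∈ l, p ∈ o) (hlo' : ∀ p ∈ l', p ∈ o') :
    ∃ g ∈ M24, g • o = o' ∧ l.map g = l' := by
  classical
  obtain ⟨r, hr1, hr2, hr3⟩ := exists_extend o (by rw [ho.2]) l hl h5 hlo
  obtain ⟨r', hr1', hr2', hr3'⟩ := exists_extend o' (by rw [ho'.2]) l' hl' (by omega) hlo'
  obtain ⟨g, hg, hmap⟩ := exists_map_list (l ++ r) (l' ++ r') hr1 hr1' (by omega) (by omega)
  rw [List.map_append] at hmap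
  have hmap' := (List.append_inj hmap (by simp [hlen])).1
  refine ⟨g, hg, ?_, hmap'⟩
  have hcard : (l' ++ r').toFinset.card = 5 := by
    rw [List.toFinset_card_of_nodup hr1', hr2']
  obtain ⟨b, -, hb⟩ := octads_steiner.2 _ hcard
  have h1 : o' = b := hb o' ⟨ho', fun p hp => hr3' p (List.mem_toFinset.mp hp)⟩
  have h2 : g • o = b := by
    apply hb
    refine ⟨smul_mem_octads hg ho, ?_⟩
    intro p hp
    rw [List.mem_toFinset, ← hmap, ← List.map_append, List.mem_map] at hp
    obtain ⟨q, hq, rfl⟩ := hp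
    exact Finset.smul_mem_smul_finset (hr3 q hq)
  rw [h2, h1]

theorem toFinset_map_toList (g : Equiv.Perm GolayPt) (s : Finset GolayPt) :
    (s.toList.map g).toFinset = g • s := by
  ext p
  rw [List.mem_toFinset, List.mem_map, Finset.mem_smul_finset]
  constructor
  · rintro ⟨q, hq, rfl⟩
    exact ⟨q, Finset.mem_toList.mp hq, rfl⟩
  · rintro ⟨q, hq, rfl⟩
    exact ⟨q, Finset.mem_toList.mpr hq, rfl⟩

/-- two sets in the same position relative to a set `s` (at most five points in all) are mapped to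
one another by an element of `M24` stabilizing `s` -/
theorem exists_map_rel (s y y' : Finset GolayPt) (h1 : (s ∩ y).card = (s ∩ y').card)
    (h2 : (s \ y).card = (s \ y').card) (h3 : (y \ s).card = (y' \ s).card)
    (h5 : (s ∩ y).card + (s \ y).card + (y \ s).card ≤ 5) :
    ∃ g ∈ M24, g • s = s ∧ g • y = y' := by
  classical
  have hnd : ∀ t : Finset GolayPt,
      ((s ∩ t).toList ++ ((s \ t).toList ++ (t \ s).toList)).Nodup := by
    intro t
    rw [List.nodup_append]
    refine ⟨Finset.nodup_toList _, ?_, ?_⟩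
    · rw [List.nodup_append]
      refine ⟨Finset.nodup_toList _, Finset.nodup_toList _, ?_⟩
      intro a ha b hb hab
      rw [Finset.mem_toList, Finset.mem_sdiff] at ha hb
      exact hb.2 (hab ▸ ha.1)
    · intro a ha b hb hab
      rw [Finset.mem_toList, Finset.mem_inter] at ha
      rw [List.mem_append, Finset.mem_toList, Finset.mem_toList, Finset.mem_sdiff,
        Finset.mem_sdiff] at hb
      rcases hb with hb | hb
      · exact hb.2 (hab ▸ ha.2)
      · exact hb.2 (hab ▸ ha.1)
  obtain ⟨g, hg, hmap⟩ := exists_map_list _ _ (hnd y) (hnd y')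
    (by simp only [List.length_append, Finset.length_toList]; omega)
    (by simp only [List.length_append, Finset.length_toList]; omega)
  rw [List.map_append, List.map_append] at hmap
  obtain ⟨e1, e23⟩ := List.append_inj hmap (by simp [h1])
  obtain ⟨e2, e3⟩ := List.append_inj e23 (by simp [h2])
  have f1 : g • (s ∩ y) = s ∩ y' := by
    rw [← toFinset_map_toList, e1, Finset.toList_toFinset]
  have f2 : g • (s \ y) = s \ y' := by
    rw [← toFinset_map_toList, e2, Finset.toList_toFinset]
  have f3 : g • (y \ s) = y' \ s := by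
    rw [← toFinset_map_toList, e3, Finset.toList_toFinset]
  refine ⟨g, hg, ?_, ?_⟩
  · have : ∀ t : Finset GolayPt, s = (s ∩ t) ∪ (s \ t) := by
      intro t
      rw [Finset.union_comm]
      exact (Finset.sdiff_union_inter s t).symm
    conv_lhs => rw [this y]
    rw [Finset.smul_finset_union, f1, f2, ← this y']
  · have : ∀ t : Finset GolayPt, t = (s ∩ t) ∪ (t \ s) := by
      intro t
      rw [Finset.union_comm, Finset.inter_comm]
      exact (Finset.sdiff_union_inter t s).symm
    conv_lhs => rw [this y]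
    rw [Finset.smul_finset_union, f1, f3, ← this y']

/-- `M24` is transitive on the sets of a given size at most five -/
theorem exists_map_finset (s y : Finset GolayPt) (h : s.card = y.card) (h5 : s.card ≤ 5) :
    ∃ g ∈ M24, g • s = y := by
  obtain ⟨g, hg, hmap⟩ := exists_map_list s.toList y.toList (Finset.nodup_toList _)
    (Finset.nodup_toList _) (by simp [h]) (by simpa using h5)
  refine ⟨g, hg, ?_⟩
  rw [← toFinset_map_toList, hmap, Finset.toList_toFinset]

theorem Dmask6_aux : ∀ p : GolayPt, O0.testBit (idx p) = false → (Dmask 6).testBit (idx p) = true := by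
  decide +kernel

theorem β6_eq : β 6 = pt 4 := rfl

/-- the pointwise stabilizer of the base octad is transitive on the complement -/
theorem exists_fix_O0_map {y : GolayPt} (hy : y ∉ bitSet O0) :
    ∃ σ ∈ M24, (∀ p ∈ bitSet O0, σ p = p) ∧ σ • bitSet O0 = bitSet O0 ∧ σ (pt 4) = y := by
  have h1 : (Dmask 6).testBit (idx y) = true := by
    apply Dmask6_aux
    rw [mem_bitSet] at hy
    simpa using hy
  obtain ⟨σ, hσ, -, hmap, hex⟩ := exists_trans (show 6 < 7 by norm_num) (idx_lt y) h1
  have hfix := (hex le_rfl).1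
  refine ⟨σ, K3_le hσ, hfix, ?_, ?_⟩
  · apply smul_octad_eq (K3_le hσ) O0_mem (bitSet O0) hfix
    rw [Finset.inter_self, O0_mem.2]; norm_num
  · rw [← β6_eq, hmap, pt_idx]

/-- transitivity on octads with marked points inside and one marked point outside -/
theorem exists_map_octad_list_out {o : Finset GolayPt} (ho : o ∈ octads)
    (l l' : List GolayPt) (hl : l.Nodup) (hl' : l'.Nodup) (hlen : l.length = l'.length)
    (h5 : l.length ≤ 5) (hlo : ∀ p ∈ l, p ∈ bitSet O0) (hlo' : ∀ p ∈ l', p ∈ o)
    {x : GolayPt} (hx : x ∉ o) :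
    ∃ t ∈ M24, t • bitSet O0 = o ∧ l.map t = l' ∧ t (pt 4) = x := by
  obtain ⟨t₁, ht₁, hto, hmap⟩ := exists_map_octad_list O0_mem ho l l' hl hl' hlen h5 hlo hlo'
  have hy : t₁⁻¹ x ∉ bitSet O0 := by
    intro h
    apply hx
    rw [← hto]
    have : t₁ • (t₁⁻¹ x) ∈ t₁ • bitSet O0 := Finset.smul_mem_smul_finset h
    simpa using this
  obtain ⟨σ, hσ, hfix, hσO, hσy⟩ := exists_fix_O0_map hy
  refine ⟨t₁ * σ, M24.mul_mem ht₁ hσ, ?_, ?_, ?_⟩
  · rw [mul_smul, hσO, hto]
  · rw [← hmap]
    apply List.map_congr_left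
    intro p hp
    rw [Equiv.Perm.mul_apply, hfix p (hlo p hp)]
  · rw [Equiv.Perm.mul_apply, hσy]
    simp

/-- the first five base points, as a list -/
def base5 : List GolayPt := [β 0, β 1, β 2, β 3, β 4]

theorem base5_nodup : base5.Nodup := by decide

theorem base5_mem_O0 : ∀ p ∈ base5, p ∈ bitSet O0 := by
  intro p hp
  rw [mem_bitSet]
  revert p
  decide +kernel

theorem mem_base5_iff (p : GolayPt) : p ∈ base5 ↔ ∃ j < 5, p = β j := by
  revert p; decide +kernel

theorem D5_aux : ∀ p : GolayPt, O0.testBit (idx p) = true → p ∉ base5 →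
    (Dmask 5).testBit (idx p) = true := by
  decide +kernel

/-- the pointwise stabilizer of the first five base points is transitive on the other three points
of the base octad, and on the sixteen points outside it -/
theorem exists_fix5_map {y y' : GolayPt} (hy : y ∉ base5) (hy' : y' ∉ base5)
    (h : y ∈ bitSet O0 ↔ y' ∈ bitSet O0) :
    ∃ σ ∈ M24, (∀ p ∈ base5, σ p = p) ∧ σ y = y' := by
  by_cases hO : y ∈ bitSet O0
  · have hO' := h.mp hO
    obtain ⟨σ, hσ, hf, hm, -⟩ := exists_trans (show 5 < 7 by norm_num) (idx_lt y)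
      (D5_aux y (mem_bitSet.mp hO) hy)
    obtain ⟨σ', hσ', hf', hm', -⟩ := exists_trans (show 5 < 7 by norm_num) (idx_lt y')
      (D5_aux y' (mem_bitSet.mp hO') hy')
    refine ⟨σ' * σ⁻¹, M24.mul_mem (K3_le hσ') (M24.inv_mem (K3_le hσ)), ?_, ?_⟩
    · intro p hp
      obtain ⟨j, hj, rfl⟩ := (mem_base5_iff p).mp hp
      rw [Equiv.Perm.mul_apply, Equiv.Perm.inv_eq_iff_eq.mpr (mem_fixB.mp hf j hj).symm,
        mem_fixB.mp hf' j hj]
    · rw [Equiv.Perm.mul_apply, Equiv.Perm.inv_eq_iff_eq.mpr (by rw [hm, pt_idx]), hm', pt_idx]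
  · have hO' : y' ∉ bitSet O0 := fun h' => hO (h.mpr h')
    obtain ⟨σ, hσ, hf, -, hm⟩ := exists_fix_O0_map hO
    obtain ⟨σ', hσ', hf', -, hm'⟩ := exists_fix_O0_map hO'
    refine ⟨σ' * σ⁻¹, M24.mul_mem hσ' (M24.inv_mem hσ), ?_, ?_⟩
    · intro p hp
      have hpO := base5_mem_O0 p hp
      rw [Equiv.Perm.mul_apply, Equiv.Perm.inv_eq_iff_eq.mpr (hf p hpO).symm, hf' p hpO]
    · rw [Equiv.Perm.mul_apply, Equiv.Perm.inv_eq_iff_eq.mpr hm.symm, hm']

/-- transitivity on sextuples of distinct points: five points of an octad and a sixth point, inside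
or outside the octad -/
theorem exists_map_six {o o' : Finset GolayPt} (ho : o ∈ octads) (ho' : o' ∈ octads)
    (l l' : List GolayPt) (x x' : GolayPt) (hl : (l ++ [x]).Nodup) (hl' : (l' ++ [x']).Nodup)
    (hlen : l.length = 5) (hlen' : l'.length = 5) (hlo : ∀ p ∈ l, p ∈ o) (hlo' : ∀ p ∈ l', p ∈ o')
    (hx : x ∈ o ↔ x' ∈ o') : ∃ g ∈ M24, g • o = o' ∧ l.map g = l' ∧ g x = x' := by
  have hnd : l.Nodup := (List.nodup_append.mp hl).1
  have hnd' : l'.Nodup := (List.nodup_append.mp hl').1
  have hxl : x ∉ l := fun h => (List.nodup_append.mp hl).2.2 x h x (by simp) rfl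
  have hxl' : x' ∉ l' := fun h => (List.nodup_append.mp hl').2.2 x' h x' (by simp) rfl
  obtain ⟨g₁, hg₁, hgo, hmap₁⟩ := exists_map_octad_list ho ho' l l' hnd hnd' (by omega) (by omega)
    hlo hlo'
  obtain ⟨t, ht, hto, hmapt⟩ := exists_map_octad_list O0_mem ho' base5 l' base5_nodup hnd'
    (by rw [hlen']; rfl) (by decide) base5_mem_O0 hlo'
  have hy1 : t⁻¹ (g₁ x) ∉ base5 := by
    intro h
    have : t (t⁻¹ (g₁ x)) ∈ base5.map t := List.mem_map_of_mem h
    have e : t (t⁻¹ (g₁ x)) = g₁ x := by simp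
    rw [hmapt, ← hmap₁, e, List.mem_map] at this
    obtain ⟨q, hq, hqx⟩ := this
    exact hxl (g₁.injective hqx ▸ hq)
  have hy2 : t⁻¹ x' ∉ base5 := by
    intro h
    have : t (t⁻¹ x') ∈ base5.map t := List.mem_map_of_mem h
    have e : t (t⁻¹ x') = x' := by simp
    rw [hmapt, e] at this
    exact hxl' this
  have hiff : t⁻¹ (g₁ x) ∈ bitSet O0 ↔ t⁻¹ x' ∈ bitSet O0 := by
    have e1 : ∀ z : GolayPt, t⁻¹ z ∈ bitSet O0 ↔ z ∈ o' := by
      intro z
      rw [← hto]
      show t⁻¹ • z ∈ bitSet O0 ↔ z ∈ t • bitSet O0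
      exact Finset.inv_smul_mem_iff
    have e2 : g₁ x ∈ o' ↔ x ∈ o := by
      rw [← hgo]
      show g₁ • x ∈ g₁ • o ↔ x ∈ o
      exact Finset.smul_mem_smul_finset_iff g₁
    rw [e1, e1, e2, hx]
  obtain ⟨σ, hσ, hfix, hσy⟩ := exists_fix5_map hy1 hy2 hiff
  have hfix' : ∀ p ∈ l', (t * σ * t⁻¹) p = p := by
    intro p hp
    rw [← hmapt, List.mem_map] at hp
    obtain ⟨q, hq, rfl⟩ := hp
    simp [Equiv.Perm.mul_apply, hfix q hq]
  have hM : t * σ * t⁻¹ ∈ M24 := M24.mul_mem (M24.mul_mem ht hσ) (M24.inv_mem ht)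
  refine ⟨t * σ * t⁻¹ * g₁, M24.mul_mem hM hg₁, ?_, ?_, ?_⟩
  · rw [mul_smul, hgo]
    -- the conjugate fixes five points of `o'`
    apply smul_octad_eq hM ho' l'.toFinset
    · intro p hp
      exact hfix' p (List.mem_toFinset.mp hp)
    · have : l'.toFinset ⊆ o' ∩ l'.toFinset := by
        intro p hp
        exact Finset.mem_inter.mpr ⟨hlo' p (List.mem_toFinset.mp hp), hp⟩
      calc 5 = l'.toFinset.card := by rw [List.toFinset_card_of_nodup hnd', hlen']
        _ ≤ _ := Finset.card_le_card this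
  · rw [← hmap₁]
    apply List.map_congr_left
    intro p hp
    have : g₁ p ∈ l' := by rw [← hmap₁]; exact List.mem_map_of_mem hp
    have := hfix' _ this
    rw [Equiv.Perm.mul_apply]
    exact this
  · simp only [Equiv.Perm.mul_apply]
    rw [hσy]
    simp

end Cfsg.Agent.Lib.Helper3.Golay
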