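import Mathlib
import Cfsg.Prelude.Def_Sporadic_a
import Cfsg.Agent.Lib.Helper3.Golay.Perm
import Cfsg.Agent.Lib.Helper3.Golay.SLP

set_option autoImplicit false

/-! Permutations of the 24 points defined from tables, and direct certification of membership in
`M24` and of the image of a set. -/

namespace Cfsg.Agent.Lib.Helper3.Golay

open Cfsg
open scoped Pointwise

theorem okInv_spec {T T' : List ℕ} (h : okInv T T' = true) :
    T'.length = 24 ∧ ∀ i < 24, T'.getD i 0 < 24 ∧ T.getD (T'.getD i 0) 0 = i := by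
  unfold okInv at h
  rw [Bool.and_eq_true, allBelow_iff] at h
  obtain ⟨h1, h2⟩ := h
  refine ⟨Nat.eq_of_beq_eq_true h1, ?_⟩
  intro i hi
  have := h2 i hi
  rw [Bool.and_eq_true] at this
  exact ⟨by simpa [Nat.blt_eq] using this.1, Nat.eq_of_beq_eq_true this.2⟩

/-- the permutation with table `T` and inverse table `T'` -/
def permOfTbl (T T' : List ℕ) (h : okInv T T' = true) (h' : okInv T' T = true) :
    Equiv.Perm GolayPt where
  toFun p := pt (T.getD (idx p) 0)
  invFun p := pt (T'.getD (idx p) 0)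
  left_inv p := by
    obtain ⟨h1, h2⟩ := (okInv_spec h').2 _ (idx_lt p)
    show pt (T'.getD (idx (pt (T.getD (idx p) 0))) 0) = p
    rw [idx_pt h1, h2, pt_idx]
  right_inv p := by
    obtain ⟨h1, h2⟩ := (okInv_spec h).2 _ (idx_lt p)
    show pt (T.getD (idx (pt (T'.getD (idx p) 0))) 0) = p
    rw [idx_pt h1, h2, pt_idx]

theorem hasTbl_permOfTbl (T T' : List ℕ) (h : okInv T T' = true) (h' : okInv T' T = true) :
    HasTbl (permOfTbl T T' h h') T := by
  refine ⟨(okInv_spec h').1, ?_⟩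
  intro i hi
  show idx (pt (T.getD (idx (pt i)) 0)) = T.getD i 0
  rw [idx_pt hi, idx_pt ((okInv_spec h').2 i hi).1]

/-- the table as a function -/
def tblFn (T : List ℕ) (i : ℕ) : ℕ := T.getD i 0

/-- the images of the basis under the table are code words -/
def codeOK (T : List ℕ) : Bool :=
  allBelow 12 (fun j => Nat.beq (codeMask (pmAux (tblFn T) 24 (basisMask j) % 4096))
    (pmAux (tblFn T) 24 (basisMask j)))

theorem HasTbl.mem_M24 {σ : Equiv.Perm GolayPt} {T : List ℕ} (h : HasTbl σ T)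
    (hc : codeOK T = true) : σ ∈ M24 := by
  apply mem_M24_of_tbl σ (tblFn T) h.2
  intro j hj
  unfold codeOK at hc
  rw [allBelow_iff] at hc
  exact Nat.eq_of_beq_eq_true (hc j hj)

theorem smul_bitSet_of_tbl {σ : Equiv.Perm GolayPt} {tbl : ℕ → ℕ}
    (h : ∀ i < 24, idx (σ (pt i)) = tbl i) (m : ℕ) :
    σ • bitSet m = bitSet (pmAux tbl 24 m) := by
  rw [← support_wordOf, ← support_wordOf, ← support_permWord, permWord_wordOf σ tbl h]

theorem HasTbl.smul_bitSet {σ : Equiv.Perm GolayPt} {T : List ℕ} (h : HasTbl σ T) (m : ℕ) :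
    σ • bitSet m = bitSet (pmAux (tblFn T) 24 m) :=
  smul_bitSet_of_tbl h.2 m

/-- the table is a permutation in `M24` stabilizing the set with bitmask `d` -/
def tblOK (d : ℕ) (T : List ℕ) : Bool :=
  okInv T (invT T) && okInv (invT T) T && codeOK T && Nat.beq (pmAux (tblFn T) 24 d) d

theorem tblOK_sound {d : ℕ} {T : List ℕ} (h : tblOK d T = true) :
    ∃ σ ∈ M24 ⊓ MulAction.stabilizer (Equiv.Perm GolayPt) (bitSet d), HasTbl σ T := by
  unfold tblOK at h
  simp only [Bool.and_eq_true] at h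
  obtain ⟨⟨⟨h1, h2⟩, h3⟩, h4⟩ := h
  have hT := hasTbl_permOfTbl T (invT T) h1 h2
  refine ⟨permOfTbl T (invT T) h1 h2, Subgroup.mem_inf.mpr ⟨hT.mem_M24 h3, ?_⟩, hT⟩
  rw [MulAction.mem_stabilizer_iff, hT.smul_bitSet, Nat.eq_of_beq_eq_true h4]

theorem sound_of_all_tblOK {d : ℕ} {L : List (List ℕ)} (h : L.all (tblOK d) = true) :
    Sound (M24 ⊓ MulAction.stabilizer (Equiv.Perm GolayPt) (bitSet d)) L := by
  intro T hT
  rw [List.all_eq_true] at h
  exact tblOK_sound (h T hT)

/-- the table fixes the first `k` points of the list `bs` -/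
def fixesL (T : List ℕ) (bs : List ℕ) (k : ℕ) : Bool :=
  allBelow k (fun j => Nat.beq (T.getD (bs.getD j 0) 0) (bs.getD j 0))

/-- transversal check: for every `δ` in the bitmask `D` some table of `L` fixes the first `k`
points of `bs` and maps the next one to `δ` -/
def transOK (L : List (List ℕ)) (bs : List ℕ) (k D : ℕ) : Bool :=
  allBelow 24 (fun δ => !(D.testBit δ) ||
    L.any (fun T => fixesL T bs k && Nat.beq (T.getD (bs.getD k 0) 0) δ))

theorem transOK_sound {H : Subgroup (Equiv.Perm GolayPt)} {L : List (List ℕ)} (hL : Sound H L)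
    {bs : List ℕ} (hbs : ∀ j, bs.getD j 0 < 24) {k D : ℕ} (h : transOK L bs k D = true)
    {p : GolayPt} (hp : p ∈ bitSet D) :
    ∃ σ ∈ H, (∀ j < k, σ (pt (bs.getD j 0)) = pt (bs.getD j 0)) ∧ σ (pt (bs.getD k 0)) = p := by
  unfold transOK at h
  rw [allBelow_iff] at h
  have h2 := h (idx p) (idx_lt p)
  rw [mem_bitSet] at hp
  rw [hp] at h2
  simp only [Bool.not_true, Bool.false_or] at h2
  rw [List.any_eq_true] at h2
  obtain ⟨T, hT, h3⟩ := h2
  rw [Bool.and_eq_true] at h3
  obtain ⟨h4, h5⟩ := h3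
  obtain ⟨σ, hσ, hσT⟩ := hL T hT
  refine ⟨σ, hσ, ?_, ?_⟩
  · intro j hj
    unfold fixesL at h4
    rw [allBelow_iff] at h4
    rw [hσT.apply (hbs j), Nat.eq_of_beq_eq_true (h4 j hj)]
  · rw [hσT.apply (hbs k), Nat.eq_of_beq_eq_true h5, pt_idx]

end Cfsg.Agent.Lib.Helper3.Golay
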