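import Mathlib
import Cfsg.Prelude.Def_Sporadic_a
import Cfsg.Agent.S0381
import Cfsg.Agent.Lib.Helper3.Golay.M24Trans
import Cfsg.Agent.Lib.Helper3.Golay.OrbitStab

set_option autoImplicit false

/-! The stabilizer of an octad in `M24`: order, restriction to the octad, the induced group is the
alternating group. -/

namespace Cfsg.Agent.Lib.Helper3.Golay

open Cfsg
open scoped Pointwise

/-- the stabilizer of an octad in `M24` has order 322560 -/
theorem card_stab_octad {o : Finset GolayPt} (ho : o ∈ octads) :
    Nat.card ↥(M24 ⊓ MulAction.stabilizer (Equiv.Perm GolayPt) o) = 322560 := by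
  classical
  have hfin : (octads : Set (Finset GolayPt)).Finite := Set.toFinite _
  have h := card_of_orbit_eq M24 o hfin.toFinset
    (by
      intro g hg
      rw [Set.Finite.mem_toFinset]
      exact smul_mem_octads hg ho)
    (by
      intro δ hδ
      rw [Set.Finite.mem_toFinset] at hδ
      exact exists_map_octad ho hδ)
  rw [card_M24, ← Set.ncard_eq_toFinset_card _ hfin, ncard_octads] at h
  omega

theorem stab_iff {o : Finset GolayPt} {g : Equiv.Perm GolayPt} :
    g ∈ MulAction.stabilizer (Equiv.Perm GolayPt) o ↔ ∀ x, g x ∈ o ↔ x ∈ o := by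
  rw [MulAction.mem_stabilizer_iff]
  constructor
  · intro h x
    conv_lhs => rw [← h]
    exact Finset.smul_mem_smul_finset_iff g
  · intro h
    ext p
    rw [← Finset.inv_smul_mem_iff, ← h (g⁻¹ • p)]
    simp

/-- restriction of the octad stabilizer to the octad -/
def restr (o : Finset GolayPt) :
    ↥(M24 ⊓ MulAction.stabilizer (Equiv.Perm GolayPt) o) →* Equiv.Perm ↥o where
  toFun g := g.1.subtypePerm (stab_iff.mp g.2.2)
  map_one' := by
    refine Equiv.Perm.ext fun x => Subtype.ext ?_
    simp
  map_mul' a b := by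
    refine Equiv.Perm.ext fun x => Subtype.ext ?_
    rfl

theorem restr_ker (o : Finset GolayPt) :
    (restr o).ker = (M24 ⊓ fixingSubgroup (Equiv.Perm GolayPt) (o : Set GolayPt)).subgroupOf
      (M24 ⊓ MulAction.stabilizer (Equiv.Perm GolayPt) o) := by
  ext g
  rw [MonoidHom.mem_ker, Subgroup.mem_subgroupOf, Subgroup.mem_inf, mem_fixingSubgroup_iff]
  constructor
  · intro h
    refine ⟨g.2.1, ?_⟩
    intro y hy
    have := congrArg (fun e : Equiv.Perm ↥o => ((e ⟨y, hy⟩ : ↥o) : GolayPt)) h
    simpa [restr] using this
  · rintro ⟨-, h⟩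
    refine Equiv.Perm.ext fun x => Subtype.ext ?_
    have := h x.1 x.2
    simpa [restr] using this

theorem fix_le_stab (o : Finset GolayPt) :
    M24 ⊓ fixingSubgroup (Equiv.Perm GolayPt) (o : Set GolayPt) ≤
      M24 ⊓ MulAction.stabilizer (Equiv.Perm GolayPt) o := by
  intro g hg
  refine Subgroup.mem_inf.mpr ⟨hg.1, ?_⟩
  have hfix := (mem_fixingSubgroup_iff _).mp hg.2
  rw [stab_iff]
  intro x
  constructor
  · intro hx
    by_contra hxo
    -- `g x ∈ o` is fixed by `g`, so `g (g x) = g x` and `g x = x`
    have := hfix (g x) hx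
    have e : g x = x := g.injective this
    rw [e] at hx
    exact hxo hx
  · intro hx
    have := hfix x hx
    rw [Equiv.Perm.smul_def] at this
    rw [this]; exact hx

theorem card_range_restr {o : Finset GolayPt} (ho : o ∈ octads) :
    Nat.card (restr o).range = 20160 := by
  have h1 : Nat.card (restr o).range = (restr o).ker.index := (Subgroup.index_ker (restr o)).symm
  have h2 := Subgroup.index_mul_card (restr o).ker
  rw [card_stab_octad ho] at h2
  have h3 : Nat.card (restr o).ker = 16 := by
    rw [restr_ker, Nat.card_congr (Subgroup.subgroupOfEquivOfLe (fix_le_stab o)).toEquiv]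
    exact (Cfsg.Agent.S0381.result o ho).1
  rw [h3] at h2
  rw [h1]
  omega

theorem range_restr {o : Finset GolayPt} (ho : o ∈ octads) :
    (restr o).range = alternatingGroup ↥o := by
  apply Equiv.Perm.eq_alternatingGroup_of_index_eq_two
  have h := Subgroup.card_mul_index (restr o).range
  rw [card_range_restr ho, Nat.card_eq_fintype_card, Fintype.card_perm, Fintype.card_coe, ho.2] at h
  have : (8 : ℕ).factorial = 40320 := by decide
  omega

end Cfsg.Agent.Lib.Helper3.Golay
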