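import Mathlib
import Cfsg.Prelude.Def_Sporadic_a
import Cfsg.Agent.Lib.Helper3.Golay.M24Chain

set_option autoImplicit false

/-! Counting code words of a given weight by their intersection with a fixed set, and transport of
such counts along elements of `M24`. -/

namespace Cfsg.Agent.Lib.Helper3.Golay

open Cfsg
open scoped Pointwise

/-- the test on code word indices: weight `w`, meeting the set with bitmask `m` in `k` points -/
def wiTest (w k m c : ℕ) : Bool :=
  Nat.beq (pc24 (codeMask c)) w && Nat.beq (pc24 (codeMask c &&& m)) k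

theorem wi_eq (w k m : ℕ) :
    {b : Finset GolayPt | b ∈ wordsOfWeight (golayCode : Set (GolayPt → ZMod 2)) w ∧
        (b ∩ bitSet m).card = k} =
      ↑(((Finset.range 4096).filter (fun c => wiTest w k m c = true)).image
        (fun c => bitSet (codeMask c))) := by
  ext b
  simp only [Set.mem_ofPred_eq, Finset.coe_image, Finset.coe_filter, Finset.mem_range, Set.mem_image]
  constructor
  · rintro ⟨⟨hb, hcard⟩, hk⟩
    obtain ⟨c, hc, rfl⟩ := (mem_supports_iff b).mp hb
    refine ⟨c, ⟨hc, ?_⟩, rfl⟩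
    rw [card_bitSet'] at hcard
    rw [← bitSet_and, card_bitSet'] at hk
    unfold wiTest
    rw [hcard, hk]
    simp
  · rintro ⟨c, ⟨hc, ht⟩, rfl⟩
    unfold wiTest at ht
    rw [Bool.and_eq_true] at ht
    refine ⟨⟨(mem_supports_iff _).mpr ⟨c, hc, rfl⟩, ?_⟩, ?_⟩
    · rw [card_bitSet']; exact Nat.eq_of_beq_eq_true ht.1
    · rw [← bitSet_and, card_bitSet']; exact Nat.eq_of_beq_eq_true ht.2

theorem ncard_wi (w k m : ℕ) :
    {b : Finset GolayPt | b ∈ wordsOfWeight (golayCode : Set (GolayPt → ZMod 2)) w ∧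
        (b ∩ bitSet m).card = k}.ncard = countBelow 4096 (wiTest w k m) := by
  rw [wi_eq, Set.ncard_coe_finset, countBelow_eq, Finset.card_image_of_injOn]
  intro c hc c' hc' h
  simp only [Finset.coe_filter, Finset.mem_range, Set.mem_ofPred_eq] at hc hc'
  exact codeMask_injOn hc.1 hc'.1 h

theorem smul_mem_wordsOfWeight {g : Equiv.Perm GolayPt} (hg : g ∈ M24) {w : ℕ} {b : Finset GolayPt}
    (hb : b ∈ wordsOfWeight (golayCode : Set (GolayPt → ZMod 2)) w) :
    g • b ∈ wordsOfWeight (golayCode : Set (GolayPt → ZMod 2)) w :=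
  ⟨smul_mem_supports hg hb.1, by rw [Finset.card_smul_finset]; exact hb.2⟩

/-- transport of intersection numbers along an element of `M24` -/
theorem ncard_wi_smul {g : Equiv.Perm GolayPt} (hg : g ∈ M24) (w k : ℕ) (d : Finset GolayPt) :
    {b : Finset GolayPt | b ∈ wordsOfWeight (golayCode : Set (GolayPt → ZMod 2)) w ∧
        (b ∩ g • d).card = k}.ncard =
      {b : Finset GolayPt | b ∈ wordsOfWeight (golayCode : Set (GolayPt → ZMod 2)) w ∧
        (b ∩ d).card = k}.ncard := by
  classical
  have : {b : Finset GolayPt | b ∈ wordsOfWeight (golayCode : Set (GolayPt → ZMod 2)) w ∧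
        (b ∩ g • d).card = k} =
      (fun o => g • o) '' {b : Finset GolayPt |
        b ∈ wordsOfWeight (golayCode : Set (GolayPt → ZMod 2)) w ∧ (b ∩ d).card = k} := by
    ext o'
    simp only [Set.mem_ofPred_eq, Set.mem_image]
    constructor
    · rintro ⟨ho', hk⟩
      refine ⟨g⁻¹ • o', ⟨smul_mem_wordsOfWeight (M24.inv_mem hg) ho', ?_⟩, smul_inv_smul g o'⟩
      have : g⁻¹ • o' ∩ d = g⁻¹ • (o' ∩ g • d) := by
        rw [Finset.smul_finset_inter, inv_smul_smul]
      rw [this, Finset.card_smul_finset, hk]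
    · rintro ⟨o, ⟨ho, hk⟩, rfl⟩
      refine ⟨smul_mem_wordsOfWeight hg ho, ?_⟩
      rw [← Finset.smul_finset_inter, Finset.card_smul_finset, hk]
  rw [this, Set.ncard_image_of_injective _ (MulAction.injective g)]

end Cfsg.Agent.Lib.Helper3.Golay
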