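import Mathlib
import Cfsg.Prelude.Def_Sporadic_a
import Cfsg.Agent.S0381
import Cfsg.Agent.S1554
import Cfsg.Agent.S1638
import Cfsg.Agent.Lib.Helper3.Golay.M24List
import Cfsg.Agent.Lib.Helper3.Golay.TblPerm

set_option autoImplicit false

/-! Generation of the pointwise stabilizer of at most four points in `M24` by the pointwise
stabilizers of the octads through these points. -/

namespace Cfsg.Agent.Lib.Helper3.Golay

open Cfsg
open scoped Pointwise

/-- the pointwise stabilizer of a set of points in `M24` -/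
def Fo (o : Finset GolayPt) : Subgroup (Equiv.Perm GolayPt) :=
  M24 ⊓ fixingSubgroup (Equiv.Perm GolayPt) (o : Set GolayPt)

theorem mem_Fo {o : Finset GolayPt} {g : Equiv.Perm GolayPt} :
    g ∈ Fo o ↔ g ∈ M24 ∧ ∀ x ∈ o, g x = x := by
  unfold Fo
  rw [Subgroup.mem_inf, mem_fixingSubgroup_iff]
  rfl

/-- conjugation of pointwise stabilizers -/
theorem conj_mem_Fo {o : Finset GolayPt} {t f : Equiv.Perm GolayPt} (ht : t ∈ M24) (hf : f ∈ Fo o) :
    t * f * t⁻¹ ∈ Fo (t • o) := by
  rw [mem_Fo] at hf ⊢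
  refine ⟨M24.mul_mem (M24.mul_mem ht hf.1) (M24.inv_mem ht), ?_⟩
  intro x hx
  rw [Finset.mem_smul_finset] at hx
  obtain ⟨y, hy, rfl⟩ := hx
  simp only [Equiv.Perm.smul_def, Equiv.Perm.mul_apply]
  have e : t⁻¹ (t y) = y := by simp
  rw [e, hf.2 y hy]

/-- among the five octads through a tetrad some avoids two given further points -/
theorem exists_octad_avoiding {P : Finset GolayPt} (hP : P.card = 4) {x y : GolayPt} (hx : x ∉ P)
    (hy : y ∉ P) : ∃ o ∈ octads, P ⊆ o ∧ x ∉ o ∧ y ∉ o := by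
  classical
  set A : Finset (Finset GolayPt) := Finset.univ.filter (fun o => o ∈ octads ∧ P ⊆ o) with hA
  have hAcard : A.card = 5 := by
    rw [← Cfsg.Agent.S1638.ncard_octads_tetrad P hP, ← Set.ncard_coe_finset]
    congr 1
    ext o
    simp [hA]
  have hone : ∀ z : GolayPt, z ∉ P → (A.filter (fun o => z ∈ o)).card ≤ 1 := by
    intro z hz
    rw [Finset.card_le_one]
    intro o ho o' ho'
    rw [Finset.mem_filter, hA, Finset.mem_filter] at ho ho'
    have hc : (insert z P).card = 5 := by rw [Finset.card_insert_of_notMem hz, hP]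
    obtain ⟨b, -, hb⟩ := octads_steiner.2 _ hc
    have h1 : o = b := hb o ⟨ho.1.2.1, Finset.insert_subset ho.2 ho.1.2.2⟩
    have h2 : o' = b := hb o' ⟨ho'.1.2.1, Finset.insert_subset ho'.2 ho'.1.2.2⟩
    rw [h1, h2]
  have hx1 := hone x hx
  have hy1 := hone y hy
  have : (A.filter (fun o => x ∈ o) ∪ A.filter (fun o => y ∈ o)).card < A.card := by
    have := Finset.card_union_le (A.filter (fun o => x ∈ o)) (A.filter (fun o => y ∈ o))
    omega
  obtain ⟨o, hoA, hon⟩ := Finset.exists_mem_notMem_of_card_lt_card this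
  have hxo : x ∉ o := fun h => hon (Finset.mem_union_left _ (Finset.mem_filter.mpr ⟨hoA, h⟩))
  have hyo : y ∉ o := fun h => hon (Finset.mem_union_right _ (Finset.mem_filter.mpr ⟨hoA, h⟩))
  have ho : o ∈ octads ∧ P ⊆ o := by
    have h := hoA
    rw [hA, Finset.mem_filter] at h
    exact h.2
  exact ⟨o, ho.1, ho.2, hxo, hyo⟩

/-- an octad through at most four points avoiding two further points -/
theorem exists_octad_avoiding' {P : Finset GolayPt} (hP : P.card ≤ 4) {x y : GolayPt} (hx : x ∉ P)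
    (hy : y ∉ P) : ∃ o ∈ octads, P ⊆ o ∧ x ∉ o ∧ y ∉ o := by
  classical
  have hsub : P ⊆ Finset.univ \ {x, y} := by
    intro z hz
    rw [Finset.mem_sdiff, Finset.mem_insert, Finset.mem_singleton]
    refine ⟨Finset.mem_univ _, ?_⟩
    rintro (rfl | rfl)
    · exact hx hz
    · exact hy hz
  have hbig : 4 ≤ (Finset.univ \ ({x, y} : Finset GolayPt)).card := by
    rw [Finset.card_sdiff_of_subset (Finset.subset_univ _), Finset.card_univ, card_pts]
    have : ({x, y} : Finset GolayPt).card ≤ 2 := Finset.card_le_two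
    omega
  obtain ⟨P', h1, h2, h3⟩ := Finset.exists_subsuperset_card_eq hsub hP hbig
  have hx' : x ∉ P' := fun h => by
    have := h2 h
    simp at this
  have hy' : y ∉ P' := fun h => by
    have := h2 h
    simp at this
  obtain ⟨o, ho, hPo, hxo, hyo⟩ := exists_octad_avoiding h3 hx' hy'
  exact ⟨o, ho, h1.trans hPo, hxo, hyo⟩

/-- the subgroup generated by the pointwise stabilizers of the octads through `P` -/
def NF (P : Finset GolayPt) : Subgroup (Equiv.Perm GolayPt) :=
  ⨆ o : {o : Finset GolayPt // o ∈ octads ∧ P ⊆ o}, Fo o.1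

theorem Fo_le_NF {P o : Finset GolayPt} (ho : o ∈ octads) (hPo : P ⊆ o) : Fo o ≤ NF P :=
  le_iSup (fun o : {o : Finset GolayPt // o ∈ octads ∧ P ⊆ o} => Fo o.1) ⟨o, ho, hPo⟩

theorem NF_anti {P P' : Finset GolayPt} (h : P ⊆ P') : NF P' ≤ NF P := by
  apply iSup_le
  rintro ⟨o, ho, hPo⟩
  exact Fo_le_NF ho (h.trans hPo)

theorem NF_le_M24 (P : Finset GolayPt) : NF P ≤ M24 := by
  apply iSup_le
  rintro ⟨o, ho, hPo⟩
  exact inf_le_left

theorem NF_fixes {P : Finset GolayPt} {g : Equiv.Perm GolayPt} (hg : g ∈ NF P) :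
    ∀ x ∈ P, g x = x := by
  have : NF P ≤ fixingSubgroup (Equiv.Perm GolayPt) (P : Set GolayPt) := by
    apply iSup_le
    rintro ⟨o, ho, hPo⟩
    intro f hf
    rw [mem_fixingSubgroup_iff]
    intro x hx
    exact (mem_Fo.mp hf).2 x (hPo hx)
  intro x hx
  exact (mem_fixingSubgroup_iff _).mp (this hg) x hx

theorem conj_mem_NF {P : Finset GolayPt} {t g : Equiv.Perm GolayPt} (ht : t ∈ M24) (hg : g ∈ NF P) :
    t * g * t⁻¹ ∈ NF (t • P) := by
  have : NF P ≤ (NF (t • P)).comap (MulAut.conj t).toMonoidHom := by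
    apply iSup_le
    rintro ⟨o, ho, hPo⟩
    intro f hf
    rw [Subgroup.mem_comap]
    show t * f * t⁻¹ ∈ NF (t • P)
    exact Fo_le_NF (smul_mem_octads ht ho) (Finset.smul_finset_subset_smul_finset hPo)
      (conj_mem_Fo ht hf)
  exact this hg

/-- one step of the chain: an element of `M24` fixing `P` (at most four points) can be corrected by
an element of `NF P` to fix one more point -/
theorem exists_NF_map {P : Finset GolayPt} (hP : P.card ≤ 4) {x y : GolayPt} (hx : x ∉ P)
    (hy : y ∉ P) : ∃ f ∈ NF P, f x = y := by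
  obtain ⟨o, ho, hPo, hxo, hyo⟩ := exists_octad_avoiding' hP hx hy
  obtain ⟨f, hf, hfx⟩ := Cfsg.Agent.S1554.exists_fix_octad_map ho hxo hyo
  exact ⟨f, Fo_le_NF ho hPo hf, hfx⟩

/-- check: the table is an element of `M24` fixing pointwise the octad with bitmask `m`, which
contains the first four base points -/
def fixOctOK (T : List ℕ) (m : ℕ) : Bool :=
  tblOK m T && isOct m && allBelow 24 (fun i => !(m.testBit i) || Nat.beq (T.getD i 0) i) &&
    Nat.beq (m &&& 0x800007) 0x800007

theorem base4_of_mask : ∀ j < 4, (0x800007 : ℕ).testBit (idx (β j)) = true := by decide +kernel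

theorem fixOctOK_sound {T : List ℕ} {m : ℕ} (h : fixOctOK T m = true) :
    bitSet m ∈ octads ∧ (∀ j < 4, β j ∈ bitSet m) ∧ ∃ σ ∈ Fo (bitSet m), HasTbl σ T := by
  unfold fixOctOK at h
  simp only [Bool.and_eq_true] at h
  obtain ⟨⟨⟨h1, h2⟩, h3⟩, h4⟩ := h
  obtain ⟨σ, hσ, hT⟩ := tblOK_sound h1
  refine ⟨isOct_mem h2, ?_, σ, mem_Fo.mpr ⟨hσ.1, ?_⟩, hT⟩
  · intro j hj
    rw [mem_bitSet]
    have h4' : m &&& 0x800007 = 0x800007 := Nat.eq_of_beq_eq_true h4
    have := base4_of_mask j hj
    rw [← h4', Nat.testBit_and, Bool.and_eq_true] at this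
    exact this.1
  · intro x hx
    rw [mem_bitSet] at hx
    have := (allBelow_iff _ _).mp h3 (idx x) (idx_lt x)
    rw [hx] at this
    simp only [Bool.not_true, Bool.false_or] at this
    have e := Nat.eq_of_beq_eq_true this
    rw [← pt_idx x, hT.apply (idx_lt x), e]

def zX1 : List ℕ := [0, 1, 2, 11, 4, 8, 9, 15, 5, 6, 21, 3, 17, 13, 18, 7, 16, 12, 14, 20, 19, 10, 22, 23]
def zX2 : List ℕ := [0, 1, 2, 11, 20, 12, 6, 7, 14, 22, 16, 3, 5, 15, 8, 13, 10, 18, 17, 19, 4, 21, 9, 23]

theorem zX1_ok : fixOctOK zX1 0xc12017 = true := by decide +kernel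
theorem zX2_ok : fixOctOK zX2 0xa800c7 = true := by decide +kernel

/-- the composite table: fixes the first five base points and cycles the other three points of the
base octad -/
theorem zcomp : compT zX2 zX1 =
    [0, 1, 2, 3, 20, 14, 22, 13, 12, 6, 21, 11, 18, 15, 17, 7, 10, 5, 8, 4, 19, 16, 9, 23] := by
  decide +kernel

/-- the first four base points -/
def base4 : Finset GolayPt := {β 0, β 1, β 2, β 3}

theorem mem_base4 {x : GolayPt} : x ∈ base4 ↔ ∃ j < 4, x = β j := by
  unfold base4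
  simp only [Finset.mem_insert, Finset.mem_singleton]
  constructor
  · rintro (rfl | rfl | rfl | rfl)
    · exact ⟨0, by norm_num, rfl⟩
    · exact ⟨1, by norm_num, rfl⟩
    · exact ⟨2, by norm_num, rfl⟩
    · exact ⟨3, by norm_num, rfl⟩
  · rintro ⟨j, hj, rfl⟩
    interval_cases j <;> simp

theorem exists_z0 : ∃ z ∈ NF base4, (∀ j < 5, z (β j) = β j) ∧ z (pt 5) = pt 14 ∧ z (pt 14) = pt 17 ∧
    z (pt 17) = pt 5 := by
  obtain ⟨o1, hb1, σ1, hσ1, hT1⟩ := fixOctOK_sound zX1_ok
  obtain ⟨o2, hb2, σ2, hσ2, hT2⟩ := fixOctOK_sound zX2_ok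
  have hsub : ∀ {m : ℕ}, (∀ j < 4, β j ∈ bitSet m) → base4 ⊆ bitSet m := by
    intro m h x hx
    obtain ⟨j, hj, rfl⟩ := mem_base4.mp hx
    exact h j hj
  have hT := hT2.mul hT1
  rw [zcomp] at hT
  refine ⟨σ2 * σ1, Subgroup.mul_mem _ (Fo_le_NF o2 (hsub hb2) hσ2) (Fo_le_NF o1 (hsub hb1) hσ1),
    ?_, ?_, ?_, ?_⟩
  · intro j hj
    unfold β
    rw [hT.apply (base_lt j)]
    interval_cases j <;> rfl
  · rw [hT.apply (by norm_num)]; rfl
  · rw [hT.apply (by norm_num)]; rfl
  · rw [hT.apply (by norm_num)]; rfl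

theorem O0_points : ∀ x : GolayPt, O0.testBit (idx x) = true →
    (∃ j < 5, x = β j) ∨ x = pt 5 ∨ x = pt 14 ∨ x = pt 17 := by
  decide +kernel

theorem β5_eq : β 5 = pt 5 := rfl

theorem base4_sub_O0 : base4 ⊆ bitSet O0 := by
  intro x hx
  obtain ⟨j, hj, rfl⟩ := mem_base4.mp hx
  exact Cfsg.Agent.S0381.base_mem_O0 j (by omega)

/-- base case: the pointwise stabilizer of the first five base points -/
theorem fix5_le_NF {g : Equiv.Perm GolayPt} (hg : g ∈ M24) (hfix : ∀ j < 5, g (β j) = β j) :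
    g ∈ NF base4 := by
  obtain ⟨z, hz, hzfix, hz5, hz14, hz17⟩ := exists_z0
  have hzM : z ∈ M24 := NF_le_M24 _ hz
  -- `g` stabilizes the base octad
  have hgO : g • bitSet O0 = bitSet O0 := by
    apply smul_octad_eq hg O0_mem base5.toFinset
    · intro x hx
      obtain ⟨j, hj, rfl⟩ := (mem_base5_iff x).mp (List.mem_toFinset.mp hx)
      exact hfix j hj
    · have : base5.toFinset ⊆ bitSet O0 ∩ base5.toFinset := by
        intro x hx
        exact Finset.mem_inter.mpr ⟨base5_mem_O0 x (List.mem_toFinset.mp hx), hx⟩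
      calc 5 = base5.toFinset.card := by rw [List.toFinset_card_of_nodup base5_nodup]; rfl
        _ ≤ _ := Finset.card_le_card this
  have h5O : pt 5 ∈ bitSet O0 := by rw [mem_bitSet]; decide +kernel
  have hg5 : g (pt 5) ∈ bitSet O0 := by
    rw [← hgO]
    exact Finset.smul_mem_smul_finset h5O
  -- a power of `z` agrees with `g` on the sixth point
  have key : ∀ w : Equiv.Perm GolayPt, w ∈ NF base4 → (∀ j < 5, w (β j) = β j) → w (pt 5) = g (pt 5) →
      g ∈ NF base4 := by
    intro w hw hwfix hw5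
    have hwM : w ∈ M24 := NF_le_M24 _ hw
    have h6 : w⁻¹ * g ∈ M24 ⊓ fixB 6 := by
      refine Subgroup.mem_inf.mpr ⟨M24.mul_mem (M24.inv_mem hwM) hg, ?_⟩
      rw [mem_fixB]
      intro j hj
      rw [Equiv.Perm.mul_apply, Equiv.Perm.inv_eq_iff_eq]
      rcases Nat.lt_succ_iff_lt_or_eq.mp hj with h | rfl
      · rw [hfix j h, hwfix j h]
      · rw [β5_eq, hw5]
    rw [← Cfsg.Agent.S0381.fix_O0_eq] at h6
    have h7 : w⁻¹ * g ∈ NF base4 := Fo_le_NF O0_mem base4_sub_O0 h6
    have := Subgroup.mul_mem _ hw h7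
    rwa [mul_inv_cancel_left] at this
  have hne : ∀ j < 5, g (pt 5) ≠ β j := by
    intro j hj h
    rw [← hfix j hj] at h
    have := g.injective h
    revert this
    interval_cases j <;> decide
  rcases O0_points _ (mem_bitSet.mp hg5) with ⟨j, hj, h⟩ | h | h | h
  · exact absurd h (hne j hj)
  · exact key 1 (Subgroup.one_mem _) (fun j _ => rfl) h.symm
  · exact key z hz hzfix (by rw [hz5, h])
  · refine key (z * z) (Subgroup.mul_mem _ hz hz) ?_ ?_
    · intro j hj
      rw [Equiv.Perm.mul_apply, hzfix j hj, hzfix j hj]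
    · rw [Equiv.Perm.mul_apply, hz5, hz14, h]

/-- the pointwise stabilizer of five points lies in the group generated by the octad groups through
any four of them -/
theorem fix5_le_NF' {P : Finset GolayPt} (hP : P.card = 4) {x : GolayPt} (hx : x ∉ P)
    {g : Equiv.Perm GolayPt} (hg : g ∈ M24) (hfix : ∀ y ∈ insert x P, g y = y) : g ∈ NF P := by
  classical
  obtain ⟨a, b, c, d, hl⟩ : ∃ a b c d, P.toList = [a, b, c, d] := by
    have hlen : P.toList.length = 4 := by rw [Finset.length_toList, hP]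
    match h : P.toList, hlen with
    | [a, b, c, d], _ => exact ⟨a, b, c, d, rfl⟩
  have hPeq : P = {a, b, c, d} := by
    rw [← Finset.toList_toFinset P, hl]
    simp
  have hnd : [a, b, c, d, x].Nodup := by
    have h1 : (P.toList ++ [x]).Nodup := by
      rw [List.nodup_append]
      refine ⟨Finset.nodup_toList _, by simp, ?_⟩
      intro y hy z hz
      simp only [List.mem_cons, List.not_mem_nil, or_false] at hz
      subst hz
      rintro rfl
      exact hx (Finset.mem_toList.mp hy)
    rw [hl] at h1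
    exact h1
  obtain ⟨t, ht, hmap⟩ := exists_map_list base5 [a, b, c, d, x] base5_nodup hnd rfl (by decide)
  simp only [base5, List.map_cons, List.map_nil, List.cons.injEq, and_true] at hmap
  obtain ⟨t0, t1, t2, t3, t4⟩ := hmap
  have htP : t • base4 = P := by
    unfold base4
    rw [hPeq]
    simp only [Finset.smul_finset_insert, Finset.smul_finset_singleton, Equiv.Perm.smul_def, t0, t1,
      t2, t3]
  have hg0 : t⁻¹ * g * t ∈ NF base4 := by
    apply fix5_le_NF (M24.mul_mem (M24.mul_mem (M24.inv_mem ht) hg) ht)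
    intro j hj
    simp only [Equiv.Perm.mul_apply]
    rw [Equiv.Perm.inv_eq_iff_eq]
    apply hfix
    rw [hPeq]
    interval_cases j
    · rw [t0]; simp
    · rw [t1]; simp
    · rw [t2]; simp
    · rw [t3]; simp
    · rw [t4]; simp
  have := conj_mem_NF ht hg0
  rw [htP] at this
  have e : t * (t⁻¹ * g * t) * t⁻¹ = g := by group
  rwa [e] at this

/-- the pointwise stabilizer in `M24` of at most four points is generated by the pointwise
stabilizers of the octads through them -/
theorem fix_le_NF : ∀ (n : ℕ) (P : Finset GolayPt), P.card + n = 4 → ∀ g ∈ M24,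
    (∀ y ∈ P, g y = y) → g ∈ NF P := by
  classical
  intro n
  induction n with
  | zero =>
    intro P hP g hg hfix
    have hP4 : P.card = 4 := by omega
    obtain ⟨x, hx⟩ : ∃ x, x ∉ P := by
      by_contra hcon
      push Not at hcon
      have : P = Finset.univ := Finset.eq_univ_iff_forall.mpr hcon
      rw [this, Finset.card_univ, card_pts] at hP4
      omega
    have hy : g x ∉ P := by
      intro h
      have := hfix _ h
      exact hx (g.injective this ▸ h)
    obtain ⟨f, hf, hfx⟩ := exists_NF_map (le_of_eq hP4) hx hy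
    have hfM : f ∈ M24 := NF_le_M24 _ hf
    have h1 : f⁻¹ * g ∈ NF P := by
      apply fix5_le_NF' hP4 hx (M24.mul_mem (M24.inv_mem hfM) hg)
      intro y hy'
      rw [Equiv.Perm.mul_apply, Equiv.Perm.inv_eq_iff_eq]
      rcases Finset.mem_insert.mp hy' with rfl | hyP
      · exact hfx.symm
      · rw [hfix y hyP, NF_fixes hf y hyP]
    have := Subgroup.mul_mem _ hf h1
    rwa [mul_inv_cancel_left] at this
  | succ n ih =>
    intro P hP g hg hfix
    have hP4 : P.card ≤ 4 := by omega
    obtain ⟨x, hx⟩ : ∃ x, x ∉ P := by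
      by_contra hcon
      push Not at hcon
      have : P = Finset.univ := Finset.eq_univ_iff_forall.mpr hcon
      rw [this, Finset.card_univ, card_pts] at hP4
      omega
    have hy : g x ∉ P := by
      intro h
      have := hfix _ h
      exact hx (g.injective this ▸ h)
    obtain ⟨f, hf, hfx⟩ := exists_NF_map hP4 hx hy
    have hfM : f ∈ M24 := NF_le_M24 _ hf
    have h1 : f⁻¹ * g ∈ NF (insert x P) := by
      apply ih (insert x P) (by rw [Finset.card_insert_of_notMem hx]; omega)
        _ (M24.mul_mem (M24.inv_mem hfM) hg)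
      intro y hy'
      rw [Equiv.Perm.mul_apply, Equiv.Perm.inv_eq_iff_eq]
      rcases Finset.mem_insert.mp hy' with rfl | hyP
      · exact hfx.symm
      · rw [hfix y hyP, NF_fixes hf y hyP]
    have h2 : f⁻¹ * g ∈ NF P := NF_anti (Finset.subset_insert x P) h1
    have := Subgroup.mul_mem _ hf h2
    rwa [mul_inv_cancel_left] at this

end Cfsg.Agent.Lib.Helper3.Golay
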