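import Mathlib
import Cfsg.Prelude.Def_Sporadic_a
import Cfsg.Agent.Lib.Helper3.Golay.OctadGen
import Cfsg.Agent.Lib.Helper3.Golay.OrbitStab

set_option autoImplicit false

/-! The pointwise stabilizer of the base octad consists of commutators of elements of `M24` fixing
the first two base points. -/

namespace Cfsg.Agent.Lib.Helper3.Golay

open Cfsg
open scoped Pointwise

/-- the pointwise stabilizer of an octad acts freely outside the octad -/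
theorem Fo_inf_stabilizer {o : Finset GolayPt} (ho : o ∈ octads) {p : GolayPt} (hp : p ∉ o) :
    Fo o ⊓ MulAction.stabilizer (Equiv.Perm GolayPt) p = ⊥ := by
  classical
  have hcompl : oᶜ.card = 16 := by
    rw [Finset.card_compl, ho.2, card_pts]
  have h := card_of_orbit_eq (Fo o) p oᶜ
    (fun g hg => by
      rw [Finset.mem_compl, Equiv.Perm.smul_def]
      intro h
      have := (mem_Fo.mp hg).2 _ h
      exact hp (g.injective this ▸ h))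
    (fun q hq => by
      obtain ⟨f, hf, hfp⟩ := Cfsg.Agent.S1554.exists_fix_octad_map ho hp (Finset.mem_compl.mp hq)
      exact ⟨f, hf, hfp⟩)
  have h16 : Nat.card ↥(Fo o) = 16 := (Cfsg.Agent.S0381.result o ho).1
  rw [hcompl, h16] at h
  apply Subgroup.eq_bot_of_card_eq
  omega

/-- the sixteen elements of the pointwise stabilizer of the base octad -/
def F0L : List (List ℕ) := [
  [0, 1, 2, 3, 15, 5, 18, 8, 7, 13, 16, 21, 19, 9, 14, 4, 10, 17, 6, 12, 22, 11, 20, 23],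
  [0, 1, 2, 3, 12, 5, 9, 10, 16, 6, 7, 22, 4, 18, 14, 19, 8, 17, 13, 15, 21, 20, 11, 23],
  [0, 1, 2, 3, 6, 5, 4, 22, 20, 12, 11, 10, 9, 19, 14, 18, 21, 17, 15, 13, 8, 16, 7, 23],
  [0, 1, 2, 3, 4, 5, 6, 7, 8, 9, 10, 11, 12, 13, 14, 15, 16, 17, 18, 19, 20, 21, 22, 23],
  [0, 1, 2, 3, 9, 5, 12, 11, 21, 4, 22, 7, 6, 15, 14, 13, 20, 17, 19, 18, 16, 8, 10, 23],
  [0, 1, 2, 3, 10, 5, 11, 12, 19, 22, 4, 6, 7, 20, 14, 16, 15, 17, 21, 8, 13, 18, 9, 23],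
  [0, 1, 2, 3, 22, 5, 7, 6, 18, 10, 9, 12, 11, 16, 14, 20, 13, 17, 8, 21, 15, 19, 4, 23],
  [0, 1, 2, 3, 13, 5, 19, 21, 11, 15, 20, 8, 18, 4, 14, 9, 22, 17, 12, 6, 10, 7, 16, 23],
  [0, 1, 2, 3, 18, 5, 15, 20, 22, 19, 21, 16, 13, 12, 14, 6, 11, 17, 4, 9, 7, 10, 8, 23],
  [0, 1, 2, 3, 7, 5, 22, 4, 15, 11, 12, 9, 10, 21, 14, 8, 19, 17, 20, 16, 18, 13, 6, 23],
  [0, 1, 2, 3, 16, 5, 21, 19, 12, 20, 15, 18, 8, 22, 14, 10, 4, 17, 11, 7, 9, 6, 13, 23],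
  [0, 1, 2, 3, 11, 5, 10, 9, 13, 7, 6, 4, 22, 8, 14, 21, 18, 17, 16, 20, 19, 15, 12, 23],
  [0, 1, 2, 3, 20, 5, 8, 18, 6, 16, 13, 19, 21, 10, 14, 22, 9, 17, 7, 11, 4, 12, 15, 23],
  [0, 1, 2, 3, 19, 5, 13, 16, 10, 18, 8, 20, 15, 6, 14, 12, 7, 17, 9, 4, 11, 22, 21, 23],
  [0, 1, 2, 3, 8, 5, 20, 15, 4, 21, 19, 13, 16, 11, 14, 7, 12, 17, 22, 10, 6, 9, 18, 23],
  [0, 1, 2, 3, 21, 5, 16, 13, 9, 8, 18, 15, 20, 7, 14, 11, 6, 17, 10, 22, 12, 4, 19, 23]]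

/-- commutator certificates: `(E, H, F)` with `E = H F H⁻¹ F⁻¹` -/
def CL : List (List ℕ × List ℕ × List ℕ) := [
  ([0, 1, 2, 3, 4, 5, 6, 7, 8, 9, 10, 11, 12, 13, 14, 15, 16, 17, 18, 19, 20, 21, 22, 23],
    [0, 1, 2, 3, 4, 5, 6, 7, 8, 9, 10, 11, 12, 13, 14, 15, 16, 17, 18, 19, 20, 21, 22, 23],
    [0, 1, 2, 3, 4, 5, 6, 7, 8, 9, 10, 11, 12, 13, 14, 15, 16, 17, 18, 19, 20, 21, 22, 23]),
  ([0, 1, 2, 3, 15, 5, 18, 8, 7, 13, 16, 21, 19, 9, 14, 4, 10, 17, 6, 12, 22, 11, 20, 23],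
    [0, 14, 3, 5, 15, 17, 4, 7, 9, 19, 16, 10, 12, 20, 1, 21, 18, 2, 11, 22, 13, 6, 8, 23],
    [0, 1, 2, 3, 12, 5, 9, 10, 16, 6, 7, 22, 4, 18, 14, 19, 8, 17, 13, 15, 21, 20, 11, 23]),
  ([0, 1, 2, 3, 12, 5, 9, 10, 16, 6, 7, 22, 4, 18, 14, 19, 8, 17, 13, 15, 21, 20, 11, 23],
    [0, 14, 17, 3, 22, 2, 8, 11, 20, 9, 15, 6, 19, 18, 5, 21, 12, 1, 10, 4, 7, 13, 16, 23],
    [0, 1, 2, 3, 15, 5, 18, 8, 7, 13, 16, 21, 19, 9, 14, 4, 10, 17, 6, 12, 22, 11, 20, 23]),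
  ([0, 1, 2, 3, 6, 5, 4, 22, 20, 12, 11, 10, 9, 19, 14, 18, 21, 17, 15, 13, 8, 16, 7, 23],
    [0, 17, 3, 14, 21, 2, 8, 12, 13, 16, 4, 9, 20, 11, 5, 10, 18, 1, 22, 7, 15, 19, 6, 23],
    [0, 1, 2, 3, 15, 5, 18, 8, 7, 13, 16, 21, 19, 9, 14, 4, 10, 17, 6, 12, 22, 11, 20, 23]),
  ([0, 1, 2, 3, 9, 5, 12, 11, 21, 4, 22, 7, 6, 15, 14, 13, 20, 17, 19, 18, 16, 8, 10, 23],
    [0, 5, 17, 2, 18, 3, 6, 13, 4, 20, 11, 21, 22, 10, 14, 12, 8, 1, 19, 16, 15, 7, 9, 23],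
    [0, 1, 2, 3, 15, 5, 18, 8, 7, 13, 16, 21, 19, 9, 14, 4, 10, 17, 6, 12, 22, 11, 20, 23]),
  ([0, 1, 2, 3, 10, 5, 11, 12, 19, 22, 4, 6, 7, 20, 14, 16, 15, 17, 21, 8, 13, 18, 9, 23],
    [0, 14, 1, 3, 22, 5, 18, 10, 15, 12, 20, 6, 16, 8, 2, 13, 9, 17, 11, 4, 7, 21, 19, 23],
    [0, 1, 2, 3, 15, 5, 18, 8, 7, 13, 16, 21, 19, 9, 14, 4, 10, 17, 6, 12, 22, 11, 20, 23]),
  ([0, 1, 2, 3, 22, 5, 7, 6, 18, 10, 9, 12, 11, 16, 14, 20, 13, 17, 8, 21, 15, 19, 4, 23],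
    [0, 3, 14, 2, 11, 1, 6, 4, 20, 21, 16, 15, 18, 12, 5, 19, 9, 17, 8, 7, 13, 22, 10, 23],
    [0, 1, 2, 3, 15, 5, 18, 8, 7, 13, 16, 21, 19, 9, 14, 4, 10, 17, 6, 12, 22, 11, 20, 23]),
  ([0, 1, 2, 3, 13, 5, 19, 21, 11, 15, 20, 8, 18, 4, 14, 9, 22, 17, 12, 6, 10, 7, 16, 23],
    [0, 3, 17, 14, 7, 2, 20, 13, 15, 21, 18, 4, 10, 8, 1, 11, 19, 5, 16, 22, 6, 9, 12, 23],
    [0, 1, 2, 3, 15, 5, 18, 8, 7, 13, 16, 21, 19, 9, 14, 4, 10, 17, 6, 12, 22, 11, 20, 23]),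
  ([0, 1, 2, 3, 18, 5, 15, 20, 22, 19, 21, 16, 13, 12, 14, 6, 11, 17, 4, 9, 7, 10, 8, 23],
    [0, 17, 2, 14, 13, 1, 22, 15, 18, 9, 16, 4, 20, 12, 5, 19, 21, 3, 7, 8, 11, 6, 10, 23],
    [0, 1, 2, 3, 15, 5, 18, 8, 7, 13, 16, 21, 19, 9, 14, 4, 10, 17, 6, 12, 22, 11, 20, 23]),
  ([0, 1, 2, 3, 7, 5, 22, 4, 15, 11, 12, 9, 10, 21, 14, 8, 19, 17, 20, 16, 18, 13, 6, 23],
    [0, 5, 2, 14, 19, 1, 21, 16, 12, 4, 6, 7, 22, 8, 3, 10, 20, 17, 9, 18, 11, 15, 13, 23],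
    [0, 1, 2, 3, 15, 5, 18, 8, 7, 13, 16, 21, 19, 9, 14, 4, 10, 17, 6, 12, 22, 11, 20, 23]),
  ([0, 1, 2, 3, 16, 5, 21, 19, 12, 20, 15, 18, 8, 22, 14, 10, 4, 17, 11, 7, 9, 6, 13, 23],
    [0, 17, 1, 2, 11, 3, 20, 21, 18, 12, 4, 19, 15, 7, 14, 6, 10, 5, 13, 16, 9, 8, 22, 23],
    [0, 1, 2, 3, 15, 5, 18, 8, 7, 13, 16, 21, 19, 9, 14, 4, 10, 17, 6, 12, 22, 11, 20, 23]),
  ([0, 1, 2, 3, 11, 5, 10, 9, 13, 7, 6, 4, 22, 8, 14, 21, 18, 17, 16, 20, 19, 15, 12, 23],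
    [0, 14, 17, 2, 15, 1, 18, 16, 6, 8, 13, 19, 20, 9, 5, 11, 7, 3, 10, 12, 4, 22, 21, 23],
    [0, 1, 2, 3, 15, 5, 18, 8, 7, 13, 16, 21, 19, 9, 14, 4, 10, 17, 6, 12, 22, 11, 20, 23]),
  ([0, 1, 2, 3, 20, 5, 8, 18, 6, 16, 13, 19, 21, 10, 14, 22, 9, 17, 7, 11, 4, 12, 15, 23],
    [0, 3, 2, 17, 4, 14, 12, 6, 7, 18, 19, 15, 13, 8, 1, 22, 21, 5, 11, 16, 10, 20, 9, 23],
    [0, 1, 2, 3, 15, 5, 18, 8, 7, 13, 16, 21, 19, 9, 14, 4, 10, 17, 6, 12, 22, 11, 20, 23]),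
  ([0, 1, 2, 3, 19, 5, 13, 16, 10, 18, 8, 20, 15, 6, 14, 12, 7, 17, 9, 4, 11, 22, 21, 23],
    [0, 1, 14, 3, 22, 17, 18, 10, 7, 6, 16, 12, 20, 9, 2, 11, 8, 5, 13, 21, 15, 4, 19, 23],
    [0, 1, 2, 3, 15, 5, 18, 8, 7, 13, 16, 21, 19, 9, 14, 4, 10, 17, 6, 12, 22, 11, 20, 23]),
  ([0, 1, 2, 3, 8, 5, 20, 15, 4, 21, 19, 13, 16, 11, 14, 7, 12, 17, 22, 10, 6, 9, 18, 23],
    [0, 5, 17, 14, 7, 1, 10, 8, 15, 21, 22, 11, 20, 13, 2, 4, 6, 3, 12, 18, 19, 9, 16, 23],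
    [0, 1, 2, 3, 15, 5, 18, 8, 7, 13, 16, 21, 19, 9, 14, 4, 10, 17, 6, 12, 22, 11, 20, 23]),
  ([0, 1, 2, 3, 21, 5, 16, 13, 9, 8, 18, 15, 20, 7, 14, 11, 6, 17, 10, 22, 12, 4, 19, 23],
    [0, 14, 3, 5, 15, 17, 4, 7, 9, 19, 16, 10, 12, 20, 1, 21, 18, 2, 11, 22, 13, 6, 8, 23],
    [0, 1, 2, 3, 15, 5, 18, 8, 7, 13, 16, 21, 19, 9, 14, 4, 10, 17, 6, 12, 22, 11, 20, 23])]

/-- the points of the base octad -/
def O0L : List ℕ := [0, 1, 2, 3, 5, 14, 17, 23]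

/-- check of one table of the pointwise stabilizer -/
def f0OK (T : List ℕ) : Bool := tblOK O0 T && fixesL T O0L 8

theorem F0L_ok : F0L.all f0OK = true := by decide +kernel

/-- every point outside the base octad is the image of the point 4 under some table -/
theorem F0L_cover : allBelow 24 (fun δ => O0.testBit δ || F0L.any (fun T => Nat.beq (T.getD 4 0) δ)) = true := by
  decide +kernel

theorem O0L_mem : ∀ x : GolayPt, O0.testBit (idx x) = true → ∃ j < 8, x = pt (O0L.getD j 0) := by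
  decide +kernel

theorem fixesL_sound {σ : Equiv.Perm GolayPt} {T bs : List ℕ} {k : ℕ} (hT : HasTbl σ T)
    (hbs : ∀ j < k, bs.getD j 0 < 24) (h : fixesL T bs k = true) :
    ∀ j < k, σ (pt (bs.getD j 0)) = pt (bs.getD j 0) := by
  intro j hj
  unfold fixesL at h
  have := (allBelow_iff _ _).mp h j hj
  rw [hT.apply (hbs j hj), Nat.eq_of_beq_eq_true this]

theorem O0L_lt : ∀ j < 8, O0L.getD j 0 < 24 := by decide

theorem f0OK_sound {T : List ℕ} (h : f0OK T = true) : ∃ σ ∈ Fo (bitSet O0), HasTbl σ T := by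
  unfold f0OK at h
  rw [Bool.and_eq_true] at h
  obtain ⟨σ, hσ, hT⟩ := tblOK_sound h.1
  refine ⟨σ, mem_Fo.mpr ⟨hσ.1, ?_⟩, hT⟩
  intro x hx
  obtain ⟨j, hj, rfl⟩ := O0L_mem x (mem_bitSet.mp hx)
  exact fixesL_sound hT O0L_lt h.2 j hj

/-- every element of the pointwise stabilizer of the base octad is given by one of the tables -/
theorem exists_tbl_of_mem_Fo {f : Equiv.Perm GolayPt} (hf : f ∈ Fo (bitSet O0)) :
    ∃ T ∈ F0L, HasTbl f T := by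
  have h4 : pt 4 ∉ bitSet O0 := by rw [mem_bitSet]; decide +kernel
  have hf4 : f (pt 4) ∉ bitSet O0 := by
    intro h
    have := (mem_Fo.mp hf).2 _ h
    exact h4 (f.injective this ▸ h)
  have hc := (allBelow_iff _ _).mp F0L_cover (idx (f (pt 4))) (idx_lt _)
  rw [mem_bitSet] at hf4
  rw [Bool.or_eq_true, List.any_eq_true] at hc
  rcases hc with hc | ⟨T, hTL, hT4⟩
  · exact absurd hc hf4
  · have hok : f0OK T = true := List.all_eq_true.mp F0L_ok T hTL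
    obtain ⟨σ, hσ, hσT⟩ := f0OK_sound hok
    have hσ4 : σ (pt 4) = f (pt 4) := by
      rw [hσT.apply (by norm_num), Nat.eq_of_beq_eq_true hT4, pt_idx]
    have : σ⁻¹ * f ∈ Fo (bitSet O0) ⊓ MulAction.stabilizer (Equiv.Perm GolayPt) (pt 4) := by
      refine Subgroup.mem_inf.mpr ⟨Subgroup.mul_mem _ (Subgroup.inv_mem _ hσ) hf, ?_⟩
      rw [MulAction.mem_stabilizer_iff, Equiv.Perm.smul_def, Equiv.Perm.mul_apply,
        Equiv.Perm.inv_eq_iff_eq, hσ4]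
    rw [Fo_inf_stabilizer O0_mem h4, Subgroup.mem_bot] at this
    have hfe : f = σ := by
      have := congrArg (σ * ·) this
      simpa using this
    exact ⟨T, hTL, hfe ▸ hσT⟩

/-- check of one commutator certificate -/
def commOK (c : List ℕ × List ℕ × List ℕ) : Bool :=
  tblOK O0 c.2.1 && fixesL c.2.1 [23, 0] 2 && tblOK O0 c.2.2 && fixesL c.2.2 [23, 0] 2 &&
    okInv c.2.1 (invT c.2.1) && okInv c.2.2 (invT c.2.2) &&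
    (compT (compT (compT c.2.1 c.2.2) (invT c.2.1)) (invT c.2.2) == c.1)

theorem CL_ok : F0L.all (fun E => CL.any (fun c => (c.1 == E) && commOK c)) = true := by
  decide +kernel

theorem β0_eq : β 0 = pt 23 := rfl
theorem β1_eq : β 1 = pt 0 := rfl

/-- every element of the pointwise stabilizer of the base octad is a commutator of two elements of
`M24` fixing the first two base points -/
theorem exists_comm_of_mem_Fo {f : Equiv.Perm GolayPt} (hf : f ∈ Fo (bitSet O0)) :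
    ∃ a ∈ M24, ∃ b ∈ M24, a (β 0) = β 0 ∧ a (β 1) = β 1 ∧ b (β 0) = β 0 ∧ b (β 1) = β 1 ∧
      f = a * b * a⁻¹ * b⁻¹ := by
  obtain ⟨E, hEL, hfE⟩ := exists_tbl_of_mem_Fo hf
  have := List.all_eq_true.mp CL_ok E hEL
  rw [List.any_eq_true] at this
  obtain ⟨c, -, hc⟩ := this
  rw [Bool.and_eq_true] at hc
  obtain ⟨hcE, hc⟩ := hc
  have hcE' : c.1 = E := by simpa using hcE
  unfold commOK at hc
  simp only [Bool.and_eq_true] at hc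
  obtain ⟨⟨⟨⟨⟨⟨h1, h2⟩, h3⟩, h4⟩, h5⟩, h6⟩, h7⟩ := hc
  obtain ⟨a, ha, haT⟩ := tblOK_sound h1
  obtain ⟨b, hb, hbT⟩ := tblOK_sound h3
  have hl : ∀ j < 2, ([23, 0] : List ℕ).getD j 0 < 24 := by decide
  have ha' := fixesL_sound haT hl h2
  have hb' := fixesL_sound hbT hl h4
  have hprod : HasTbl (a * b * a⁻¹ * b⁻¹) c.1 := by
    have h7' : compT (compT (compT c.2.1 c.2.2) (invT c.2.1)) (invT c.2.2) = c.1 := by simpa using h7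
    rw [← h7']
    exact ((haT.mul hbT).mul (haT.inv h5)).mul (hbT.inv h6)
  rw [hcE'] at hprod
  refine ⟨a, ha.1, b, hb.1, ha' 0 (by norm_num), ha' 1 (by norm_num), hb' 0 (by norm_num),
    hb' 1 (by norm_num), hfE.ext hprod⟩

end Cfsg.Agent.Lib.Helper3.Golay
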