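import Mathlib
import Cfsg.Prelude.Def_Sporadic_a
import Cfsg.Agent.Lib.Helper3.Golay.Dodecad3
import Cfsg.Agent.Lib.Helper3.Golay.TblPerm
import Cfsg.Agent.Lib.Helper3.Golay.OctadComm

set_option autoImplicit false

/-! Certificates for the structure of the stabilizer of three points of the base dodecad in its
stabilizer (a group of order 72 with normal elementary abelian subgroup of order 9). -/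

namespace Cfsg.Agent.Lib.Helper3.Golay

open Cfsg
open scoped Pointwise

/-- the elements of order dividing three fixing the points 0, 1, 2 -/
def K9L : List (List ℕ) := [
  [0, 1, 2, 4, 12, 15, 16, 7, 9, 13, 10, 22, 3, 8, 21, 19, 18, 17, 6, 5, 14, 20, 23, 11],
  [0, 1, 2, 8, 9, 5, 12, 17, 16, 18, 7, 23, 13, 6, 21, 15, 3, 10, 4, 19, 14, 20, 11, 22],
  [0, 1, 2, 16, 18, 5, 13, 10, 3, 4, 17, 22, 6, 12, 20, 15, 8, 7, 9, 19, 21, 14, 23, 11],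
  [0, 1, 2, 18, 6, 15, 8, 10, 4, 12, 17, 23, 16, 3, 14, 19, 9, 7, 13, 5, 20, 21, 11, 22],
  [0, 1, 2, 12, 3, 19, 18, 7, 13, 8, 10, 23, 4, 9, 20, 5, 6, 17, 16, 15, 21, 14, 11, 22],
  [0, 1, 2, 13, 8, 19, 4, 17, 6, 16, 7, 22, 9, 18, 14, 5, 12, 10, 3, 15, 20, 21, 23, 11],
  [0, 1, 2, 6, 16, 19, 9, 10, 12, 3, 17, 11, 18, 4, 21, 5, 13, 7, 8, 15, 14, 20, 22, 23],
  [0, 1, 2, 9, 13, 15, 3, 17, 18, 6, 7, 11, 8, 16, 20, 19, 4, 10, 12, 5, 21, 14, 22, 23],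
  [0, 1, 2, 3, 4, 5, 6, 7, 8, 9, 10, 11, 12, 13, 14, 15, 16, 17, 18, 19, 20, 21, 22, 23]]

/-- all elements of the stabilizer of the base dodecad fixing the points 0, 1, 2 -/
def M9L : List (List ℕ) := [
  [0, 1, 2, 6, 12, 7, 8, 5, 18, 4, 15, 20, 13, 9, 23, 17, 16, 19, 3, 10, 11, 22, 14, 21],
  [0, 1, 2, 13, 16, 14, 8, 22, 3, 9, 23, 7, 4, 6, 19, 20, 18, 11, 12, 21, 15, 5, 17, 10],
  [0, 1, 2, 18, 16, 15, 12, 17, 9, 8, 10, 11, 6, 13, 14, 5, 4, 7, 3, 19, 21, 20, 23, 22],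
  [0, 1, 2, 16, 12, 11, 3, 14, 4, 8, 21, 19, 9, 6, 7, 22, 13, 20, 18, 23, 10, 17, 15, 5],
  [0, 1, 2, 8, 3, 10, 6, 19, 9, 4, 15, 14, 16, 18, 22, 17, 13, 5, 12, 7, 11, 23, 20, 21],
  [0, 1, 2, 3, 6, 14, 12, 22, 13, 4, 11, 7, 9, 16, 5, 21, 18, 23, 8, 20, 15, 19, 10, 17],
  [0, 1, 2, 4, 12, 15, 16, 7, 9, 13, 10, 22, 3, 8, 21, 19, 18, 17, 6, 5, 14, 20, 23, 11],
  [0, 1, 2, 3, 12, 5, 9, 10, 16, 6, 7, 22, 4, 18, 14, 19, 8, 17, 13, 15, 21, 20, 11, 23],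
  [0, 1, 2, 6, 18, 19, 3, 17, 13, 9, 10, 22, 16, 8, 21, 15, 12, 7, 4, 5, 20, 14, 11, 23],
  [0, 1, 2, 8, 9, 5, 12, 17, 16, 18, 7, 23, 13, 6, 21, 15, 3, 10, 4, 19, 14, 20, 11, 22],
  [0, 1, 2, 13, 3, 11, 12, 20, 4, 6, 21, 5, 18, 8, 10, 23, 16, 14, 9, 22, 7, 17, 15, 19],
  [0, 1, 2, 3, 18, 23, 16, 20, 6, 8, 21, 15, 13, 4, 17, 22, 9, 14, 12, 11, 10, 7, 19, 5],
  [0, 1, 2, 9, 8, 15, 6, 7, 4, 3, 17, 22, 13, 12, 20, 5, 18, 10, 16, 19, 14, 21, 11, 23],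
  [0, 1, 2, 16, 8, 7, 12, 19, 18, 9, 15, 21, 3, 4, 11, 10, 6, 5, 13, 17, 23, 22, 14, 20],
  [0, 1, 2, 9, 4, 10, 16, 5, 13, 12, 19, 21, 18, 6, 23, 17, 8, 15, 3, 7, 22, 11, 14, 20],
  [0, 1, 2, 3, 16, 17, 13, 19, 4, 18, 15, 20, 8, 9, 23, 7, 12, 5, 6, 10, 22, 11, 21, 14],
  [0, 1, 2, 16, 4, 20, 18, 22, 9, 6, 23, 17, 13, 3, 5, 21, 12, 11, 8, 14, 19, 15, 10, 7],
  [0, 1, 2, 6, 13, 7, 4, 15, 16, 8, 5, 14, 12, 3, 23, 10, 18, 19, 9, 17, 22, 11, 20, 21],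
  [0, 1, 2, 18, 12, 14, 6, 23, 13, 16, 11, 17, 8, 4, 15, 20, 3, 22, 9, 21, 5, 19, 10, 7],
  [0, 1, 2, 3, 9, 14, 4, 11, 18, 12, 22, 10, 6, 8, 5, 20, 13, 23, 16, 21, 19, 15, 7, 17],
  [0, 1, 2, 13, 6, 10, 3, 5, 9, 18, 15, 21, 12, 4, 11, 7, 8, 19, 16, 17, 22, 23, 20, 14],
  [0, 1, 2, 13, 18, 11, 6, 21, 16, 12, 20, 15, 3, 9, 10, 22, 4, 14, 8, 23, 17, 7, 5, 19],
  [0, 1, 2, 16, 18, 5, 13, 10, 3, 4, 17, 22, 6, 12, 20, 15, 8, 7, 9, 19, 21, 14, 23, 11],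
  [0, 1, 2, 6, 3, 21, 16, 11, 8, 18, 22, 17, 9, 12, 19, 14, 4, 23, 13, 20, 15, 5, 10, 7],
  [0, 1, 2, 12, 13, 17, 16, 5, 4, 9, 15, 14, 6, 18, 22, 10, 3, 19, 8, 7, 23, 11, 21, 20],
  [0, 1, 2, 6, 8, 23, 13, 14, 9, 12, 20, 5, 4, 16, 7, 22, 3, 21, 18, 11, 17, 10, 15, 19],
  [0, 1, 2, 8, 12, 21, 13, 11, 6, 9, 23, 17, 18, 3, 5, 20, 4, 22, 16, 14, 15, 19, 7, 10],
  [0, 1, 2, 18, 6, 15, 8, 10, 4, 12, 17, 23, 16, 3, 14, 19, 9, 7, 13, 5, 20, 21, 11, 22],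
  [0, 1, 2, 4, 8, 11, 9, 20, 13, 18, 14, 5, 6, 3, 17, 22, 16, 21, 12, 23, 7, 10, 19, 15],
  [0, 1, 2, 4, 13, 21, 12, 22, 6, 3, 23, 10, 16, 9, 15, 14, 8, 11, 18, 20, 5, 19, 7, 17],
  [0, 1, 2, 12, 3, 19, 18, 7, 13, 8, 10, 23, 4, 9, 20, 5, 6, 17, 16, 15, 21, 14, 11, 22],
  [0, 1, 2, 18, 13, 22, 9, 20, 8, 4, 21, 19, 3, 6, 7, 11, 12, 14, 16, 23, 17, 10, 5, 15],
  [0, 1, 2, 12, 18, 20, 4, 11, 9, 3, 23, 7, 8, 6, 19, 14, 16, 22, 13, 21, 5, 15, 10, 17],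
  [0, 1, 2, 13, 8, 19, 4, 17, 6, 16, 7, 22, 9, 18, 14, 5, 12, 10, 3, 15, 20, 21, 23, 11],
  [0, 1, 2, 6, 16, 19, 9, 10, 12, 3, 17, 11, 18, 4, 21, 5, 13, 7, 8, 15, 14, 20, 22, 23],
  [0, 1, 2, 9, 13, 15, 3, 17, 18, 6, 7, 11, 8, 16, 20, 19, 4, 10, 12, 5, 21, 14, 22, 23],
  [0, 1, 2, 4, 6, 11, 18, 14, 16, 9, 20, 19, 8, 12, 17, 23, 13, 21, 3, 22, 10, 7, 5, 15],
  [0, 1, 2, 13, 4, 14, 9, 23, 18, 8, 22, 17, 16, 12, 19, 21, 3, 11, 6, 20, 5, 15, 7, 10],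
  [0, 1, 2, 12, 6, 17, 9, 15, 3, 16, 5, 21, 13, 8, 22, 7, 4, 19, 18, 10, 11, 23, 14, 20],
  [0, 1, 2, 9, 3, 20, 8, 22, 16, 13, 11, 17, 6, 4, 15, 14, 12, 23, 18, 21, 19, 5, 7, 10],
  [0, 1, 2, 9, 18, 10, 12, 19, 8, 16, 5, 14, 4, 3, 23, 7, 13, 15, 6, 17, 11, 22, 21, 20],
  [0, 1, 2, 12, 4, 19, 8, 10, 6, 18, 7, 11, 3, 16, 20, 15, 13, 17, 9, 5, 14, 21, 23, 22],
  [0, 1, 2, 4, 3, 15, 13, 10, 18, 16, 7, 23, 12, 6, 21, 5, 9, 17, 8, 19, 20, 14, 22, 11],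
  [0, 1, 2, 9, 6, 20, 13, 11, 12, 8, 22, 7, 3, 18, 15, 21, 16, 23, 4, 14, 5, 19, 17, 10],
  [0, 1, 2, 16, 13, 20, 6, 23, 12, 18, 22, 10, 4, 8, 5, 14, 9, 11, 3, 21, 15, 19, 17, 7],
  [0, 1, 2, 16, 6, 5, 4, 17, 8, 13, 10, 23, 18, 9, 20, 19, 3, 7, 12, 15, 14, 21, 22, 11],
  [0, 1, 2, 3, 8, 17, 18, 15, 12, 13, 19, 21, 16, 6, 23, 10, 4, 5, 9, 7, 11, 22, 20, 14],
  [0, 1, 2, 3, 13, 23, 8, 21, 9, 16, 20, 19, 18, 12, 17, 11, 6, 14, 4, 22, 7, 10, 15, 5],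
  [0, 1, 2, 12, 16, 22, 6, 21, 18, 13, 14, 5, 9, 3, 17, 11, 8, 20, 4, 23, 10, 7, 15, 19],
  [0, 1, 2, 18, 3, 22, 4, 21, 12, 9, 20, 5, 13, 16, 7, 23, 8, 14, 6, 11, 10, 17, 19, 15],
  [0, 1, 2, 9, 12, 23, 4, 21, 3, 18, 14, 19, 16, 13, 10, 22, 6, 20, 8, 11, 7, 17, 5, 15],
  [0, 1, 2, 18, 4, 7, 13, 19, 16, 3, 5, 21, 9, 8, 22, 17, 6, 15, 12, 10, 23, 11, 20, 14],
  [0, 1, 2, 8, 18, 21, 9, 23, 4, 13, 11, 7, 12, 16, 5, 14, 6, 22, 3, 20, 19, 15, 17, 10],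
  [0, 1, 2, 4, 9, 17, 6, 19, 3, 8, 5, 20, 18, 16, 11, 10, 12, 15, 13, 7, 22, 23, 14, 21],
  [0, 1, 2, 18, 9, 7, 3, 5, 6, 13, 19, 20, 4, 12, 22, 10, 16, 15, 8, 17, 11, 23, 21, 14],
  [0, 1, 2, 18, 8, 14, 16, 11, 3, 6, 23, 10, 12, 9, 15, 21, 13, 22, 4, 20, 19, 5, 17, 7],
  [0, 1, 2, 13, 12, 10, 18, 15, 8, 3, 5, 20, 6, 16, 11, 17, 9, 19, 4, 7, 23, 22, 21, 14],
  [0, 1, 2, 13, 9, 19, 16, 7, 12, 4, 17, 23, 8, 3, 14, 15, 6, 10, 18, 5, 21, 20, 22, 11],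
  [0, 1, 2, 12, 8, 20, 3, 23, 16, 4, 11, 10, 18, 13, 19, 21, 9, 22, 6, 14, 15, 5, 7, 17],
  [0, 1, 2, 16, 3, 7, 9, 15, 6, 12, 19, 14, 8, 13, 11, 17, 18, 5, 4, 10, 22, 23, 21, 20],
  [0, 1, 2, 3, 4, 5, 6, 7, 8, 9, 10, 11, 12, 13, 14, 15, 16, 17, 18, 19, 20, 21, 22, 23],
  [0, 1, 2, 4, 18, 17, 8, 5, 12, 6, 19, 14, 9, 13, 11, 7, 3, 15, 16, 10, 23, 22, 20, 21],
  [0, 1, 2, 16, 9, 11, 8, 21, 13, 3, 14, 15, 12, 18, 7, 23, 4, 20, 6, 22, 17, 10, 19, 5],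
  [0, 1, 2, 8, 13, 5, 18, 7, 3, 12, 17, 11, 9, 4, 21, 19, 16, 10, 6, 15, 20, 14, 23, 22],
  [0, 1, 2, 12, 9, 22, 13, 14, 8, 6, 21, 15, 16, 4, 17, 23, 18, 20, 3, 11, 7, 10, 5, 19],
  [0, 1, 2, 6, 9, 21, 18, 22, 4, 16, 11, 10, 3, 13, 19, 20, 8, 23, 12, 14, 5, 15, 17, 7],
  [0, 1, 2, 4, 16, 21, 3, 23, 8, 12, 22, 7, 13, 18, 15, 20, 6, 11, 9, 14, 19, 5, 10, 17],
  [0, 1, 2, 9, 16, 23, 18, 14, 6, 4, 21, 5, 12, 8, 10, 11, 3, 20, 13, 22, 17, 7, 19, 15],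
  [0, 1, 2, 8, 4, 22, 3, 14, 12, 16, 20, 15, 6, 9, 10, 11, 18, 21, 13, 23, 7, 17, 19, 5],
  [0, 1, 2, 6, 4, 23, 12, 20, 3, 13, 14, 15, 8, 18, 7, 11, 9, 21, 16, 22, 10, 17, 5, 19],
  [0, 1, 2, 8, 16, 10, 4, 15, 13, 6, 19, 20, 3, 12, 22, 7, 9, 5, 18, 17, 23, 11, 14, 21],
  [0, 1, 2, 8, 6, 22, 16, 20, 18, 3, 14, 19, 4, 13, 10, 23, 12, 21, 9, 11, 17, 7, 15, 5]]

/-- the nonidentity elements fixing 0, 1, 2, 3 as products of two elements of order three, each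
fixing the point 0 and two further points of the dodecad -/
def Q8C : List (List ℕ × (List ℕ × ℕ × ℕ) × (List ℕ × ℕ × ℕ)) := [
  ([0, 1, 2, 3, 6, 14, 12, 22, 13, 4, 11, 7, 9, 16, 5, 21, 18, 23, 8, 20, 15, 19, 10, 17],
    ([0, 1, 8, 12, 6, 14, 18, 7, 9, 2, 22, 11, 16, 13, 15, 5, 3, 17, 4, 20, 21, 19, 23, 10], 1, 13),
    ([0, 1, 9, 16, 4, 5, 3, 10, 13, 18, 11, 7, 8, 12, 15, 20, 6, 22, 2, 19, 14, 21, 23, 17], 1, 4)),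
  ([0, 1, 2, 3, 12, 5, 9, 10, 16, 6, 7, 22, 4, 18, 14, 19, 8, 17, 13, 15, 21, 20, 11, 23],
    ([0, 1, 9, 6, 2, 5, 12, 11, 16, 4, 22, 23, 3, 8, 14, 20, 13, 10, 18, 19, 21, 15, 17, 7], 1, 18),
    ([0, 1, 4, 12, 6, 5, 2, 17, 8, 3, 23, 10, 9, 18, 14, 19, 13, 22, 16, 21, 20, 15, 7, 11], 1, 8)),
  ([0, 1, 2, 3, 18, 23, 16, 20, 6, 8, 21, 15, 13, 4, 17, 22, 9, 14, 12, 11, 10, 7, 19, 5],
    ([0, 4, 9, 3, 8, 7, 16, 23, 1, 12, 21, 19, 2, 6, 11, 15, 13, 17, 18, 14, 10, 20, 22, 5], 3, 18),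
    ([0, 8, 12, 3, 18, 7, 6, 21, 13, 4, 10, 15, 16, 1, 17, 22, 2, 19, 9, 14, 20, 5, 11, 23], 3, 6)),
  ([0, 1, 2, 3, 16, 17, 13, 19, 4, 18, 15, 20, 8, 9, 23, 7, 12, 5, 6, 10, 22, 11, 21, 14],
    ([0, 13, 2, 12, 16, 10, 4, 7, 1, 9, 19, 20, 18, 8, 23, 15, 6, 17, 3, 5, 22, 14, 11, 21], 2, 9),
    ([0, 8, 2, 18, 4, 17, 1, 10, 6, 12, 15, 11, 13, 9, 14, 7, 3, 19, 16, 5, 20, 22, 23, 21], 2, 4)),
  ([0, 1, 2, 3, 9, 14, 4, 11, 18, 12, 22, 10, 6, 8, 5, 20, 13, 23, 16, 21, 19, 15, 7, 17],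
    ([0, 1, 6, 8, 3, 19, 16, 23, 4, 12, 10, 7, 13, 9, 5, 20, 2, 17, 18, 14, 21, 15, 22, 11], 1, 18),
    ([0, 1, 16, 4, 13, 19, 8, 23, 18, 9, 22, 10, 2, 3, 14, 15, 12, 7, 6, 20, 5, 21, 11, 17], 1, 9)),
  ([0, 1, 2, 3, 8, 17, 18, 15, 12, 13, 19, 21, 16, 6, 23, 10, 4, 5, 9, 7, 11, 22, 20, 14],
    ([0, 8, 2, 6, 9, 17, 16, 10, 18, 13, 19, 11, 12, 4, 22, 5, 3, 15, 1, 7, 20, 14, 21, 23], 2, 12),
    ([0, 18, 2, 16, 1, 5, 8, 17, 12, 9, 10, 22, 6, 3, 23, 7, 13, 15, 4, 19, 11, 14, 20, 21], 2, 9)),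
  ([0, 1, 2, 3, 13, 23, 8, 21, 9, 16, 20, 19, 18, 12, 17, 11, 6, 14, 4, 22, 7, 10, 15, 5],
    ([0, 4, 8, 3, 9, 10, 18, 21, 12, 1, 23, 17, 2, 13, 14, 15, 6, 19, 16, 11, 7, 20, 22, 5], 3, 13),
    ([0, 9, 12, 3, 13, 10, 2, 7, 4, 18, 21, 17, 6, 8, 11, 19, 16, 14, 1, 22, 20, 5, 15, 23], 3, 16))]

/-- the central involution of the stabilizer of 0, 1, 2, 3 -/
def zT : List ℕ := [0, 1, 2, 3, 12, 5, 9, 10, 16, 6, 7, 22, 4, 18, 14, 19, 8, 17, 13, 15, 21, 20, 11, 23]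

/-- the table is the identity -/
def isId (T : List ℕ) : Bool := allBelow 24 (fun i => Nat.beq (T.getD i 0) i)

/-- the cube of a table -/
def cubeT (T : List ℕ) : List ℕ := compT (compT T T) T

theorem M9L_ok : M9L.all (fun T => tblOK d0 T && fixesL T [0, 1, 2] 3) = true := by decide +kernel

set_option maxRecDepth 100000 in
theorem M9L_cover : allBelow 24 (fun δ₁ => allBelow 24 (fun δ₂ =>
    !((0x5335f - 7 : ℕ).testBit δ₁) || !((0x5335f - 7 : ℕ).testBit δ₂) || Nat.beq δ₁ δ₂ ||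
      M9L.any (fun T => Nat.beq (T.getD 3 0) δ₁ && Nat.beq (T.getD 4 0) δ₂))) = true := by
  decide +kernel

theorem M9L_cube : M9L.all (fun T => !(isId (cubeT T)) || K9L.contains T) = true := by decide +kernel

theorem K9L_sub : K9L.all (fun T => M9L.contains T && isId (cubeT T)) = true := by decide +kernel

theorem K9L_comm : K9L.all (fun A => K9L.all (fun B => compT A B == compT B A)) = true := by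
  decide +kernel

theorem K9L_trans : allBelow 24 (fun δ => !((0x5335f - 7 : ℕ).testBit δ) ||
    K9L.any (fun T => Nat.beq (T.getD 3 0) δ)) = true := by decide +kernel

/-- check of an element of order three fixing 0 and the two given points of the dodecad -/
def ord3OK (c : List ℕ × ℕ × ℕ) : Bool :=
  tblOK d0 c.1 && isId (cubeT c.1) && fixesL c.1 [0, c.2.1, c.2.2] 3 &&
    (0x5335e : ℕ).testBit c.2.1 && (0x5335e : ℕ).testBit c.2.2 && !(Nat.beq c.2.1 c.2.2) &&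
    Nat.blt c.2.1 24 && Nat.blt c.2.2 24

theorem Q8C_ok : Q8C.all (fun c => ord3OK c.2.1 && ord3OK c.2.2 &&
    (compT c.2.1.1 c.2.2.1 == c.1) && fixesL c.1 [0, 1, 2, 3] 4) = true := by decide +kernel

theorem Q8C_cover : allBelow 24 (fun δ => !((0x5335f - 15 : ℕ).testBit δ) || Nat.beq δ 4 ||
    Q8C.any (fun c => Nat.beq (c.1.getD 4 0) δ)) = true := by decide +kernel

theorem zT_ok : (tblOK d0 zT && fixesL zT [0, 1, 2, 3] 4 && okInv zT (invT zT) &&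
    K9L.all (fun K => okInv K (invT K) &&
      (compT (compT (compT zT K) (invT zT)) (invT K) == K))) = true := by decide +kernel

end Cfsg.Agent.Lib.Helper3.Golay
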