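import Mathlib
import Cfsg.Prelude.Def_Sporadic_a
import Cfsg.Agent.Lib.Helper3.Golay.M24Order
import Cfsg.Agent.Lib.Helper3.Golay.TblPerm
import Cfsg.Agent.Lib.Helper3.Golay.OctadComm
import Cfsg.Agent.Lib.Helper3.Golay.M11Cert

set_option autoImplicit false

/-! Certificates for the involutions of `M24`: transversals for the pointwise stabilizer of the
first four base points (order 960), the fixed point sets of its involutions, and conjugating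
elements for the fixed point free involutions and for the involutions fixing the base octad. -/

namespace Cfsg.Agent.Lib.Helper3.Golay

open Cfsg
open scoped Pointwise

/-- transversal for the fifth base point -/
def L4i : List (List ℕ) := [
  [0, 1, 2, 3, 4, 5, 6, 7, 8, 9, 10, 11, 12, 13, 14, 15, 16, 17, 18, 19, 20, 21, 22, 23],
  [0, 1, 2, 4, 20, 16, 12, 8, 17, 7, 6, 3, 14, 9, 22, 21, 15, 13, 5, 11, 19, 18, 10, 23],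
  [0, 1, 2, 5, 18, 3, 10, 9, 16, 21, 19, 22, 4, 12, 17, 7, 11, 14, 13, 20, 6, 15, 8, 23],
  [0, 1, 2, 6, 9, 21, 8, 11, 13, 14, 3, 4, 22, 10, 7, 5, 15, 19, 16, 12, 17, 18, 20, 23],
  [0, 1, 2, 7, 16, 6, 12, 11, 14, 10, 20, 3, 5, 13, 21, 15, 22, 19, 17, 18, 9, 8, 4, 23],
  [0, 1, 2, 8, 22, 12, 7, 21, 15, 17, 5, 9, 10, 4, 18, 3, 16, 11, 20, 19, 14, 6, 13, 23],
  [0, 1, 2, 9, 12, 20, 3, 14, 7, 22, 16, 6, 21, 18, 10, 13, 8, 15, 19, 17, 4, 5, 11, 23],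
  [0, 1, 2, 10, 14, 20, 22, 13, 7, 8, 11, 21, 19, 17, 15, 12, 3, 9, 6, 4, 18, 16, 5, 23],
  [0, 1, 2, 11, 14, 8, 7, 19, 22, 20, 10, 16, 13, 17, 18, 9, 3, 12, 4, 6, 15, 21, 5, 23],
  [0, 1, 2, 12, 16, 8, 7, 21, 20, 3, 14, 10, 9, 13, 11, 17, 22, 18, 15, 19, 5, 6, 4, 23],
  [0, 1, 2, 13, 15, 22, 8, 12, 3, 7, 6, 17, 5, 10, 16, 21, 20, 4, 14, 18, 19, 11, 9, 23],
  [0, 1, 2, 14, 20, 3, 16, 4, 11, 21, 6, 12, 8, 15, 5, 19, 10, 17, 18, 13, 7, 22, 9, 23],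
  [0, 1, 2, 15, 22, 20, 11, 18, 6, 17, 14, 21, 7, 16, 9, 5, 13, 10, 19, 12, 3, 8, 4, 23],
  [0, 1, 2, 16, 18, 4, 20, 10, 21, 5, 17, 7, 6, 8, 13, 14, 12, 22, 19, 9, 3, 15, 11, 23],
  [0, 1, 2, 17, 20, 5, 13, 22, 18, 7, 19, 8, 12, 15, 3, 6, 10, 14, 11, 16, 21, 4, 9, 23],
  [0, 1, 2, 18, 20, 12, 16, 13, 7, 17, 3, 6, 21, 9, 11, 14, 15, 8, 19, 22, 5, 4, 10, 23],
  [0, 1, 2, 19, 18, 6, 14, 5, 22, 10, 9, 13, 4, 8, 7, 20, 12, 21, 16, 17, 15, 3, 11, 23],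
  [0, 1, 2, 20, 12, 9, 5, 17, 6, 16, 22, 7, 19, 18, 15, 4, 8, 10, 21, 14, 13, 3, 11, 23],
  [0, 1, 2, 21, 13, 6, 14, 3, 10, 12, 18, 9, 20, 4, 19, 8, 22, 7, 15, 5, 11, 17, 16, 23],
  [0, 1, 2, 22, 9, 13, 18, 11, 5, 7, 6, 14, 3, 20, 4, 21, 10, 16, 17, 8, 19, 12, 15, 23]]

/-- transversal for the sixth base point -/
def L5i : List (List ℕ) := [
  [0, 1, 2, 3, 4, 5, 6, 7, 8, 9, 10, 11, 12, 13, 14, 15, 16, 17, 18, 19, 20, 21, 22, 23],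
  [0, 1, 2, 3, 12, 14, 19, 7, 20, 16, 4, 15, 10, 11, 17, 13, 18, 5, 9, 21, 22, 6, 8, 23],
  [0, 1, 2, 3, 19, 17, 9, 15, 18, 22, 16, 11, 8, 7, 5, 13, 21, 14, 12, 20, 4, 10, 6, 23]]

/-- transversal for the seventh base point -/
def L6i : List (List ℕ) := [
  [0, 1, 2, 3, 4, 5, 6, 7, 8, 9, 10, 11, 12, 13, 14, 15, 16, 17, 18, 19, 20, 21, 22, 23],
  [0, 1, 2, 3, 6, 5, 4, 22, 20, 12, 11, 10, 9, 19, 14, 18, 21, 17, 15, 13, 8, 16, 7, 23],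
  [0, 1, 2, 3, 7, 5, 22, 4, 15, 11, 12, 9, 10, 21, 14, 8, 19, 17, 20, 16, 18, 13, 6, 23],
  [0, 1, 2, 3, 8, 5, 20, 15, 4, 21, 19, 13, 16, 11, 14, 7, 12, 17, 22, 10, 6, 9, 18, 23],
  [0, 1, 2, 3, 9, 5, 12, 11, 21, 4, 22, 7, 6, 15, 14, 13, 20, 17, 19, 18, 16, 8, 10, 23],
  [0, 1, 2, 3, 10, 5, 11, 12, 19, 22, 4, 6, 7, 20, 14, 16, 15, 17, 21, 8, 13, 18, 9, 23],
  [0, 1, 2, 3, 11, 5, 10, 9, 13, 7, 6, 4, 22, 8, 14, 21, 18, 17, 16, 20, 19, 15, 12, 23],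
  [0, 1, 2, 3, 12, 5, 9, 10, 16, 6, 7, 22, 4, 18, 14, 19, 8, 17, 13, 15, 21, 20, 11, 23],
  [0, 1, 2, 3, 13, 5, 19, 21, 11, 15, 20, 8, 18, 4, 14, 9, 22, 17, 12, 6, 10, 7, 16, 23],
  [0, 1, 2, 3, 15, 5, 18, 8, 7, 13, 16, 21, 19, 9, 14, 4, 10, 17, 6, 12, 22, 11, 20, 23],
  [0, 1, 2, 3, 16, 5, 21, 19, 12, 20, 15, 18, 8, 22, 14, 10, 4, 17, 11, 7, 9, 6, 13, 23],
  [0, 1, 2, 3, 18, 5, 15, 20, 22, 19, 21, 16, 13, 12, 14, 6, 11, 17, 4, 9, 7, 10, 8, 23],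
  [0, 1, 2, 3, 19, 5, 13, 16, 10, 18, 8, 20, 15, 6, 14, 12, 7, 17, 9, 4, 11, 22, 21, 23],
  [0, 1, 2, 3, 20, 5, 8, 18, 6, 16, 13, 19, 21, 10, 14, 22, 9, 17, 7, 11, 4, 12, 15, 23],
  [0, 1, 2, 3, 21, 5, 16, 13, 9, 8, 18, 15, 20, 7, 14, 11, 6, 17, 10, 22, 12, 4, 19, 23],
  [0, 1, 2, 3, 22, 5, 7, 6, 18, 10, 9, 12, 11, 16, 14, 20, 13, 17, 8, 21, 15, 19, 4, 23]]

/-- a fixed point free involution interchanging the base points 0, 1 and 2, 3 -/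
def G0i : List ℕ := [23, 2, 1, 18, 13, 12, 20, 10, 17, 19, 7, 14, 5, 4, 11, 21, 22, 8, 3, 9, 6, 15, 16, 0]

/-- the fixed point sets of the involutions fixing the first four base points -/
def FMLi : List ℕ := [8536111, 8657159, 9471495, 11010247, 12656663]

/-- conjugating elements for the fixed point free involutions -/
def CCLi : List (List ℕ × List ℕ) := [
  ([23, 2, 1, 18, 13, 12, 20, 10, 17, 19, 7, 14, 5, 4, 11, 21, 22, 8, 3, 9, 6, 15, 16, 0],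
    [0, 1, 2, 3, 4, 5, 6, 7, 8, 9, 10, 11, 12, 13, 14, 15, 16, 17, 18, 19, 20, 21, 22, 23]),
  ([23, 2, 1, 18, 21, 11, 13, 22, 14, 10, 9, 5, 17, 6, 8, 20, 19, 12, 3, 16, 15, 4, 7, 0],
    [19, 16, 22, 4, 20, 3, 15, 8, 23, 2, 1, 18, 5, 21, 0, 10, 14, 12, 13, 11, 7, 6, 17, 9]),
  ([23, 2, 1, 18, 20, 8, 21, 19, 5, 22, 16, 17, 14, 15, 12, 13, 10, 11, 3, 7, 4, 6, 9, 0],
    [15, 23, 0, 16, 9, 18, 6, 13, 3, 11, 8, 1, 12, 7, 5, 10, 17, 2, 22, 4, 19, 20, 14, 21]),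
  ([23, 2, 1, 13, 17, 22, 7, 6, 15, 18, 11, 10, 20, 3, 16, 8, 14, 4, 9, 21, 12, 19, 5, 0],
    [10, 13, 4, 15, 12, 3, 0, 23, 16, 8, 1, 2, 11, 21, 6, 22, 20, 5, 17, 9, 14, 19, 18, 7]),
  ([23, 2, 1, 13, 14, 16, 11, 8, 7, 20, 15, 6, 21, 3, 4, 10, 5, 22, 19, 18, 9, 12, 17, 0],
    [7, 18, 3, 0, 11, 17, 15, 20, 6, 19, 12, 21, 22, 23, 14, 5, 8, 13, 1, 2, 9, 16, 4, 10]),
  ([23, 2, 1, 13, 5, 4, 15, 10, 11, 21, 7, 8, 18, 3, 22, 6, 17, 16, 12, 20, 19, 9, 14, 0],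
    [11, 20, 6, 12, 3, 18, 7, 19, 21, 16, 9, 15, 17, 5, 4, 10, 0, 23, 8, 1, 2, 22, 13, 14]),
  ([23, 2, 1, 12, 13, 18, 15, 9, 14, 7, 19, 17, 3, 4, 8, 6, 22, 11, 5, 10, 21, 20, 16, 0],
    [8, 9, 19, 12, 11, 18, 20, 4, 2, 13, 23, 22, 5, 14, 1, 6, 10, 16, 3, 0, 21, 15, 7, 17]),
  ([23, 2, 1, 12, 19, 8, 22, 13, 5, 10, 9, 14, 3, 7, 11, 20, 21, 18, 17, 4, 15, 16, 6, 0],
    [5, 17, 8, 1, 20, 23, 7, 15, 0, 3, 18, 16, 2, 21, 22, 11, 19, 13, 4, 6, 14, 9, 10, 12]),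
  ([23, 2, 1, 12, 9, 11, 21, 19, 17, 4, 13, 5, 3, 10, 18, 16, 15, 8, 14, 7, 22, 6, 20, 0],
    [1, 12, 5, 0, 19, 6, 3, 16, 4, 9, 10, 20, 23, 7, 15, 11, 14, 13, 21, 22, 17, 18, 8, 2]),
  ([23, 2, 1, 20, 16, 15, 11, 18, 21, 17, 14, 6, 19, 22, 10, 5, 4, 9, 7, 12, 3, 8, 13, 0],
    [19, 23, 0, 17, 13, 16, 20, 18, 5, 14, 1, 6, 15, 7, 2, 22, 4, 11, 3, 21, 8, 12, 10, 9]),
  ([23, 2, 1, 20, 12, 10, 19, 21, 13, 14, 5, 16, 4, 8, 9, 17, 11, 15, 22, 6, 3, 7, 18, 0],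
    [15, 12, 5, 16, 9, 1, 3, 20, 13, 14, 2, 7, 19, 4, 11, 17, 10, 8, 23, 18, 22, 6, 0, 21]),
  ([23, 2, 1, 20, 6, 9, 4, 13, 18, 5, 17, 12, 11, 7, 15, 14, 19, 10, 8, 16, 3, 22, 21, 0],
    [17, 19, 9, 6, 16, 23, 22, 5, 14, 0, 4, 7, 10, 12, 21, 15, 1, 13, 11, 2, 20, 3, 18, 8]),
  ([23, 2, 1, 10, 11, 20, 19, 21, 22, 17, 3, 4, 16, 18, 15, 14, 12, 9, 13, 6, 5, 7, 8, 0],
    [20, 5, 12, 2, 4, 22, 3, 21, 10, 17, 1, 13, 23, 19, 11, 14, 0, 8, 9, 18, 16, 15, 7, 6]),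
  ([23, 2, 1, 10, 21, 15, 22, 16, 18, 14, 3, 12, 11, 19, 9, 5, 7, 20, 8, 13, 17, 4, 6, 0],
    [16, 6, 20, 13, 5, 8, 19, 18, 21, 0, 4, 1, 2, 7, 23, 17, 3, 14, 15, 10, 11, 12, 9, 22]),
  ([23, 2, 1, 10, 16, 9, 18, 11, 19, 5, 3, 7, 21, 22, 20, 17, 4, 15, 6, 8, 14, 12, 13, 0],
    [17, 22, 16, 6, 11, 5, 9, 4, 10, 12, 20, 13, 0, 1, 18, 15, 14, 21, 19, 7, 3, 23, 2, 8]),
  ([23, 2, 1, 17, 9, 14, 8, 18, 6, 4, 22, 19, 21, 15, 5, 13, 20, 3, 7, 11, 16, 12, 10, 0],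
    [20, 3, 18, 5, 9, 15, 17, 2, 8, 19, 23, 16, 11, 4, 21, 13, 10, 12, 1, 22, 7, 14, 0, 6]),
  ([23, 2, 1, 17, 22, 14, 19, 21, 11, 10, 9, 8, 18, 16, 5, 20, 13, 3, 12, 6, 15, 7, 4, 0],
    [7, 19, 9, 4, 16, 23, 5, 18, 21, 14, 11, 15, 20, 1, 0, 17, 2, 13, 6, 12, 8, 3, 22, 10]),
  ([23, 2, 1, 17, 15, 14, 11, 12, 19, 13, 16, 6, 7, 9, 5, 4, 10, 3, 21, 8, 22, 18, 20, 0],
    [6, 13, 4, 21, 9, 0, 3, 1, 16, 8, 10, 18, 2, 17, 23, 19, 7, 15, 5, 22, 11, 12, 14, 20]),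
  ([23, 2, 1, 17, 13, 14, 7, 6, 18, 15, 20, 12, 11, 4, 5, 9, 22, 3, 8, 21, 10, 19, 16, 0],
    [18, 12, 5, 6, 7, 21, 11, 14, 2, 0, 13, 16, 22, 10, 15, 23, 19, 20, 1, 17, 4, 8, 9, 3]),
  ([23, 2, 1, 17, 20, 14, 12, 11, 21, 16, 13, 7, 6, 10, 5, 22, 9, 3, 19, 18, 4, 8, 15, 0],
    [15, 22, 16, 2, 18, 20, 13, 17, 0, 5, 19, 8, 4, 9, 6, 10, 12, 1, 14, 11, 3, 23, 7, 21]),
  ([23, 2, 1, 17, 10, 14, 18, 8, 7, 22, 4, 21, 19, 20, 5, 16, 15, 3, 6, 12, 13, 11, 9, 0],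
    [22, 7, 10, 1, 23, 9, 6, 17, 8, 18, 0, 21, 11, 12, 19, 4, 13, 2, 20, 14, 5, 15, 3, 16]),
  ([23, 2, 1, 19, 18, 6, 5, 14, 13, 15, 20, 22, 16, 8, 7, 9, 12, 21, 4, 3, 10, 17, 11, 0],
    [1, 14, 11, 5, 7, 18, 3, 15, 0, 16, 17, 19, 13, 23, 21, 22, 4, 6, 10, 12, 8, 20, 9, 2]),
  ([23, 2, 1, 19, 22, 7, 17, 5, 9, 8, 11, 10, 15, 16, 21, 12, 13, 6, 20, 3, 18, 14, 4, 0],
    [2, 17, 8, 0, 14, 9, 10, 19, 6, 20, 18, 3, 21, 16, 13, 15, 22, 7, 12, 23, 5, 4, 11, 1]),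
  ([23, 2, 1, 19, 10, 21, 14, 17, 12, 16, 4, 18, 8, 15, 6, 13, 9, 7, 11, 3, 22, 5, 20, 0],
    [6, 10, 7, 17, 22, 5, 3, 14, 21, 23, 16, 9, 15, 13, 18, 4, 0, 11, 19, 8, 1, 12, 2, 20]),
  ([23, 2, 1, 7, 20, 6, 5, 3, 12, 13, 22, 18, 8, 9, 21, 16, 15, 19, 11, 17, 4, 14, 10, 0],
    [9, 11, 14, 0, 3, 21, 15, 23, 7, 2, 12, 8, 10, 1, 6, 22, 16, 4, 17, 13, 18, 20, 5, 19]),
  ([23, 2, 1, 7, 8, 21, 17, 3, 4, 15, 20, 16, 22, 18, 19, 9, 11, 6, 13, 14, 10, 5, 12, 0],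
    [23, 5, 12, 22, 15, 2, 19, 16, 21, 3, 4, 14, 6, 17, 7, 18, 11, 9, 8, 10, 13, 1, 20, 0]),
  ([23, 2, 1, 7, 22, 19, 14, 3, 10, 11, 8, 9, 20, 16, 6, 18, 13, 21, 15, 5, 12, 17, 4, 0],
    [3, 23, 0, 11, 12, 21, 8, 14, 7, 22, 10, 16, 9, 4, 17, 2, 13, 6, 1, 15, 19, 20, 5, 18]),
  ([23, 2, 1, 14, 16, 17, 21, 19, 11, 15, 20, 8, 18, 22, 3, 9, 4, 5, 12, 7, 10, 6, 13, 0],
    [21, 6, 20, 19, 16, 7, 4, 23, 8, 18, 5, 17, 11, 2, 9, 3, 22, 10, 14, 0, 12, 13, 1, 15]),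
  ([23, 2, 1, 14, 6, 17, 4, 22, 15, 11, 12, 9, 10, 19, 3, 8, 21, 5, 20, 13, 18, 16, 7, 0],
    [22, 20, 6, 1, 10, 15, 7, 9, 13, 11, 17, 14, 8, 18, 2, 4, 12, 21, 23, 3, 0, 5, 19, 16]),
  ([23, 2, 1, 14, 7, 17, 22, 4, 20, 12, 11, 10, 9, 21, 3, 18, 19, 5, 15, 16, 8, 13, 6, 0],
    [1, 12, 5, 16, 13, 18, 23, 4, 17, 19, 7, 10, 9, 15, 22, 14, 6, 3, 11, 20, 8, 21, 0, 2]),
  ([23, 2, 1, 14, 19, 17, 13, 16, 9, 8, 18, 15, 20, 6, 3, 11, 7, 5, 10, 4, 12, 22, 21, 0],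
    [12, 9, 19, 10, 22, 3, 20, 15, 13, 4, 23, 14, 17, 6, 7, 11, 21, 18, 0, 16, 8, 2, 1, 5]),
  ([23, 2, 1, 14, 13, 17, 19, 21, 12, 20, 15, 18, 8, 4, 3, 10, 22, 5, 11, 6, 9, 7, 16, 0],
    [12, 18, 3, 4, 16, 23, 9, 7, 20, 11, 17, 21, 6, 22, 13, 8, 2, 0, 15, 19, 14, 10, 1, 5]),
  ([23, 2, 1, 14, 21, 17, 16, 13, 10, 18, 8, 20, 15, 7, 3, 12, 6, 5, 9, 22, 11, 4, 19, 0],
    [18, 20, 6, 21, 4, 12, 7, 19, 8, 14, 17, 16, 1, 9, 15, 2, 10, 5, 11, 23, 22, 13, 0, 3]),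
  ([23, 2, 1, 5, 18, 3, 9, 10, 22, 6, 7, 16, 13, 12, 17, 19, 11, 14, 4, 15, 21, 20, 8, 0],
    [21, 18, 3, 20, 0, 6, 14, 1, 9, 11, 2, 10, 13, 4, 5, 8, 7, 12, 23, 17, 22, 16, 19, 15]),
  ([23, 2, 1, 5, 8, 3, 10, 9, 4, 7, 6, 13, 16, 11, 17, 21, 12, 14, 22, 20, 19, 15, 18, 0],
    [22, 3, 18, 5, 14, 12, 23, 21, 11, 15, 0, 17, 9, 8, 1, 6, 19, 2, 10, 4, 13, 20, 7, 16]),
  ([23, 2, 1, 5, 16, 3, 7, 6, 12, 10, 9, 18, 8, 22, 17, 20, 4, 14, 11, 21, 15, 19, 13, 0],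
    [20, 15, 21, 11, 22, 14, 5, 12, 9, 13, 4, 10, 19, 1, 8, 0, 16, 17, 7, 3, 23, 18, 2, 6]),
  ([23, 2, 1, 5, 12, 3, 15, 20, 16, 19, 21, 22, 4, 18, 17, 6, 8, 14, 13, 9, 7, 10, 11, 0],
    [17, 2, 1, 14, 23, 11, 15, 5, 7, 6, 3, 9, 0, 4, 16, 21, 10, 22, 13, 20, 12, 18, 19, 8]),
  ([23, 2, 1, 5, 22, 3, 21, 19, 18, 20, 15, 12, 11, 16, 17, 10, 13, 14, 8, 7, 9, 6, 4, 0],
    [22, 2, 1, 9, 13, 19, 15, 20, 3, 8, 14, 12, 5, 23, 10, 11, 0, 7, 18, 6, 17, 21, 4, 16]),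
  ([23, 2, 1, 5, 11, 3, 20, 15, 13, 21, 19, 4, 22, 8, 17, 7, 18, 14, 16, 10, 6, 9, 12, 0],
    [6, 14, 11, 17, 0, 8, 9, 2, 4, 22, 7, 23, 12, 13, 21, 1, 3, 15, 18, 10, 19, 16, 5, 20]),
  ([23, 2, 1, 4, 3, 16, 7, 6, 20, 11, 18, 9, 15, 17, 22, 12, 5, 13, 10, 21, 8, 19, 14, 0],
    [3, 19, 9, 15, 21, 22, 5, 12, 13, 23, 14, 0, 8, 2, 20, 17, 16, 1, 11, 7, 4, 10, 6, 18]),
  ([23, 2, 1, 4, 3, 22, 12, 18, 19, 20, 15, 21, 6, 14, 13, 10, 17, 16, 7, 8, 9, 11, 5, 0],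
    [12, 7, 10, 17, 8, 4, 1, 22, 21, 19, 18, 6, 2, 0, 23, 3, 11, 14, 16, 15, 9, 20, 13, 5]),
  ([23, 2, 1, 4, 3, 13, 10, 15, 11, 19, 6, 8, 18, 5, 16, 7, 14, 22, 12, 9, 21, 20, 17, 0],
    [21, 13, 4, 17, 8, 14, 16, 2, 23, 18, 22, 0, 20, 11, 10, 1, 7, 19, 6, 3, 5, 12, 9, 15]),
  ([23, 2, 1, 11, 7, 18, 16, 4, 17, 10, 9, 3, 14, 19, 12, 20, 6, 8, 5, 13, 15, 22, 21, 0],
    [3, 23, 0, 15, 9, 14, 22, 19, 17, 12, 5, 21, 6, 7, 20, 4, 16, 8, 11, 10, 13, 2, 1, 18]),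
  ([23, 2, 1, 11, 15, 12, 21, 19, 14, 16, 22, 3, 5, 20, 8, 4, 9, 18, 17, 7, 13, 6, 10, 0],
    [20, 10, 7, 8, 1, 3, 15, 19, 5, 13, 0, 17, 18, 16, 12, 2, 4, 14, 11, 9, 22, 21, 23, 6]),
  ([23, 2, 1, 11, 13, 8, 10, 20, 5, 21, 6, 3, 17, 4, 18, 19, 22, 12, 14, 15, 7, 9, 16, 0],
    [4, 11, 14, 3, 17, 12, 2, 6, 5, 16, 1, 18, 10, 8, 19, 21, 23, 7, 9, 15, 20, 22, 0, 13]),
  ([23, 2, 1, 21, 22, 6, 5, 17, 15, 12, 18, 20, 9, 16, 19, 8, 13, 7, 10, 14, 11, 3, 4, 0],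
    [20, 18, 3, 4, 12, 10, 7, 19, 22, 1, 8, 14, 2, 15, 0, 16, 21, 9, 17, 23, 11, 13, 5, 6]),
  ([23, 2, 1, 21, 15, 19, 17, 14, 12, 22, 13, 18, 8, 10, 7, 4, 20, 6, 11, 5, 16, 3, 9, 0],
    [11, 13, 4, 16, 19, 20, 2, 15, 23, 10, 5, 17, 0, 12, 21, 9, 3, 1, 8, 6, 18, 22, 7, 14]),
  ([23, 2, 1, 21, 12, 7, 14, 5, 22, 15, 20, 13, 4, 11, 6, 9, 18, 19, 16, 17, 10, 3, 8, 0],
    [6, 0, 23, 16, 14, 2, 5, 1, 8, 13, 15, 7, 11, 10, 12, 4, 19, 3, 9, 18, 21, 22, 17, 20]),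
  ([23, 2, 1, 22, 14, 13, 7, 6, 9, 8, 12, 20, 10, 5, 4, 18, 17, 16, 15, 21, 11, 19, 3, 0],
    [4, 7, 10, 1, 16, 14, 0, 23, 18, 3, 6, 12, 20, 11, 22, 15, 17, 8, 21, 9, 5, 19, 2, 13]),
  ([23, 2, 1, 22, 5, 4, 8, 11, 6, 20, 15, 7, 19, 17, 16, 10, 14, 13, 21, 12, 9, 18, 3, 0],
    [0, 20, 6, 2, 5, 12, 14, 17, 11, 4, 21, 8, 9, 22, 3, 15, 18, 16, 7, 19, 13, 10, 1, 23]),
  ([23, 2, 1, 22, 17, 16, 20, 9, 11, 7, 21, 8, 18, 14, 13, 19, 5, 4, 12, 15, 6, 10, 3, 0],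
    [5, 4, 13, 1, 19, 16, 8, 14, 18, 11, 6, 3, 23, 10, 7, 21, 22, 9, 0, 15, 17, 20, 2, 12]),
  ([23, 2, 1, 8, 6, 12, 4, 16, 3, 10, 9, 17, 5, 21, 18, 20, 7, 11, 14, 22, 15, 13, 19, 0],
    [0, 21, 15, 12, 17, 22, 8, 19, 5, 20, 6, 2, 16, 14, 3, 4, 9, 1, 18, 10, 13, 11, 7, 23]),
  ([23, 2, 1, 8, 10, 18, 21, 19, 3, 13, 4, 14, 17, 9, 11, 22, 20, 12, 5, 7, 16, 6, 15, 0],
    [15, 19, 9, 1, 3, 23, 10, 20, 2, 5, 18, 13, 22, 12, 4, 17, 14, 16, 0, 6, 11, 7, 8, 21]),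
  ([23, 2, 1, 8, 13, 11, 9, 15, 3, 6, 21, 5, 14, 4, 12, 7, 22, 18, 17, 20, 19, 10, 16, 0],
    [6, 2, 1, 19, 16, 10, 23, 11, 9, 0, 4, 7, 12, 22, 5, 14, 15, 3, 18, 17, 8, 13, 21, 20]),
  ([23, 2, 1, 9, 7, 20, 13, 4, 18, 3, 14, 12, 11, 6, 10, 17, 21, 15, 8, 22, 5, 16, 19, 0],
    [19, 15, 21, 2, 11, 13, 12, 14, 20, 1, 16, 10, 7, 5, 22, 23, 17, 0, 6, 3, 4, 8, 18, 9]),
  ([23, 2, 1, 9, 16, 10, 12, 8, 7, 3, 5, 19, 6, 22, 15, 14, 4, 20, 21, 11, 17, 18, 13, 0],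
    [15, 2, 1, 23, 22, 14, 9, 5, 12, 0, 11, 10, 19, 6, 8, 17, 16, 13, 18, 7, 4, 3, 20, 21]),
  ([23, 2, 1, 9, 18, 15, 19, 21, 16, 3, 17, 13, 22, 11, 20, 5, 8, 10, 4, 6, 14, 7, 12, 0],
    [7, 3, 18, 17, 22, 14, 9, 5, 2, 8, 23, 20, 15, 6, 13, 11, 1, 0, 16, 19, 4, 12, 21, 10]),
  ([23, 2, 1, 6, 11, 19, 3, 17, 16, 15, 20, 4, 13, 12, 21, 9, 8, 7, 22, 5, 10, 14, 18, 0],
    [4, 1, 2, 12, 6, 18, 5, 11, 7, 23, 16, 20, 19, 9, 17, 0, 10, 14, 15, 3, 22, 8, 21, 13]),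
  ([23, 2, 1, 6, 22, 21, 3, 14, 20, 18, 12, 15, 10, 16, 7, 11, 13, 19, 9, 17, 8, 5, 4, 0],
    [7, 2, 1, 17, 19, 20, 8, 11, 12, 13, 18, 0, 3, 22, 14, 23, 16, 21, 4, 15, 5, 6, 9, 10]),
  ([23, 2, 1, 6, 9, 7, 3, 5, 12, 4, 16, 18, 8, 20, 19, 22, 10, 21, 11, 14, 13, 17, 15, 0],
    [10, 15, 21, 23, 14, 22, 0, 16, 6, 11, 12, 19, 20, 18, 2, 17, 5, 4, 9, 1, 3, 13, 8, 7]),
  ([23, 2, 1, 15, 16, 20, 8, 12, 6, 14, 17, 21, 7, 22, 9, 3, 4, 10, 19, 18, 5, 11, 13, 0],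
    [19, 12, 5, 0, 7, 14, 22, 6, 16, 8, 4, 15, 20, 3, 17, 23, 10, 13, 2, 1, 11, 21, 18, 9]),
  ([23, 2, 1, 15, 8, 9, 19, 21, 4, 5, 14, 22, 13, 12, 10, 3, 18, 20, 16, 6, 17, 7, 11, 0],
    [7, 13, 4, 20, 11, 21, 19, 23, 14, 15, 5, 1, 22, 16, 12, 6, 17, 18, 8, 9, 3, 0, 2, 10]),
  ([23, 2, 1, 15, 19, 10, 16, 22, 18, 17, 5, 12, 11, 21, 20, 3, 6, 9, 8, 4, 14, 13, 7, 0],
    [6, 17, 8, 22, 3, 10, 12, 13, 21, 19, 7, 14, 11, 23, 1, 16, 5, 9, 15, 18, 2, 0, 4, 20]),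
  ([23, 2, 1, 16, 5, 4, 7, 6, 10, 12, 8, 15, 9, 14, 13, 11, 3, 22, 20, 21, 18, 19, 17, 0],
    [23, 11, 14, 15, 22, 16, 17, 8, 5, 10, 12, 18, 7, 20, 6, 3, 21, 1, 19, 4, 9, 13, 2, 0]),
  ([23, 2, 1, 16, 17, 13, 18, 12, 21, 20, 15, 19, 7, 5, 22, 10, 3, 4, 6, 11, 9, 8, 14, 0],
    [0, 8, 17, 12, 18, 19, 15, 6, 16, 14, 13, 1, 20, 9, 7, 4, 5, 3, 21, 2, 11, 22, 10, 23]),
  ([23, 2, 1, 16, 14, 22, 9, 20, 11, 6, 19, 8, 18, 17, 4, 21, 3, 13, 12, 10, 7, 15, 5, 0],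
    [14, 1, 2, 20, 18, 15, 10, 19, 8, 7, 23, 17, 16, 5, 3, 4, 6, 12, 22, 0, 9, 13, 21, 11])]

/-- a fixed involution fixing the base octad pointwise -/
def E1i : List ℕ := [0, 1, 2, 3, 6, 5, 4, 22, 20, 12, 11, 10, 9, 19, 14, 18, 21, 17, 15, 13, 8, 16, 7, 23]

/-- conjugating elements for the involutions fixing the base octad pointwise -/
def C3i : List (List ℕ × List ℕ) := [
  ([0, 1, 2, 3, 6, 5, 4, 22, 20, 12, 11, 10, 9, 19, 14, 18, 21, 17, 15, 13, 8, 16, 7, 23],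
    [0, 1, 2, 3, 4, 5, 6, 7, 8, 9, 10, 11, 12, 13, 14, 15, 16, 17, 18, 19, 20, 21, 22, 23]),
  ([0, 1, 2, 3, 7, 5, 22, 4, 15, 11, 12, 9, 10, 21, 14, 8, 19, 17, 20, 16, 18, 13, 6, 23],
    [17, 0, 5, 14, 16, 3, 6, 21, 7, 18, 11, 15, 10, 12, 23, 22, 8, 1, 19, 20, 13, 9, 4, 2]),
  ([0, 1, 2, 3, 8, 5, 20, 15, 4, 21, 19, 13, 16, 11, 14, 7, 12, 17, 22, 10, 6, 9, 18, 23],
    [17, 1, 14, 23, 21, 5, 15, 19, 16, 4, 12, 22, 11, 7, 3, 13, 10, 0, 8, 9, 18, 6, 20, 2]),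
  ([0, 1, 2, 3, 9, 5, 12, 11, 21, 4, 22, 7, 6, 15, 14, 13, 20, 17, 19, 18, 16, 8, 10, 23],
    [14, 2, 17, 1, 6, 23, 12, 19, 11, 4, 15, 13, 9, 20, 0, 8, 22, 5, 21, 16, 7, 10, 18, 3]),
  ([0, 1, 2, 3, 10, 5, 11, 12, 19, 22, 4, 6, 7, 20, 14, 16, 15, 17, 21, 8, 13, 18, 9, 23],
    [17, 5, 1, 2, 7, 3, 12, 6, 21, 10, 22, 9, 4, 15, 0, 19, 13, 23, 8, 16, 18, 20, 11, 14]),
  ([0, 1, 2, 3, 11, 5, 10, 9, 13, 7, 6, 4, 22, 8, 14, 21, 18, 17, 16, 20, 19, 15, 12, 23],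
    [17, 2, 0, 5, 12, 23, 6, 16, 7, 21, 4, 9, 8, 22, 14, 15, 19, 3, 13, 10, 11, 18, 20, 1]),
  ([0, 1, 2, 3, 12, 5, 9, 10, 16, 6, 7, 22, 4, 18, 14, 19, 8, 17, 13, 15, 21, 20, 11, 23],
    [17, 14, 23, 2, 8, 1, 22, 9, 21, 7, 12, 13, 20, 15, 3, 4, 16, 0, 18, 6, 10, 11, 19, 5]),
  ([0, 1, 2, 3, 13, 5, 19, 21, 11, 15, 20, 8, 18, 4, 14, 9, 22, 17, 12, 6, 10, 7, 16, 23],
    [14, 5, 3, 17, 11, 23, 6, 12, 13, 21, 8, 19, 18, 10, 0, 16, 22, 1, 15, 4, 20, 9, 7, 2]),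
  ([0, 1, 2, 3, 15, 5, 18, 8, 7, 13, 16, 21, 19, 9, 14, 4, 10, 17, 6, 12, 22, 11, 20, 23],
    [0, 5, 23, 14, 20, 3, 11, 9, 12, 7, 4, 19, 16, 22, 17, 8, 6, 2, 10, 21, 15, 13, 18, 1]),
  ([0, 1, 2, 3, 16, 5, 21, 19, 12, 20, 15, 18, 8, 22, 14, 10, 4, 17, 11, 7, 9, 6, 13, 23],
    [14, 23, 0, 2, 4, 17, 21, 19, 18, 11, 12, 20, 15, 7, 1, 9, 6, 5, 8, 13, 10, 16, 22, 3]),
  ([0, 1, 2, 3, 18, 5, 15, 20, 22, 19, 21, 16, 13, 12, 14, 6, 11, 17, 4, 9, 7, 10, 8, 23],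
    [2, 0, 1, 17, 12, 14, 6, 19, 15, 16, 22, 10, 20, 8, 5, 4, 11, 3, 9, 21, 13, 7, 18, 23]),
  ([0, 1, 2, 3, 19, 5, 13, 16, 10, 18, 8, 20, 15, 6, 14, 12, 7, 17, 9, 4, 11, 22, 21, 23],
    [2, 5, 23, 3, 9, 0, 13, 11, 15, 22, 18, 6, 20, 19, 17, 8, 10, 1, 7, 12, 4, 16, 21, 14]),
  ([0, 1, 2, 3, 20, 5, 8, 18, 6, 16, 13, 19, 21, 10, 14, 22, 9, 17, 7, 11, 4, 12, 15, 23],
    [14, 0, 2, 23, 7, 17, 15, 10, 18, 12, 8, 4, 16, 20, 1, 13, 9, 5, 11, 6, 22, 21, 19, 3]),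
  ([0, 1, 2, 3, 21, 5, 16, 13, 9, 8, 18, 15, 20, 7, 14, 11, 6, 17, 10, 22, 12, 4, 19, 23],
    [3, 2, 23, 17, 10, 0, 20, 9, 13, 19, 7, 21, 6, 12, 14, 16, 8, 1, 22, 18, 4, 11, 15, 5]),
  ([0, 1, 2, 3, 22, 5, 7, 6, 18, 10, 9, 12, 11, 16, 14, 20, 13, 17, 8, 21, 15, 19, 4, 23],
    [1, 5, 14, 2, 8, 0, 22, 7, 15, 13, 19, 9, 12, 11, 3, 4, 10, 17, 18, 16, 6, 21, 20, 23])]

/-- the table has no fixed point -/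
def fpfT (X : List ℕ) : Bool := allBelow 24 (fun i => !(Nat.beq (X.getD i 0) i))

/-- the mask `m` is the set of fixed points of the table -/
def fixIs (m : ℕ) (P : List ℕ) : Bool :=
  allBelow 24 (fun i => m.testBit i == Nat.beq (P.getD i 0) i)

/-- level check: the tables lie in `M24` and fix the first `k` base points -/
def lvlOK (L : List (List ℕ)) (k : ℕ) : Bool :=
  L.all (fun T => tblOK 0xffffff T && fixesB T k)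

/-- cover check: the images of the `k`-th base point cover the `k`-th orbit -/
def lvlCover (L : List (List ℕ)) (k : ℕ) : Bool :=
  allBelow 24 (fun δ => !((Dmask k).testBit δ) || L.any (fun T => Nat.beq (T.getD (base k) 0) δ))

theorem L4i_ok : lvlOK L4i 4 = true := by decide +kernel
theorem L5i_ok : lvlOK L5i 5 = true := by decide +kernel
theorem L6i_ok : lvlOK L6i 6 = true := by decide +kernel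
theorem L4i_cover : lvlCover L4i 4 = true := by decide +kernel
theorem L5i_cover : lvlCover L5i 5 = true := by decide +kernel
theorem L6i_cover : lvlCover L6i 6 = true := by decide +kernel

theorem FMLi_ok : FMLi.all isOct = true := by decide +kernel

set_option maxRecDepth 100000 in
/-- every involution fixing the first four base points has an octad as its set of fixed points -/
theorem inv960_ok : L4i.all (fun A => L5i.all (fun B => L6i.all (fun C =>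
    !(isId (compT (compT (compT A B) C) (compT (compT A B) C))) || isId (compT (compT A B) C) ||
      FMLi.any (fun m => fixIs m (compT (compT A B) C))))) = true := by decide +kernel

theorem G0i_ok : (tblOK 0xffffff G0i && isId (compT G0i G0i) && fpfT G0i &&
    Nat.beq (G0i.getD 23 0) 0 && Nat.beq (G0i.getD 0 0) 23 && Nat.beq (G0i.getD 1 0) 2 &&
    Nat.beq (G0i.getD 2 0) 1) = true := by decide +kernel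

theorem CCLi_ok : CCLi.all (fun e => tblOK 0xffffff e.2) = true := by decide +kernel

set_option maxRecDepth 100000 in
/-- every fixed point free involution acting like `G0i` on the first four base points is conjugate
to `G0i` -/
theorem fpf960_ok : L4i.all (fun A => L5i.all (fun B => L6i.all (fun C =>
    !(isId (compT (compT G0i (compT (compT A B) C)) (compT G0i (compT (compT A B) C)))) ||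
      !(fpfT (compT G0i (compT (compT A B) C))) ||
      CCLi.any (fun e => (e.1 == compT G0i (compT (compT A B) C)) &&
        (compT e.2 e.1 == compT G0i e.2))))) = true := by decide +kernel

theorem E1i_ok : (F0L.contains E1i && !(isId E1i)) = true := by decide +kernel

theorem C3i_ok : F0L.all (fun E => isId E || C3i.any (fun e => (e.1 == E) && tblOK 0xffffff e.2 &&
    (compT e.2 E == compT E1i e.2))) = true := by decide +kernel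

end Cfsg.Agent.Lib.Helper3.Golay
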