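import Mathlib
import Cfsg.Prelude.Def_Sporadic_a
import Cfsg.Agent.Lib.Helper3.Golay.M11Cert

set_option autoImplicit false

/-! The stabilizer of three points of the base dodecad in the stabilizer of the dodecad: elements,
elements of order three, the stabilizer of a fourth point. -/

namespace Cfsg.Agent.Lib.Helper3.Golay

open Cfsg
open scoped Pointwise

theorem b2_eq : b2 0 = pt 0 ∧ b2 1 = pt 1 ∧ b2 2 = pt 2 ∧ b2 3 = pt 3 ∧ b2 4 = pt 4 :=
  ⟨rfl, rfl, rfl, rfl, rfl⟩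

theorem mask3_aux : ∀ y : GolayPt, d0.testBit (idx y) = true → y ≠ pt 0 → y ≠ pt 1 → y ≠ pt 2 →
    (0x5335f - 7 : ℕ).testBit (idx y) = true := by decide +kernel

theorem mask3_aux' : ∀ y : GolayPt, (0x5335f - 7 : ℕ).testBit (idx y) = true →
    d0.testBit (idx y) = true ∧ y ≠ pt 0 ∧ y ≠ pt 1 ∧ y ≠ pt 2 := by decide +kernel

theorem mask4_aux : ∀ y : GolayPt, d0.testBit (idx y) = true → y ≠ pt 0 → y ≠ pt 1 → y ≠ pt 2 →
    y ≠ pt 3 → (0x5335f - 15 : ℕ).testBit (idx y) = true := by decide +kernel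

theorem pt34_mem : pt 3 ∈ bitSet d0 ∧ pt 4 ∈ bitSet d0 := by
  constructor <;> (rw [mem_bitSet]; decide +kernel)

theorem isId_iff {g : Equiv.Perm GolayPt} {T : List ℕ} (hT : HasTbl g T) : isId T = true ↔ g = 1 := by
  unfold isId
  rw [allBelow_iff]
  constructor
  · intro h
    refine Equiv.ext fun x => ?_
    rw [Equiv.Perm.one_apply, ← pt_idx x, hT.apply (idx_lt x), Nat.eq_of_beq_eq_true (h _ (idx_lt x))]
  · rintro rfl i hi
    rw [← hT.2 i hi, Equiv.Perm.one_apply, idx_pt hi]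
    exact Nat.beq_refl i

theorem HasTbl.cube {g : Equiv.Perm GolayPt} {T : List ℕ} (hT : HasTbl g T) :
    HasTbl (g * g * g) (cubeT T) := (hT.mul hT).mul hT

/-- membership of a table in a list, from `List.contains` -/
theorem mem_of_contains {L : List (List ℕ)} {T : List ℕ} (h : L.contains T = true) : T ∈ L := by
  simpa using h

/-- soundness of the tables of `M9L` -/
theorem M9L_sound {T : List ℕ} (hT : T ∈ M9L) :
    ∃ σ ∈ H12, HasTbl σ T ∧ σ (pt 0) = pt 0 ∧ σ (pt 1) = pt 1 ∧ σ (pt 2) = pt 2 := by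
  have h := List.all_eq_true.mp M9L_ok T hT
  rw [Bool.and_eq_true] at h
  obtain ⟨σ, hσ, hσT⟩ := tblOK_sound h.1
  have hl : ∀ j < 3, ([0, 1, 2] : List ℕ).getD j 0 < 24 := by decide
  have hf := fixesL_sound hσT hl h.2
  exact ⟨σ, hσ, hσT, hf 0 (by norm_num), hf 1 (by norm_num), hf 2 (by norm_num)⟩

/-- every element of the stabilizer of the base dodecad fixing 0, 1, 2 is given by a table -/
theorem exists_tbl_M9 {g : Equiv.Perm GolayPt} (hg : g ∈ H12) (h0 : g (pt 0) = pt 0)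
    (h1 : g (pt 1) = pt 1) (h2 : g (pt 2) = pt 2) : ∃ T ∈ M9L, HasTbl g T := by
  have hmem : ∀ y : GolayPt, y ∈ bitSet d0 → y ≠ pt 0 → y ≠ pt 1 → y ≠ pt 2 →
      (0x5335f - 7 : ℕ).testBit (idx (g y)) = true := by
    intro y hy n0 n1 n2
    apply mask3_aux
    · have : g • y ∈ bitSet d0 := (mem_H12_smul hg y).mpr hy
      exact mem_bitSet.mp this
    · intro h; rw [← h0] at h; exact n0 (g.injective h)
    · intro h; rw [← h1] at h; exact n1 (g.injective h)
    · intro h; rw [← h2] at h; exact n2 (g.injective h)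
  have m3 := hmem (pt 3) pt34_mem.1 (by decide) (by decide) (by decide)
  have m4 := hmem (pt 4) pt34_mem.2 (by decide) (by decide) (by decide)
  have hne : idx (g (pt 3)) ≠ idx (g (pt 4)) := by
    intro h
    have := g.injective (idx_injective h)
    revert this; decide
  have hc := (allBelow_iff _ _).mp ((allBelow_iff _ _).mp M9L_cover _ (idx_lt (g (pt 3)))) _
    (idx_lt (g (pt 4)))
  rw [m3, m4] at hc
  simp only [Bool.not_true, Bool.false_or, Bool.or_eq_true, List.any_eq_true,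
    Bool.and_eq_true] at hc
  rcases hc with hc | ⟨T, hTL, hT3, hT4⟩
  · exact absurd (Nat.eq_of_beq_eq_true hc) hne
  · obtain ⟨σ, hσ, hσT, s0, s1, s2⟩ := M9L_sound hTL
    have s3 : σ (pt 3) = g (pt 3) := by
      rw [hσT.apply (by norm_num), Nat.eq_of_beq_eq_true hT3, pt_idx]
    have s4 : σ (pt 4) = g (pt 4) := by
      rw [hσT.apply (by norm_num), Nat.eq_of_beq_eq_true hT4, pt_idx]
    have : σ⁻¹ * g ∈ H12 ⊓ fixSeq (Equiv.Perm GolayPt) b2 5 := by
      refine Subgroup.mem_inf.mpr ⟨H12.mul_mem (H12.inv_mem hσ) hg, ?_⟩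
      rw [mem_fixSeq]
      intro j hj
      rw [Equiv.Perm.smul_def, Equiv.Perm.mul_apply, Equiv.Perm.inv_eq_iff_eq]
      interval_cases j
      · show g (pt 0) = σ (pt 0); rw [h0, s0]
      · show g (pt 1) = σ (pt 1); rw [h1, s1]
      · show g (pt 2) = σ (pt 2); rw [h2, s2]
      · show g (pt 3) = σ (pt 3); rw [s3]
      · show g (pt 4) = σ (pt 4); rw [s4]
    rw [H12_fix5, Subgroup.mem_bot] at this
    have hge : g = σ := by
      have := congrArg (σ * ·) this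
      simpa using this
    exact ⟨T, hTL, hge ▸ hσT⟩

/-- the elements of order dividing three are given by the tables of `K9L` -/
theorem exists_tbl_K9 {g : Equiv.Perm GolayPt} (hg : g ∈ H12) (h0 : g (pt 0) = pt 0)
    (h1 : g (pt 1) = pt 1) (h2 : g (pt 2) = pt 2) (h3 : g * g * g = 1) : ∃ T ∈ K9L, HasTbl g T := by
  obtain ⟨T, hTL, hT⟩ := exists_tbl_M9 hg h0 h1 h2
  have h := List.all_eq_true.mp M9L_cube T hTL
  have hid : isId (cubeT T) = true := (isId_iff hT.cube).mpr h3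
  rw [hid] at h
  simp only [Bool.not_true, Bool.false_or] at h
  exact ⟨T, mem_of_contains h, hT⟩

theorem K9L_sound {T : List ℕ} (hT : T ∈ K9L) :
    ∃ σ ∈ H12, HasTbl σ T ∧ σ (pt 0) = pt 0 ∧ σ (pt 1) = pt 1 ∧ σ (pt 2) = pt 2 ∧ σ * σ * σ = 1 := by
  have h := List.all_eq_true.mp K9L_sub T hT
  rw [Bool.and_eq_true] at h
  obtain ⟨σ, hσ, hσT, s0, s1, s2⟩ := M9L_sound (mem_of_contains h.1)
  exact ⟨σ, hσ, hσT, s0, s1, s2, (isId_iff hσT.cube).mp h.2⟩

/-- two elements of order dividing three fixing 0, 1, 2 commute -/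
theorem K9_comm {a b : Equiv.Perm GolayPt} (ha : a ∈ H12) (a0 : a (pt 0) = pt 0)
    (a1 : a (pt 1) = pt 1) (a2 : a (pt 2) = pt 2) (a3 : a * a * a = 1)
    (hb : b ∈ H12) (b0 : b (pt 0) = pt 0) (b1 : b (pt 1) = pt 1) (b2' : b (pt 2) = pt 2)
    (b3 : b * b * b = 1) : a * b = b * a := by
  obtain ⟨A, hA, haT⟩ := exists_tbl_K9 ha a0 a1 a2 a3
  obtain ⟨B, hB, hbT⟩ := exists_tbl_K9 hb b0 b1 b2' b3
  have h := List.all_eq_true.mp (List.all_eq_true.mp K9L_comm A hA) B hB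
  have h' : compT A B = compT B A := by simpa using h
  have h1 := haT.mul hbT
  have h2 := hbT.mul haT
  rw [h'] at h1
  exact h1.ext h2

/-- the elements of order dividing three fixing 0, 1, 2 are transitive on the other nine points of
the base dodecad -/
theorem K9_trans {y : GolayPt} (hy : y ∈ bitSet d0) (n0 : y ≠ pt 0) (n1 : y ≠ pt 1) (n2 : y ≠ pt 2) :
    ∃ k ∈ H12, k (pt 0) = pt 0 ∧ k (pt 1) = pt 1 ∧ k (pt 2) = pt 2 ∧ k * k * k = 1 ∧ k (pt 3) = y := by
  have hm := mask3_aux y (mem_bitSet.mp hy) n0 n1 n2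
  have hc := (allBelow_iff _ _).mp K9L_trans _ (idx_lt y)
  rw [hm] at hc
  simp only [Bool.not_true, Bool.false_or, List.any_eq_true] at hc
  obtain ⟨T, hTL, hT3⟩ := hc
  obtain ⟨σ, hσ, hσT, s0, s1, s2, s3⟩ := K9L_sound hTL
  refine ⟨σ, hσ, s0, s1, s2, s3, ?_⟩
  rw [hσT.apply (by norm_num), Nat.eq_of_beq_eq_true hT3, pt_idx]

end Cfsg.Agent.Lib.Helper3.Golay
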