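import Mathlib

set_option autoImplicit false

/-! A generic maximality criterion for point stabilizers: if the stabilizer of `x` is transitive on
each of finitely many classes of the orbit of `x` and no proper union of classes (containing `x`)
has size dividing the size of the orbit, then the stabilizer is a maximal subgroup. -/

namespace Cfsg.Agent.Lib.Helper3.Golay

open scoped Classical in
theorem isCoatom_stabilizer_of_suborbits {G X : Type*} [Group G] [MulAction G X] (x : X)
    (Ω : Finset X) (hΩ : ∀ y, y ∈ Ω ↔ y ∈ MulAction.orbit G x)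
    (cls : X → ℕ) (r : ℕ) (n : ℕ → ℕ)
    (hcls0 : ∀ y ∈ Ω, cls y = 0 ↔ y = x) (hclsr : ∀ y ∈ Ω, cls y ≤ r)
    (hn : ∀ i ≤ r, (Ω.filter (fun y => cls y = i)).card = n i)
    (htrans : ∀ y ∈ Ω, ∀ y' ∈ Ω, cls y = cls y' →
      ∃ h ∈ MulAction.stabilizer G x, h • y = y')
    (harith : ∀ I ⊆ Finset.range (r + 1), 0 ∈ I → (∀ i ∈ I, n i ≠ 0) → (∑ i ∈ I, n i) ∣ Ω.card →
      I = {0} ∨ ∀ i ≤ r, n i ≠ 0 → i ∈ I)
    (hne : 2 ≤ Ω.card) : IsCoatom (MulAction.stabilizer G x) := by
  have hxΩ : x ∈ Ω := (hΩ x).mpr (MulAction.mem_orbit_self x)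
  constructor
  · -- the stabilizer is proper
    intro htop
    obtain ⟨y, hy, hyx⟩ : ∃ y ∈ Ω, y ≠ x := by
      by_contra hcon
      push Not at hcon
      have : Ω ⊆ {x} := fun y hy => Finset.mem_singleton.mpr (hcon y hy)
      have := Finset.card_le_card this
      simp at this
      omega
    obtain ⟨g, rfl⟩ := (hΩ y).mp hy
    apply hyx
    have : g ∈ MulAction.stabilizer G x := by rw [htop]; trivial
    exact this
  · intro K hK
    set H := MulAction.stabilizer G x with hH
    have hle : H ≤ K := le_of_lt hK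
    set B : Finset X := Ω.filter (fun y => ∃ k ∈ K, k • x = y) with hB
    set I : Finset ℕ := (Finset.range (r + 1)).filter (fun i => ∃ y ∈ B, cls y = i) with hI
    have hxB : x ∈ B := by
      rw [hB, Finset.mem_filter]; exact ⟨hxΩ, 1, K.one_mem, one_smul _ _⟩
    have h0I : 0 ∈ I := by
      rw [hI, Finset.mem_filter, Finset.mem_range]
      exact ⟨by omega, x, hxB, (hcls0 x hxΩ).mpr rfl⟩
    have hBeq : B = I.biUnion (fun i => Ω.filter (fun y => cls y = i)) := by
      ext y
      rw [Finset.mem_biUnion]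
      constructor
      · intro hy
        have hyΩ : y ∈ Ω := (Finset.mem_filter.mp hy).1
        refine ⟨cls y, ?_, Finset.mem_filter.mpr ⟨hyΩ, rfl⟩⟩
        rw [hI, Finset.mem_filter, Finset.mem_range]
        exact ⟨Nat.lt_succ_of_le (hclsr y hyΩ), y, hy, rfl⟩
      · rintro ⟨i, hi, hy⟩
        rw [Finset.mem_filter] at hy
        rw [hI, Finset.mem_filter] at hi
        obtain ⟨y', hy', hcy'⟩ := hi.2
        have hy'Ω : y' ∈ Ω := (Finset.mem_filter.mp hy').1
        obtain ⟨k, hk, hkx⟩ := (Finset.mem_filter.mp hy').2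
        obtain ⟨h, hh, hhy⟩ := htrans y' hy'Ω y hy.1 (by rw [hcy', hy.2])
        rw [hB, Finset.mem_filter]
        refine ⟨hy.1, h * k, K.mul_mem (hle hh) hk, ?_⟩
        rw [mul_smul, hkx, hhy]
    have hBcard : B.card = ∑ i ∈ I, n i := by
      rw [hBeq, Finset.card_biUnion]
      · apply Finset.sum_congr rfl
        intro i hi
        rw [hI, Finset.mem_filter, Finset.mem_range] at hi
        exact hn i (by omega)
      · intro i _ j _ hij
        rw [Function.onFun, Finset.disjoint_left]
        intro y hy hy'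
        rw [Finset.mem_filter] at hy hy'
        exact hij (hy.2.symm.trans hy'.2)
    -- the size of `B` divides the size of the orbit
    have hBK : (B : Set X) = MulAction.orbit K x := by
      ext y
      rw [Finset.mem_coe, hB, Finset.mem_filter]
      constructor
      · rintro ⟨-, k, hk, rfl⟩
        exact ⟨⟨k, hk⟩, rfl⟩
      · rintro ⟨k, rfl⟩
        exact ⟨(hΩ _).mpr ⟨k.1, rfl⟩, k.1, k.2, rfl⟩
    have hΩG : (Ω : Set X) = MulAction.orbit G x := by
      ext y; rw [Finset.mem_coe, hΩ]
    have h1 : H.index = Ω.card := by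
      rw [hH, MulAction.index_stabilizer, ← hΩG, Set.ncard_coe_finset]
    have h2 : H.relIndex K = B.card := by
      have : MulAction.stabilizer K x = H.subgroupOf K := by
        ext k
        rw [MulAction.mem_stabilizer_iff, Subgroup.mem_subgroupOf, hH, MulAction.mem_stabilizer_iff]
        rfl
      rw [Subgroup.relIndex, ← this, MulAction.index_stabilizer, ← hBK, Set.ncard_coe_finset]
    have hdvd : B.card ∣ Ω.card := by
      rw [← h1, ← h2, ← Subgroup.relIndex_mul_index hle]
      exact Dvd.intro _ rfl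
    rw [hBcard] at hdvd
    have hIsub : I ⊆ Finset.range (r + 1) := Finset.filter_subset _ _
    have hInz : ∀ i ∈ I, n i ≠ 0 := by
      intro i hi
      rw [hI, Finset.mem_filter, Finset.mem_range] at hi
      obtain ⟨y, hy, hcy⟩ := hi.2
      rw [← hn i (by omega)]
      apply Finset.card_ne_zero_of_mem (a := y)
      exact Finset.mem_filter.mpr ⟨(Finset.mem_filter.mp hy).1, hcy⟩
    rcases harith I hIsub h0I hInz hdvd with h | h
    · -- `B = {x}` contradicts `H < K`
      exfalso
      obtain ⟨k, hkK, hkH⟩ := SetLike.exists_of_lt hK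
      apply hkH
      rw [hH, MulAction.mem_stabilizer_iff]
      have hkB : k • x ∈ B := by
        rw [hB, Finset.mem_filter]
        exact ⟨(hΩ _).mpr ⟨k, rfl⟩, k, hkK, rfl⟩
      have : cls (k • x) ∈ I := by
        rw [hI, Finset.mem_filter, Finset.mem_range]
        exact ⟨Nat.lt_succ_of_le (hclsr _ ((hΩ _).mpr ⟨k, rfl⟩)), k • x, hkB, rfl⟩
      rw [h, Finset.mem_singleton] at this
      exact (hcls0 _ ((hΩ _).mpr ⟨k, rfl⟩)).mp this
    · -- `B = Ω`, so `K` is everything
      rw [eq_top_iff]
      intro g _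
      have hgΩ : g • x ∈ Ω := (hΩ _).mpr ⟨g, rfl⟩
      have hgB : g • x ∈ B := by
        rw [hBeq, Finset.mem_biUnion]
        refine ⟨cls (g • x), ?_, Finset.mem_filter.mpr ⟨hgΩ, rfl⟩⟩
        apply h _ (hclsr _ hgΩ)
        rw [← hn _ (hclsr _ hgΩ)]
        apply Finset.card_ne_zero_of_mem (a := g • x)
        exact Finset.mem_filter.mpr ⟨hgΩ, rfl⟩
      obtain ⟨k, hk, hkx⟩ := (Finset.mem_filter.mp hgB).2
      have : k⁻¹ * g ∈ H := by
        rw [hH, MulAction.mem_stabilizer_iff, mul_smul, ← hkx, inv_smul_smul]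
      have := K.mul_mem hk (hle this)
      rwa [mul_inv_cancel_left] at this

end Cfsg.Agent.Lib.Helper3.Golay
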