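import Mathlib
import Cfsg.Prelude.Def_Sporadic_a
import Cfsg.Agent.Lib.Helper3.Golay.Dodecad

set_option autoImplicit false

/-! A generic orbit certificate: a subgroup `H` of `M24` given by coded generator tables, a class
function on code word indices and a depth table proving that `H` is transitive on each class. -/

namespace Cfsg.Agent.Lib.Helper3.Golay

open Cfsg
open scoped Pointwise

/-- the stabilizer in `M24` of the sets with bitmasks in `ms` and of the points with indices in `ps` -/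
def stabH (ms ps : List ℕ) : Subgroup (Equiv.Perm GolayPt) where
  carrier := {σ | σ ∈ M24 ∧ (∀ m ∈ ms, σ • bitSet m = bitSet m) ∧ ∀ p ∈ ps, σ (pt p) = pt p}
  mul_mem' := by
    rintro a b ⟨ha1, ha2, ha3⟩ ⟨hb1, hb2, hb3⟩
    refine ⟨M24.mul_mem ha1 hb1, ?_, ?_⟩
    · intro m hm; rw [mul_smul, hb2 m hm, ha2 m hm]
    · intro p hp; rw [Equiv.Perm.mul_apply, hb3 p hp, ha3 p hp]
  one_mem' := ⟨M24.one_mem, fun _ _ => one_smul _ _, fun _ _ => rfl⟩
  inv_mem' := by
    rintro a ⟨ha1, ha2, ha3⟩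
    refine ⟨M24.inv_mem ha1, ?_, ?_⟩
    · intro m hm
      rw [inv_smul_eq_iff, ha2 m hm]
    · intro p hp
      rw [Equiv.Perm.inv_eq_iff_eq, ha3 p hp]

theorem mem_stabH {ms ps : List ℕ} {σ : Equiv.Perm GolayPt} :
    σ ∈ stabH ms ps ↔ σ ∈ M24 ∧ (∀ m ∈ ms, σ • bitSet m = bitSet m) ∧ ∀ p ∈ ps, σ (pt p) = pt p :=
  Iff.rfl

/-- the list table of a coded table -/
def listOfN (N : ℕ) : List ℕ := (List.range 24).map (tblN N)

theorem listOfN_getD (N : ℕ) {i : ℕ} (hi : i < 24) : (listOfN N).getD i 0 = tblN N i := by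
  unfold listOfN
  rw [List.getD_eq_getElem _ _ (by simpa using hi)]
  simp

/-- checks for a coded generator: a permutation in `M24` stabilizing the masks `ms` and fixing the
points `ps` -/
def genOK (ms ps : List ℕ) (N : ℕ) : Bool :=
  okInv (listOfN N) (invT (listOfN N)) && okInv (invT (listOfN N)) (listOfN N) &&
    codeOK (listOfN N) && ms.all (fun m => Nat.beq (pmAux (tblFn (listOfN N)) 24 m) m) &&
    ps.all (fun p => Nat.blt p 24 && Nat.beq (tblN N p) p)

theorem genOK_sound {ms ps : List ℕ} {N : ℕ} (h : genOK ms ps N = true) :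
    ∃ σ ∈ stabH ms ps, ∀ i < 24, idx (σ (pt i)) = tblN N i := by
  unfold genOK at h
  simp only [Bool.and_eq_true] at h
  obtain ⟨⟨⟨⟨h1, h2⟩, h3⟩, h4⟩, h5⟩ := h
  have hT := hasTbl_permOfTbl (listOfN N) (invT (listOfN N)) h1 h2
  refine ⟨permOfTbl (listOfN N) (invT (listOfN N)) h1 h2, ⟨hT.mem_M24 h3, ?_, ?_⟩, ?_⟩
  · intro m hm
    rw [List.all_eq_true] at h4
    rw [hT.smul_bitSet, Nat.eq_of_beq_eq_true (h4 m hm)]
  · intro p hp
    rw [List.all_eq_true] at h5
    have := h5 p hp
    rw [Bool.and_eq_true] at this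
    have hp24 : p < 24 := by simpa [Nat.blt_eq] using this.1
    rw [hT.apply hp24, listOfN_getD N hp24, Nat.eq_of_beq_eq_true this.2]
  · intro i hi
    rw [hT.2 i hi, listOfN_getD N hi]

/-- depth of a code word index in a depth literal (4 bits per index) -/
def depN (L c : ℕ) : ℕ := (L >>> (4 * c)) &&& 15

/-- the check of an orbit certificate at the index `c` -/
def orbOK (gens : List ℕ) (cls rep : ℕ → ℕ) (L c : ℕ) : Bool :=
  Nat.beq (cls c) 0 || Nat.beq c (rep (cls c)) ||
    gens.any (fun N => Nat.blt (depN L (imgIdx N c)) (depN L c) &&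
      Nat.beq (cls (imgIdx N c)) (cls c))

theorem orbit_cert (H : Subgroup (Equiv.Perm GolayPt)) (hH : H ≤ M24) (gens : List ℕ)
    (hgens : ∀ N ∈ gens, ∃ σ ∈ H, ∀ i < 24, idx (σ (pt i)) = tblN N i)
    (cls rep : ℕ → ℕ) (L : ℕ) (hcert : allBelow 4096 (orbOK gens cls rep L) = true) :
    ∀ c < 4096, cls c ≠ 0 →
      ∃ g ∈ H, g • bitSet (codeMask (rep (cls c))) = bitSet (codeMask c) := by
  have key : ∀ n, ∀ c < 4096, depN L c = n → cls c ≠ 0 →
      ∃ g ∈ H, g • bitSet (codeMask (rep (cls c))) = bitSet (codeMask c) := by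
    intro n
    induction n using Nat.strong_induction_on with
    | _ n ih =>
      intro c hc hn hcls
      have h1 := (allBelow_iff _ _).mp hcert c hc
      unfold orbOK at h1
      simp only [Bool.or_eq_true] at h1
      rcases h1 with (h | h) | h
      · exact absurd (Nat.eq_of_beq_eq_true h) hcls
      · refine ⟨1, H.one_mem, ?_⟩
        rw [one_smul, ← Nat.eq_of_beq_eq_true h]
      · rw [List.any_eq_true] at h
        obtain ⟨N, hN, h2⟩ := h
        rw [Bool.and_eq_true] at h2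
        obtain ⟨h3, h4⟩ := h2
        have h3' : depN L (imgIdx N c) < n := by
          rw [← hn]; simpa [Nat.blt_eq] using h3
        have h4' : cls (imgIdx N c) = cls c := Nat.eq_of_beq_eq_true h4
        obtain ⟨σ, hσ, hσN⟩ := hgens N hN
        have hidx : imgIdx N c < 4096 := Nat.mod_lt _ (by norm_num)
        obtain ⟨g, hg, hgc⟩ := ih _ h3' _ hidx rfl (by rw [h4']; exact hcls)
        rw [h4', img_spec (hH hσ) hσN c] at hgc
        refine ⟨σ⁻¹ * g, H.mul_mem (H.inv_mem hσ) hg, ?_⟩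
        rw [mul_smul, hgc, inv_smul_smul]
  intro c hc hcls
  exact key _ c hc rfl hcls

/-- two code words of the same (nonzero) class are in the same orbit -/
theorem orbit_cert_pair (H : Subgroup (Equiv.Perm GolayPt)) (hH : H ≤ M24) (gens : List ℕ)
    (hgens : ∀ N ∈ gens, ∃ σ ∈ H, ∀ i < 24, idx (σ (pt i)) = tblN N i)
    (cls rep : ℕ → ℕ) (L : ℕ) (hcert : allBelow 4096 (orbOK gens cls rep L) = true)
    {c c' : ℕ} (hc : c < 4096) (hc' : c' < 4096) (hcls : cls c ≠ 0) (heq : cls c = cls c') :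
    ∃ g ∈ H, g • bitSet (codeMask c) = bitSet (codeMask c') := by
  obtain ⟨g, hg, h1⟩ := orbit_cert H hH gens hgens cls rep L hcert c hc hcls
  obtain ⟨g', hg', h2⟩ := orbit_cert H hH gens hgens cls rep L hcert c' hc' (by rw [← heq]; exact hcls)
  refine ⟨g' * g⁻¹, H.mul_mem hg' (H.inv_mem hg), ?_⟩
  rw [mul_smul, ← h1, inv_smul_smul, heq, h2]

/-- generic (kernel-safe) evaluation of a class function at a word of the right weight -/
theorem cond_beq_self (w A : ℕ) : (bif Nat.beq w w then A else 0) = A := by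
  rw [Nat.beq_refl]; rfl

theorem exists_idx_of_mem_wordsOfWeight {w : ℕ} {b : Finset GolayPt}
    (hb : b ∈ wordsOfWeight (golayCode : Set (GolayPt → ZMod 2)) w) :
    ∃ c < 4096, b = bitSet (codeMask c) ∧ pc24 (codeMask c) = w := by
  obtain ⟨c, hc, rfl⟩ := (mem_supports_iff b).mp hb.1
  exact ⟨c, hc, rfl, by rw [← card_bitSet']; exact hb.2⟩

theorem card_inter_idx (c m : ℕ) :
    (bitSet (codeMask c) ∩ bitSet m).card = pc24 (codeMask c &&& m) := by
  rw [← bitSet_and, card_bitSet']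

theorem mem_stabH_le (ms ps : List ℕ) : stabH ms ps ≤ M24 := fun _ h => h.1

theorem hgens_of_all {ms ps : List ℕ} {gens : List ℕ} (h : gens.all (genOK ms ps) = true) :
    ∀ N ∈ gens, ∃ σ ∈ stabH ms ps, ∀ i < 24, idx (σ (pt i)) = tblN N i := by
  intro N hN
  rw [List.all_eq_true] at h
  exact genOK_sound (h N hN)

end Cfsg.Agent.Lib.Helper3.Golay
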