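import Mathlib
import Cfsg.Prelude.Def_Sporadic_a
import Cfsg.Agent.Lib.Helper3.Golay.OrbitCert
import Cfsg.Agent.Lib.Helper3.Golay.Inter

set_option autoImplicit false

/-! Suborbits: code words of weight `w` containing the marked points `ins`, avoiding the marked
points `outs`, classified by the size of their intersection with a base set `M`; counting and
transitivity of the stabilizer of the configuration on each class, transported to any configuration
in the `M24`-orbit of the base configuration. -/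

namespace Cfsg.Agent.Lib.Helper3.Golay

open Cfsg
open scoped Pointwise

/-- the marked points `ins` are in `b`, the marked points `outs` are not -/
def Marked (ins outs : List ℕ) (b : Finset GolayPt) : Prop :=
  (∀ i ∈ ins, pt i ∈ b) ∧ ∀ i ∈ outs, pt i ∉ b

/-- the computable test for `Marked` on a bitmask -/
def markedB (ins outs : List ℕ) (m : ℕ) : Bool :=
  ins.all (fun i => Nat.blt i 24 && m.testBit i) && outs.all (fun i => Nat.blt i 24 && !(m.testBit i))

theorem markedB_iff {ins outs : List ℕ} (hlt : ∀ i ∈ ins ++ outs, i < 24) (m : ℕ) :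
    markedB ins outs m = true ↔ Marked ins outs (bitSet m) := by
  unfold markedB Marked
  rw [Bool.and_eq_true, List.all_eq_true, List.all_eq_true]
  constructor
  · rintro ⟨h1, h2⟩
    refine ⟨fun i hi => ?_, fun i hi => ?_⟩
    · have := h1 i hi
      rw [Bool.and_eq_true] at this
      rw [mem_bitSet, idx_pt (hlt i (List.mem_append_left _ hi))]
      exact this.2
    · have := h2 i hi
      rw [Bool.and_eq_true] at this
      rw [mem_bitSet, idx_pt (hlt i (List.mem_append_right _ hi))]
      simpa using this.2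
  · rintro ⟨h1, h2⟩
    refine ⟨fun i hi => ?_, fun i hi => ?_⟩
    · have h3 := hlt i (List.mem_append_left _ hi)
      have := h1 i hi
      rw [mem_bitSet, idx_pt h3] at this
      rw [Bool.and_eq_true]
      exact ⟨by simpa [Nat.blt_eq] using h3, this⟩
    · have h3 := hlt i (List.mem_append_right _ hi)
      have := h2 i hi
      rw [mem_bitSet, idx_pt h3] at this
      rw [Bool.and_eq_true]
      exact ⟨by simpa [Nat.blt_eq] using h3, by simpa using this⟩

/-- the class of the code word with index `c` -/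
def clsG (w M : ℕ) (ins outs : List ℕ) (c : ℕ) : ℕ :=
  bif Nat.beq (pc24 (codeMask c)) w && markedB ins outs (codeMask c)
  then 1 + pc24 (codeMask c &&& M) else 0

theorem cond_true_and (A : ℕ) : (bif (true && true) then A else 0) = A := rfl

theorem clsG_eq {w M : ℕ} {ins outs : List ℕ} (hlt : ∀ i ∈ ins ++ outs, i < 24) {c : ℕ}
    (hw : pc24 (codeMask c) = w) (hm : Marked ins outs (bitSet (codeMask c))) :
    clsG w M ins outs c = 1 + (bitSet M ∩ bitSet (codeMask c)).card := by
  unfold clsG
  rw [hw, Nat.beq_refl, (markedB_iff hlt _).mpr hm, Finset.inter_comm, card_inter_idx]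
  exact cond_true_and _

theorem clsG_ne_zero {w M : ℕ} {ins outs : List ℕ} {c : ℕ} (h : clsG w M ins outs c ≠ 0) :
    pc24 (codeMask c) = w ∧ markedB ins outs (codeMask c) = true := by
  unfold clsG at h
  cases h1 : Nat.beq (pc24 (codeMask c)) w
  · rw [h1] at h; exact absurd rfl h
  · cases h2 : markedB ins outs (codeMask c)
    · rw [h1, h2] at h; exact absurd rfl h
    · exact ⟨Nat.eq_of_beq_eq_true h1, rfl⟩

theorem clsG_eq' {w M : ℕ} {ins outs : List ℕ} {c : ℕ} (h : clsG w M ins outs c ≠ 0) :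
    clsG w M ins outs c = 1 + pc24 (codeMask c &&& M) := by
  obtain ⟨h1, h2⟩ := clsG_ne_zero h
  unfold clsG
  rw [h1, Nat.beq_refl, h2]
  exact cond_true_and _

/-- transitivity of the stabilizer of the base configuration on each class -/
theorem suborbit_trans (w M : ℕ) (ins outs gens : List ℕ) (rep : ℕ → ℕ) (L : ℕ)
    (hlt : ∀ i ∈ ins ++ outs, i < 24)
    (hgens : gens.all (genOK [M] (ins ++ outs)) = true)
    (hcert : allBelow 4096 (orbOK gens (clsG w M ins outs) rep L) = true)
    {b b' : Finset GolayPt}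
    (hb : b ∈ wordsOfWeight (golayCode : Set (GolayPt → ZMod 2)) w)
    (hb' : b' ∈ wordsOfWeight (golayCode : Set (GolayPt → ZMod 2)) w)
    (hm : Marked ins outs b) (hm' : Marked ins outs b')
    (h : (bitSet M ∩ b).card = (bitSet M ∩ b').card) :
    ∃ g ∈ stabH [M] (ins ++ outs), g • b = b' := by
  obtain ⟨c, hc, rfl, hw⟩ := exists_idx_of_mem_wordsOfWeight hb
  obtain ⟨c', hc', rfl, hw'⟩ := exists_idx_of_mem_wordsOfWeight hb'
  have hcls : clsG w M ins outs c = clsG w M ins outs c' := by
    rw [clsG_eq hlt hw hm, clsG_eq hlt hw' hm', h]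
  have hne : clsG w M ins outs c ≠ 0 := by rw [clsG_eq hlt hw hm]; omega
  exact orbit_cert_pair (stabH [M] (ins ++ outs)) (mem_stabH_le _ _) gens
    (hgens_of_all hgens) _ rep L hcert hc hc' hne hcls

theorem mem_inv_smul_iff {t : Equiv.Perm GolayPt} {x : GolayPt} {b : Finset GolayPt} :
    x ∈ t⁻¹ • b ↔ t x ∈ b := by
  rw [Finset.mem_inv_smul_finset_iff]; rfl

theorem card_inter_inv_smul (t : Equiv.Perm GolayPt) (A b : Finset GolayPt) :
    (A ∩ t⁻¹ • b).card = (t • A ∩ b).card := by
  rw [← Finset.card_smul_finset t, Finset.smul_finset_inter, smul_inv_smul]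

/-- transitivity on each class for any configuration in the orbit of the base configuration -/
theorem suborbit_trans' (w M : ℕ) (ins outs gens : List ℕ) (rep : ℕ → ℕ) (L : ℕ)
    (hlt : ∀ i ∈ ins ++ outs, i < 24)
    (hgens : gens.all (genOK [M] (ins ++ outs)) = true)
    (hcert : allBelow 4096 (orbOK gens (clsG w M ins outs) rep L) = true)
    {t : Equiv.Perm GolayPt} (ht : t ∈ M24) {o' o'' : Finset GolayPt}
    (ho' : o' ∈ wordsOfWeight (golayCode : Set (GolayPt → ZMod 2)) w)
    (ho'' : o'' ∈ wordsOfWeight (golayCode : Set (GolayPt → ZMod 2)) w)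
    (hin' : ∀ i ∈ ins, t (pt i) ∈ o') (hout' : ∀ i ∈ outs, t (pt i) ∉ o')
    (hin'' : ∀ i ∈ ins, t (pt i) ∈ o'') (hout'' : ∀ i ∈ outs, t (pt i) ∉ o'')
    (h : (t • bitSet M ∩ o').card = (t • bitSet M ∩ o'').card) :
    ∃ g ∈ M24, g • (t • bitSet M) = t • bitSet M ∧
      (∀ i ∈ ins ++ outs, g (t (pt i)) = t (pt i)) ∧ g • o' = o'' := by
  have hti : t⁻¹ ∈ M24 := M24.inv_mem ht
  obtain ⟨g₀, hg₀, hmap⟩ := suborbit_trans w M ins outs gens rep L hlt hgens hcert
    (smul_mem_wordsOfWeight hti ho') (smul_mem_wordsOfWeight hti ho'')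
    ⟨fun i hi => mem_inv_smul_iff.mpr (hin' i hi), fun i hi h => hout' i hi (mem_inv_smul_iff.mp h)⟩
    ⟨fun i hi => mem_inv_smul_iff.mpr (hin'' i hi), fun i hi h => hout'' i hi (mem_inv_smul_iff.mp h)⟩
    (by rw [card_inter_inv_smul, card_inter_inv_smul, h])
  obtain ⟨h1, h2, h3⟩ := hg₀
  refine ⟨t * g₀ * t⁻¹, M24.mul_mem (M24.mul_mem ht h1) hti, ?_, ?_, ?_⟩
  · rw [mul_smul, mul_smul, inv_smul_smul, h2 M (by simp)]
  · intro i hi
    have h4 : t⁻¹ (t (pt i)) = pt i := by simp
    rw [Equiv.Perm.mul_apply, Equiv.Perm.mul_apply, h4, h3 i hi]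
  · rw [mul_smul, mul_smul, hmap, smul_inv_smul]

/-- counting a class for any configuration in the orbit of the base configuration -/
theorem suborbit_count (w M : ℕ) (ins outs : List ℕ) (hlt : ∀ i ∈ ins ++ outs, i < 24) (k : ℕ)
    {t : Equiv.Perm GolayPt} (ht : t ∈ M24) :
    {o' : Finset GolayPt | o' ∈ wordsOfWeight (golayCode : Set (GolayPt → ZMod 2)) w ∧
      (∀ i ∈ ins, t (pt i) ∈ o') ∧ (∀ i ∈ outs, t (pt i) ∉ o') ∧
      (t • bitSet M ∩ o').card = k}.ncard =
    countBelow 4096 (fun c => Nat.beq (clsG w M ins outs c) (1 + k)) := by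
  classical
  have hset : {o' : Finset GolayPt | o' ∈ wordsOfWeight (golayCode : Set (GolayPt → ZMod 2)) w ∧
      (∀ i ∈ ins, t (pt i) ∈ o') ∧ (∀ i ∈ outs, t (pt i) ∉ o') ∧
      (t • bitSet M ∩ o').card = k} =
      (fun b => t • b) '' ↑(((Finset.range 4096).filter
        (fun c => Nat.beq (clsG w M ins outs c) (1 + k) = true)).image
          (fun c => bitSet (codeMask c))) := by
    ext o'
    simp only [Set.mem_ofPred_eq, Set.mem_image, Finset.coe_image, Finset.coe_filter,
      Finset.mem_range]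
    constructor
    · rintro ⟨ho', hin, hout, hk⟩
      obtain ⟨c, hc, hbc, hw⟩ := exists_idx_of_mem_wordsOfWeight
        (smul_mem_wordsOfWeight (M24.inv_mem ht) ho')
      refine ⟨t⁻¹ • o', ⟨c, ⟨hc, ?_⟩, hbc.symm⟩, smul_inv_smul t o'⟩
      have hm : Marked ins outs (bitSet (codeMask c)) := by
        rw [← hbc]
        exact ⟨fun i hi => mem_inv_smul_iff.mpr (hin i hi),
          fun i hi h => hout i hi (mem_inv_smul_iff.mp h)⟩
      rw [clsG_eq hlt hw hm, ← hbc, card_inter_inv_smul, hk]
      exact Nat.beq_refl _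
    · rintro ⟨b, ⟨c, ⟨hc, hcls⟩, rfl⟩, rfl⟩
      have hcls' := Nat.eq_of_beq_eq_true hcls
      have hne : clsG w M ins outs c ≠ 0 := by rw [hcls']; omega
      obtain ⟨hw, hmk⟩ := clsG_ne_zero hne
      have hm := (markedB_iff hlt _).mp hmk
      have hb : bitSet (codeMask c) ∈ wordsOfWeight (golayCode : Set (GolayPt → ZMod 2)) w :=
        ⟨(mem_supports_iff _).mpr ⟨c, hc, rfl⟩, by rw [card_bitSet', hw]⟩
      refine ⟨smul_mem_wordsOfWeight ht hb, ?_, ?_, ?_⟩
      · intro i hi
        exact Finset.smul_mem_smul_finset (hm.1 i hi)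
      · intro i hi h
        have : t • pt i ∈ t • bitSet (codeMask c) := h
        rw [Finset.smul_mem_smul_finset_iff] at this
        exact hm.2 i hi this
      · rw [← Finset.smul_finset_inter, Finset.card_smul_finset]
        rw [clsG_eq hlt hw hm] at hcls'
        omega
  rw [hset, Set.ncard_image_of_injective _ (MulAction.injective t), Set.ncard_coe_finset,
    countBelow_eq, Finset.card_image_of_injOn]
  intro c hc c' hc' h
  simp only [Finset.coe_filter, Finset.mem_range, Set.mem_ofPred_eq] at hc hc'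
  exact codeMask_injOn hc.1 hc'.1 h

end Cfsg.Agent.Lib.Helper3.Golay
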