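import Mathlib
import Cfsg.Prelude.Def_Sporadic_a
import Cfsg.Agent.S1604
import Cfsg.Agent.S1565
import Cfsg.Agent.Lib.Helper3.Golay.OctadComm
import Cfsg.Agent.Lib.Helper3.Golay.Maximal

set_option autoImplicit false

/-! Simplicity of the stabilizer of two points in `M24`, by the Iwasawa criterion applied to the
action on the 77 octads through the two points. -/

namespace Cfsg.Agent.Lib.Helper3.Golay

open Cfsg
open scoped Pointwise
open scoped commutatorElement

/-- the two point stabilizer, flat form -/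
def G22 (p q : GolayPt) : Subgroup (Equiv.Perm GolayPt) :=
  M24 ⊓ MulAction.stabilizer (Equiv.Perm GolayPt) p ⊓ MulAction.stabilizer (Equiv.Perm GolayPt) q

theorem mem_G22 {p q : GolayPt} {g : Equiv.Perm GolayPt} :
    g ∈ G22 p q ↔ g ∈ M24 ∧ g p = p ∧ g q = q := by
  unfold G22
  rw [Subgroup.mem_inf, Subgroup.mem_inf, MulAction.mem_stabilizer_iff, MulAction.mem_stabilizer_iff,
    and_assoc]
  rfl

/-- the octads through the two points, with the action of the two point stabilizer -/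
def Oct2 (p q : GolayPt) : SubMulAction ↥(G22 p q) (Finset GolayPt) where
  carrier := {o | o ∈ octads ∧ p ∈ o ∧ q ∈ o}
  smul_mem' := by
    rintro ⟨g, hg⟩ o ⟨ho, hp, hq⟩
    obtain ⟨hgM, hgp, hgq⟩ := mem_G22.mp hg
    refine ⟨smul_mem_octads hgM ho, ?_, ?_⟩
    · have : g • p ∈ g • o := Finset.smul_mem_smul_finset hp
      rwa [Equiv.Perm.smul_def, hgp] at this
    · have : g • q ∈ g • o := Finset.smul_mem_smul_finset hq
      rwa [Equiv.Perm.smul_def, hgq] at this

theorem mem_Oct2 {p q : GolayPt} {o : Finset GolayPt} :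
    o ∈ Oct2 p q ↔ o ∈ octads ∧ p ∈ o ∧ q ∈ o := Iff.rfl

theorem Fo_le_G22 {p q : GolayPt} {o : Finset GolayPt} (hp : p ∈ o) (hq : q ∈ o) :
    Fo o ≤ G22 p q := by
  intro f hf
  obtain ⟨h1, h2⟩ := mem_Fo.mp hf
  exact mem_G22.mpr ⟨h1, h2 p hp, h2 q hq⟩

section
variable {p q : GolayPt}

/-- transitivity on the octads through the two points -/
theorem exists_G22_map (hpq : p ≠ q) {o o' : Finset GolayPt} (ho : o ∈ Oct2 p q)
    (ho' : o' ∈ Oct2 p q) : ∃ g ∈ G22 p q, g • o = o' := by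
  obtain ⟨g, hg, hgo, hmap⟩ := exists_map_octad_list ho.1 ho'.1 [p, q] [p, q]
    (by simpa using hpq) (by simpa using hpq) rfl (by simp)
    (by simpa using ho.2) (by simpa using ho'.2)
  simp only [List.map_cons, List.map_nil, List.cons.injEq, and_true] at hmap
  exact ⟨g, mem_G22.mpr ⟨hg, hmap.1, hmap.2⟩, hgo⟩

theorem isPretransitive_Oct2 (hpq : p ≠ q) : MulAction.IsPretransitive ↥(G22 p q) ↥(Oct2 p q) := by
  constructor
  rintro ⟨o, ho⟩ ⟨o', ho'⟩
  obtain ⟨g, hg, hgo⟩ := exists_G22_map hpq ho ho'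
  exact ⟨⟨g, hg⟩, Subtype.ext hgo⟩

/-- an element of the two point stabilizer fixing all octads through the two points is trivial -/
theorem eq_one_of_fixes_Oct2 (_hpq : p ≠ q) {g : Equiv.Perm GolayPt} (hg : g ∈ G22 p q)
    (h : ∀ o ∈ Oct2 p q, g • o = o) : g = 1 := by
  classical
  obtain ⟨hgM, hgp, hgq⟩ := mem_G22.mp hg
  refine Equiv.ext fun x => ?_
  rw [Equiv.Perm.one_apply]
  by_contra hne
  by_cases hxp : x = p
  · exact hne (hxp ▸ hgp)
  by_cases hxq : x = q
  · exact hne (hxq ▸ hgq)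
  have hyp : g x ≠ p := fun h' => hxp (g.injective (h'.trans hgp.symm))
  have hyq : g x ≠ q := fun h' => hxq (g.injective (h'.trans hgq.symm))
  -- an octad through `p`, `q`, `x` avoiding `g x`
  have hcard : ({p, q, x} : Finset GolayPt).card ≤ 4 :=
    le_trans Finset.card_le_three (by norm_num)
  have hy : g x ∉ ({p, q, x} : Finset GolayPt) := by
    simp only [Finset.mem_insert, Finset.mem_singleton, not_or]
    exact ⟨hyp, hyq, hne⟩
  obtain ⟨o, ho, hPo, hyo, -⟩ := exists_octad_avoiding' hcard hy hy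
  have hoO : o ∈ Oct2 p q := ⟨ho, hPo (by simp), hPo (by simp)⟩
  have hxo : x ∈ o := hPo (by simp)
  have : g • x ∈ g • o := Finset.smul_mem_smul_finset hxo
  rw [h o hoO] at this
  exact hyo this

theorem faithfulSMul_Oct2 (hpq : p ≠ q) : FaithfulSMul ↥(G22 p q) ↥(Oct2 p q) := by
  constructor
  rintro ⟨g, hg⟩ ⟨g', hg'⟩ h
  apply Subtype.ext
  show g = g'
  have h1 : g'⁻¹ * g ∈ G22 p q := Subgroup.mul_mem _ (Subgroup.inv_mem _ hg') hg
  have h2 : g'⁻¹ * g = 1 := by
    apply eq_one_of_fixes_Oct2 hpq h1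
    intro o ho
    have := congrArg Subtype.val (h ⟨o, ho⟩)
    have e : g • o = g' • o := this
    rw [mul_smul, e, inv_smul_smul]
  have := congrArg (g' * ·) h2
  simpa using this

theorem isMulCommutative_of_sq {G : Type*} [Group G] (H : Subgroup G) (h : ∀ g ∈ H, g * g = 1) :
    IsMulCommutative ↥H := by
  refine ⟨⟨?_⟩⟩
  rintro ⟨a, ha⟩ ⟨b, hb⟩
  apply Subtype.ext
  show a * b = b * a
  have h1 := h (a * b) (H.mul_mem ha hb)
  have h2 := h a ha
  have h3 := h b hb
  have ea : a⁻¹ = a := inv_eq_of_mul_eq_one_left h2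
  have eb : b⁻¹ = b := inv_eq_of_mul_eq_one_left h3
  have : a * b = (a * b)⁻¹ := (inv_eq_of_mul_eq_one_left h1).symm
  rw [this, mul_inv_rev, ea, eb]

theorem mem_Fo_smul_iff {o : Finset GolayPt} {g h : Equiv.Perm GolayPt} (hg : g ∈ M24) :
    h ∈ Fo (g • o) ↔ g⁻¹ * h * g ∈ Fo o := by
  constructor
  · intro hh
    have := conj_mem_Fo (M24.inv_mem hg) hh
    rwa [inv_smul_smul, inv_inv] at this
  · intro hh
    have := conj_mem_Fo hg hh
    have e : g * (g⁻¹ * h * g) * g⁻¹ = h := by group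
    rwa [e] at this

/-- the Iwasawa structure on the octads through two points -/
def iwasawa22 (hpq : p ≠ q) : MulAction.IwasawaStructure ↥(G22 p q) ↥(Oct2 p q) where
  T x := (Fo x.1).subgroupOf (G22 p q)
  is_comm x := by
    apply isMulCommutative_of_sq
    intro g hg
    rw [Subgroup.mem_subgroupOf] at hg
    apply Subtype.ext
    exact (Cfsg.Agent.S0381.result x.1 x.2.1).2 g.1 hg
  is_conj g x := by
    ext h
    rw [Subgroup.mem_pointwise_smul_iff_inv_smul_mem, Subgroup.mem_subgroupOf, Subgroup.mem_subgroupOf]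
    show h.1 ∈ Fo (g.1 • x.1) ↔ g.1⁻¹ * h.1 * (g.1⁻¹)⁻¹ ∈ Fo x.1
    rw [inv_inv]
    exact mem_Fo_smul_iff (mem_G22.mp g.2).1
  is_generator := by
    rw [eq_top_iff]
    rintro ⟨g, hg⟩ -
    obtain ⟨hgM, hgp, hgq⟩ := mem_G22.mp hg
    have hcard : ({p, q} : Finset GolayPt).card + 2 = 4 := by
      rw [Finset.card_pair hpq]
    have hNF : g ∈ NF {p, q} := by
      apply fix_le_NF 2 _ hcard g hgM
      intro y hy
      rw [Finset.mem_insert, Finset.mem_singleton] at hy
      rcases hy with rfl | rfl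
      · exact hgp
      · exact hgq
    have key : ∀ x ∈ NF ({p, q} : Finset GolayPt), ∃ hx : x ∈ G22 p q,
        (⟨x, hx⟩ : ↥(G22 p q)) ∈ ⨆ y : ↥(Oct2 p q), (Fo y.1).subgroupOf (G22 p q) := by
      intro x hx
      unfold NF at hx
      refine Subgroup.iSup_induction (C := fun x => ∃ hx : x ∈ G22 p q,
        (⟨x, hx⟩ : ↥(G22 p q)) ∈ ⨆ y : ↥(Oct2 p q), (Fo y.1).subgroupOf (G22 p q)) _ hx ?_ ?_ ?_
      · rintro ⟨o, ho, hPo⟩ f hf
        have hpo : p ∈ o := hPo (by simp)
        have hqo : q ∈ o := hPo (by simp)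
        refine ⟨Fo_le_G22 hpo hqo hf, ?_⟩
        apply Subgroup.mem_iSup_of_mem (⟨o, ho, hpo, hqo⟩ : ↥(Oct2 p q))
        rw [Subgroup.mem_subgroupOf]
        exact hf
      · exact ⟨Subgroup.one_mem _, Subgroup.one_mem _⟩
      · rintro a b ⟨ha, ha'⟩ ⟨hb, hb'⟩
        exact ⟨Subgroup.mul_mem _ ha hb, Subgroup.mul_mem _ ha' hb'⟩
    obtain ⟨_, h⟩ := key g hNF
    exact h

/-- the two point stabilizer is perfect -/
theorem commutator_G22 (hpq : p ≠ q) : commutator ↥(G22 p q) = ⊤ := by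
  rw [eq_top_iff, ← (iwasawa22 hpq).is_generator]
  apply iSup_le
  rintro ⟨o, ho, hpo, hqo⟩
  rintro ⟨h, hh⟩ hT
  have hhF : h ∈ Fo o := hT
  have hβ : (β 0 : GolayPt) ≠ β 1 := by decide
  obtain ⟨t, ht, hto, hmap⟩ := exists_map_octad_list O0_mem ho [β 0, β 1] [p, q]
    (by simpa using hβ) (by simpa using hpq) rfl (by simp)
    (by
      intro x hx
      simp only [List.mem_cons, List.not_mem_nil, or_false] at hx
      rcases hx with rfl | rfl
      · exact Cfsg.Agent.S0381.base_mem_O0 0 (by norm_num)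
      · exact Cfsg.Agent.S0381.base_mem_O0 1 (by norm_num))
    (by simpa using ⟨hpo, hqo⟩)
  simp only [List.map_cons, List.map_nil, List.cons.injEq, and_true] at hmap
  obtain ⟨tp, tq⟩ := hmap
  have hf0 : t⁻¹ * h * t ∈ Fo (bitSet O0) := by
    rw [← mem_Fo_smul_iff ht, hto]
    exact hhF
  obtain ⟨a, ha, b, hb, a0, a1, b0, b1, hab⟩ := exists_comm_of_mem_Fo hf0
  have hconj : ∀ c : Equiv.Perm GolayPt, c ∈ M24 → c (β 0) = β 0 → c (β 1) = β 1 →
      t * c * t⁻¹ ∈ G22 p q := by
    intro c hc c0 c1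
    refine mem_G22.mpr ⟨M24.mul_mem (M24.mul_mem ht hc) (M24.inv_mem ht), ?_, ?_⟩
    · rw [← tp]
      simp only [Equiv.Perm.mul_apply]
      have e : t⁻¹ (t (β 0)) = β 0 := by simp
      rw [e, c0]
    · rw [← tq]
      simp only [Equiv.Perm.mul_apply]
      have e : t⁻¹ (t (β 1)) = β 1 := by simp
      rw [e, c1]
  have hA := hconj a ha a0 a1
  have hB := hconj b hb b0 b1
  have heq : (⟨h, hh⟩ : ↥(G22 p q)) = ⁅(⟨t * a * t⁻¹, hA⟩ : ↥(G22 p q)), ⟨t * b * t⁻¹, hB⟩⁆ := by
    apply Subtype.ext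
    rw [commutatorElement_def]
    show h = t * a * t⁻¹ * (t * b * t⁻¹) * (t * a * t⁻¹)⁻¹ * (t * b * t⁻¹)⁻¹
    have e1 : h = t * (t⁻¹ * h * t) * t⁻¹ := by group
    rw [e1, hab]
    group
  rw [heq]
  exact Subgroup.commutator_mem_commutator (Subgroup.mem_top _) (Subgroup.mem_top _)

theorem arith22 : ∀ I ⊆ Finset.range (2 + 1), 0 ∈ I → (∀ i ∈ I, [1, 16, 60].getD i 0 ≠ 0) →
    (∑ i ∈ I, [1, 16, 60].getD i 0) ∣ 77 →
    I = {0} ∨ ∀ i ≤ 2, [1, 16, 60].getD i 0 ≠ 0 → i ∈ I := by
  decide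

theorem card_filter_Oct2 [Fintype ↥(Oct2 p q)] (P : Finset GolayPt → Prop)
    [DecidablePred (fun y : ↥(Oct2 p q) => P y.1)] :
    (Finset.univ.filter (fun y : ↥(Oct2 p q) => P y.1)).card =
      {z : Finset GolayPt | z ∈ octads ∧ p ∈ z ∧ q ∈ z ∧ P z}.ncard := by
  classical
  rw [← Finset.card_map (Function.Embedding.subtype _), ← Set.ncard_coe_finset]
  congr 1
  ext z
  simp only [Finset.coe_map, Function.Embedding.subtype_apply, Finset.coe_filter, Finset.mem_univ,
    true_and, Set.mem_image, Set.mem_ofPred_eq, Subtype.exists, exists_and_left, exists_prop,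
    exists_eq_right_right]
  constructor
  · rintro ⟨hP, hz⟩
    exact ⟨hz.1, hz.2.1, hz.2.2, hP⟩
  · rintro ⟨h1, h2, h3, hP⟩
    exact ⟨hP, h1, h2, h3⟩

/-- the stabilizer of an octad through the two points is a maximal subgroup of the two point
stabilizer -/
theorem isCoatom_stabilizer_Oct2 (hpq : p ≠ q) (x : ↥(Oct2 p q)) :
    IsCoatom (MulAction.stabilizer ↥(G22 p q) x) := by
  classical
  have : Fintype ↥(Oct2 p q) := Fintype.ofFinite _
  obtain ⟨o, ho, hpo, hqo⟩ := x
  obtain ⟨h16, h60, -⟩ := Cfsg.Agent.S1604.result p q hpq o o o ho ho ho ⟨hpo, hpo, hpo⟩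
    ⟨hqo, hqo, hqo⟩ rfl
  -- intersection numbers
  have hcases : ∀ y : ↥(Oct2 p q), y.1 ≠ o → (o ∩ y.1).card = 2 ∨ (o ∩ y.1).card = 4 := by
    intro y hy
    rcases Cfsg.Agent.S1565.octad_inter_cases ho y.2.1 (Ne.symm hy) with h | h | h
    · exfalso
      rw [Finset.card_eq_zero] at h
      have : p ∈ o ∩ y.1 := Finset.mem_inter.mpr ⟨hpo, y.2.2.1⟩
      rw [h] at this
      simp at this
    · exact Or.inl h
    · exact Or.inr h
  have hself : (o ∩ o).card = 8 := by rw [Finset.inter_self, ho.2]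
  set cls : ↥(Oct2 p q) → ℕ :=
    fun y => if y.1 = o then 0 else if (o ∩ y.1).card = 2 then 1 else 2 with hcls
  have cls1 : ∀ y : ↥(Oct2 p q), cls y = 1 ↔ (o ∩ y.1).card = 2 := by
    intro y
    rw [hcls]
    by_cases h : y.1 = o
    · simp only [h, if_true, hself]; omega
    · simp only [h, if_false]
      split_ifs with h2
      · simp [h2]
      · simp [h2]
  have cls2 : ∀ y : ↥(Oct2 p q), cls y = 2 ↔ (o ∩ y.1).card = 4 := by
    intro y
    rw [hcls]
    by_cases h : y.1 = o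
    · simp only [h, if_true, hself]; omega
    · simp only [h, if_false]
      rcases hcases y h with h2 | h2
      · simp [h2]
      · simp [h2]
  have cls0 : ∀ y : ↥(Oct2 p q), cls y = 0 ↔ y = ⟨o, ho, hpo, hqo⟩ := by
    intro y
    rw [hcls]
    constructor
    · intro h
      by_contra hne
      have hne' : y.1 ≠ o := fun h' => hne (Subtype.ext h')
      simp only [hne', if_false] at h
      split_ifs at h
    · rintro rfl
      simp
  have hn : ∀ i ≤ 2, ((Finset.univ : Finset ↥(Oct2 p q)).filter (fun y => cls y = i)).card =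
      [1, 16, 60].getD i 0 := by
    intro i hi
    interval_cases i
    · have : (Finset.univ : Finset ↥(Oct2 p q)).filter (fun y => cls y = 0) = {⟨o, ho, hpo, hqo⟩} := by
        ext y
        rw [Finset.mem_filter, Finset.mem_singleton, cls0]
        simp
      rw [this]; rfl
    · have : (Finset.univ : Finset ↥(Oct2 p q)).filter (fun y => cls y = 1) =
          Finset.univ.filter (fun y : ↥(Oct2 p q) => (o ∩ y.1).card = 2) := by
        apply Finset.filter_congr
        intro y _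
        exact cls1 y
      rw [this, card_filter_Oct2 (fun z => (o ∩ z).card = 2), h16]
      rfl
    · have : (Finset.univ : Finset ↥(Oct2 p q)).filter (fun y => cls y = 2) =
          Finset.univ.filter (fun y : ↥(Oct2 p q) => (o ∩ y.1).card = 4) := by
        apply Finset.filter_congr
        intro y _
        exact cls2 y
      rw [this, card_filter_Oct2 (fun z => (o ∩ z).card = 4), h60]
      rfl
  have hclsle : ∀ y : ↥(Oct2 p q), cls y ≤ 2 := by
    intro y
    rw [hcls]
    simp only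
    split_ifs <;> omega
  have hcardΩ : (Finset.univ : Finset ↥(Oct2 p q)).card = 77 := by
    have hmaps : Set.MapsTo cls ((Finset.univ : Finset ↥(Oct2 p q)) : Set ↥(Oct2 p q))
        (Finset.range 3 : Finset ℕ) := by
      intro y _
      rw [Finset.mem_coe, Finset.mem_range]
      exact Nat.lt_succ_of_le (hclsle y)
    rw [Finset.card_eq_sum_card_fiberwise hmaps, Finset.sum_range_succ, Finset.sum_range_succ,
      Finset.sum_range_one, hn 0 (by norm_num), hn 1 (by norm_num), hn 2 (by norm_num)]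
    rfl
  have := isPretransitive_Oct2 hpq
  apply isCoatom_stabilizer_of_suborbits (G := ↥(G22 p q)) (⟨o, ho, hpo, hqo⟩ : ↥(Oct2 p q))
    Finset.univ
    (fun y => by
      simp only [Finset.mem_univ, true_iff]
      obtain ⟨g, hg⟩ := MulAction.exists_smul_eq ↥(G22 p q) (⟨o, ho, hpo, hqo⟩ : ↥(Oct2 p q)) y
      exact ⟨g, hg⟩)
    cls 2 (fun i => [1, 16, 60].getD i 0)
  · intro y _
    exact cls0 y
  · intro y _
    exact hclsle y
  · exact hn
  · intro y _ y' _ hc
    by_cases hy : y.1 = o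
    · have h0 : cls y = 0 := (cls0 y).mpr (Subtype.ext hy)
      have h0' : cls y' = 0 := hc ▸ h0
      refine ⟨1, Subgroup.one_mem _, ?_⟩
      rw [one_smul, (cls0 y).mp h0, (cls0 y').mp h0']
    · have hy' : y'.1 ≠ o := by
        intro h
        have h0' : cls y' = 0 := (cls0 y').mpr (Subtype.ext h)
        rw [← hc] at h0'
        exact hy (congrArg Subtype.val ((cls0 y).mp h0'))
      have hcard : (o ∩ y.1).card = (o ∩ y'.1).card := by
        rcases hcases y hy with h2 | h4
        · have := (cls1 y).mpr h2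
          rw [hc] at this
          rw [h2, (cls1 y').mp this]
        · have := (cls2 y).mpr h4
          rw [hc] at this
          rw [h4, (cls2 y').mp this]
      obtain ⟨-, -, g, hg, hgp, hgq, hgo, hgy⟩ := Cfsg.Agent.S1604.result p q hpq o y.1 y'.1 ho y.2.1
        y'.2.1 ⟨hpo, y.2.2.1, y'.2.2.1⟩ ⟨hqo, y.2.2.2, y'.2.2.2⟩ hcard
      refine ⟨⟨g, mem_G22.mpr ⟨hg, hgp, hgq⟩⟩, ?_, ?_⟩
      · rw [MulAction.mem_stabilizer_iff]
        exact Subtype.ext hgo
      · exact Subtype.ext hgy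
  · rw [hcardΩ]; exact arith22
  · rw [hcardΩ]; norm_num

/-- the stabilizer of two points in `M24` is simple -/
theorem isSimpleGroup_G22 (hpq : p ≠ q) : IsSimpleGroup ↥(G22 p q) := by
  classical
  have := isPretransitive_Oct2 hpq
  have : Nontrivial ↥(G22 p q) := by
    have h : Nat.card ↥(G22 p q) = 443520 := card_stab_two hpq
    have : Finite ↥(G22 p q) := Nat.finite_of_card_ne_zero (by rw [h]; norm_num)
    exact Finite.one_lt_card_iff_nontrivial.mp (by rw [h]; norm_num)
  -- two octads through the two points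
  have hex : ∀ F : Finset GolayPt, F.card ≤ 3 → ∃ z, z ∉ F := by
    intro F hF
    by_contra hcon
    push Not at hcon
    have : F = Finset.univ := Finset.eq_univ_iff_forall.mpr hcon
    rw [this, Finset.card_univ, card_pts] at hF
    omega
  obtain ⟨r, hr⟩ := hex {p, q} (le_trans Finset.card_le_two (by norm_num))
  obtain ⟨s, hs⟩ := hex {p, q, r} Finset.card_le_three
  obtain ⟨o1, ho1, hPo1, hro1, -⟩ := exists_octad_avoiding' (P := {p, q})
    (le_trans Finset.card_le_two (by norm_num)) hr hr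
  obtain ⟨o2, ho2, hPo2, -, -⟩ := exists_octad_avoiding' (P := {p, q, r})
    (le_trans Finset.card_le_three (by norm_num)) hs hs
  let x1 : ↥(Oct2 p q) := ⟨o1, ho1, hPo1 (by simp), hPo1 (by simp)⟩
  let x2 : ↥(Oct2 p q) := ⟨o2, ho2, hPo2 (by simp), hPo2 (by simp)⟩
  have hne : x1 ≠ x2 := by
    intro h
    have h' : o1 = o2 := congrArg Subtype.val h
    apply hro1
    rw [h']
    exact hPo2 (by simp)
  have : Nontrivial ↥(Oct2 p q) := ⟨⟨x1, x2, hne⟩⟩
  have : MulAction.IsPreprimitive ↥(G22 p q) ↥(Oct2 p q) :=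
    (MulAction.isCoatom_stabilizer_iff_preprimitive ↥(G22 p q) x1).mp (isCoatom_stabilizer_Oct2 hpq x1)
  exact (iwasawa22 hpq).isSimpleGroup (commutator_G22 hpq) (faithfulSMul_Oct2 hpq)

end

end Cfsg.Agent.Lib.Helper3.Golay
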