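import Mathlib
import Cfsg.Prelude.Def_Sporadic_a
import Cfsg.Agent.S0365
import Cfsg.Agent.S0381
import Cfsg.Agent.Lib.Helper3.Golay.InvCert
import Cfsg.Agent.Lib.Helper3.Golay.M11Base
import Cfsg.Agent.Lib.Helper3.Golay.M24List

set_option autoImplicit false

/-! The involutions of `M24`: an involution fixes exactly the points of an octad or is fixed point
free, and the involutions of each kind form one conjugacy class. -/

namespace Cfsg.Agent.Lib.Helper3.Golay

open Cfsg
open scoped Pointwise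

/-- the elements of `M24` are even permutations -/
theorem sign_eq_one_of_mem_M24 {g : Equiv.Perm GolayPt} (hg : g ∈ M24) : Equiv.Perm.sign g = 1 := by
  have hs : IsSimpleGroup ↥M24 := Cfsg.Agent.S0365.result
  let φ : ↥M24 →* ℤˣ := Equiv.Perm.sign.comp M24.subtype
  rcases hs.eq_bot_or_eq_top_of_normal φ.ker (MonoidHom.normal_ker φ) with h | h
  · exfalso
    have hinj : Function.Injective φ := (MonoidHom.ker_eq_bot_iff φ).mp h
    have : Finite ↥M24 := Nat.finite_of_card_ne_zero (by rw [card_M24]; norm_num)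
    have h1 := Nat.card_le_card_of_injective φ hinj
    rw [card_M24] at h1
    have h2 : Nat.card ℤˣ = 2 := by
      rw [Nat.card_eq_fintype_card]; rfl
    omega
  · have : (⟨g, hg⟩ : ↥M24) ∈ φ.ker := by rw [h]; trivial
    exact MonoidHom.mem_ker.mp this

/-- the number of fixed points of an involution of `M24` is divisible by four -/
theorem card_fixed_mod4 {g : Equiv.Perm GolayPt} (hg : g ∈ M24) (h2 : orderOf g = 2) :
    (Finset.univ.filter (fun p => g p = p)).card % 4 = 0 := by
  have hp : (orderOf g).Prime := by rw [h2]; exact Nat.prime_two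
  obtain ⟨n, hn⟩ := Equiv.Perm.cycleType_prime_order hp
  rw [h2] at hn
  have hsign := Equiv.Perm.sign_of_cycleType g
  rw [sign_eq_one_of_mem_M24 hg, hn, Multiset.sum_replicate, Multiset.card_replicate] at hsign
  have hsum := Equiv.Perm.sum_cycleType g
  rw [hn, Multiset.sum_replicate] at hsum
  have heven : Even ((n + 1) • 2 + (n + 1)) := by
    by_contra hodd
    rw [Nat.not_even_iff_odd] at hodd
    rw [hodd.neg_one_pow] at hsign
    revert hsign; decide
  have hn1 : Even (n + 1) := by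
    have h2' : Even ((n + 1) • 2) := by
      rw [smul_eq_mul]; exact even_two.mul_left _
    exact (Nat.even_add.mp heven).mp h2'
  have hfix : (Finset.univ.filter (fun p => g p = p)) = g.supportᶜ := by
    ext p
    simp [Equiv.Perm.mem_support]
  rw [hfix, Finset.card_compl, card_pts, ← hsum]
  obtain ⟨m, hm⟩ := hn1
  rw [hm, smul_eq_mul]
  have : (m + m) * 2 ≤ 24 := by
    have := Equiv.Perm.sum_cycleType_le g
    rw [hn, Multiset.sum_replicate, card_pts, hm, smul_eq_mul] at this
    exact this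
  omega

/-- soundness of a table checked to lie in `M24` -/
theorem tblOK_univ_sound {T : List ℕ} (h : tblOK 0xffffff T = true) : ∃ σ ∈ M24, HasTbl σ T := by
  obtain ⟨σ, hσ, hT⟩ := tblOK_sound h
  exact ⟨σ, hσ.1, hT⟩

/-- one level of the stabilizer chain, from a checked transversal -/
theorem lvl_step {L : List (List ℕ)} {k : ℕ} (hk : k < 7) (hL : lvlOK L k = true)
    (hc : lvlCover L k = true) {g : Equiv.Perm GolayPt} (hg : g ∈ M24 ⊓ fixB k) :
    ∃ T ∈ L, ∃ σ ∈ M24 ⊓ fixB k, HasTbl σ T ∧ σ⁻¹ * g ∈ M24 ⊓ fixB (k + 1) := by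
  have hδ := hU k hk g hg
  rw [Equiv.Perm.smul_def, mem_bitSet] at hδ
  unfold lvlCover at hc
  have h1 := (allBelow_iff _ _).mp hc _ (idx_lt (g (β k)))
  rw [hδ] at h1
  simp only [Bool.not_true, Bool.false_or, List.any_eq_true] at h1
  obtain ⟨T, hTL, hT⟩ := h1
  unfold lvlOK at hL
  have h2 := List.all_eq_true.mp hL T hTL
  rw [Bool.and_eq_true] at h2
  obtain ⟨σ, hσ, hσT⟩ := tblOK_univ_sound h2.1
  have hσf : σ ∈ fixB k := hσT.mem_fixB h2.2
  have hσk : σ (β k) = g (β k) := by
    have : σ (pt (base k)) = g (β k) := by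
      rw [hσT.apply (base_lt k), Nat.eq_of_beq_eq_true hT, pt_idx]
    exact this
  refine ⟨T, hTL, σ, ⟨hσ, hσf⟩, hσT, Subgroup.mem_inf.mpr ⟨M24.mul_mem (M24.inv_mem hσ) hg.1, ?_⟩⟩
  rw [mem_fixB]
  intro j hj
  rw [Equiv.Perm.mul_apply, Equiv.Perm.inv_eq_iff_eq]
  rcases Nat.lt_succ_iff_lt_or_eq.mp hj with h | rfl
  · rw [mem_fixB.mp hg.2 j h, mem_fixB.mp hσf j h]
  · exact hσk.symm

/-- every element of `M24` fixing the first four base points is a product of three transversal
elements -/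
theorem exists_triple {g : Equiv.Perm GolayPt} (hg : g ∈ M24 ⊓ fixB 4) :
    ∃ A ∈ L4i, ∃ B ∈ L5i, ∃ C ∈ L6i, HasTbl g (compT (compT A B) C) := by
  obtain ⟨A, hA, a, ha, haT, h1⟩ := lvl_step (by norm_num) L4i_ok L4i_cover hg
  obtain ⟨B, hB, b, hb, hbT, h2⟩ := lvl_step (by norm_num) L5i_ok L5i_cover h1
  obtain ⟨C, hC, c, hc, hcT, h3⟩ := lvl_step (by norm_num) L6i_ok L6i_cover h2
  rw [hT, Subgroup.mem_bot] at h3
  have hg' : g = a * b * c := by
    have e : g = a * (b * (c * (c⁻¹ * (b⁻¹ * (a⁻¹ * g))))) := by group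
    rw [e, h3]
    group
  exact ⟨A, hA, B, hB, C, hC, hg' ▸ (haT.mul hbT).mul hcT⟩

theorem pt_injective_lt {i j : ℕ} (hi : i < 24) (hj : j < 24) (h : pt i = pt j) : i = j := by
  have := congrArg idx h
  rwa [idx_pt hi, idx_pt hj] at this

/-- fixed points from the table -/
theorem HasTbl.apply_eq_iff {σ : Equiv.Perm GolayPt} {T : List ℕ} (h : HasTbl σ T) (p : GolayPt) :
    σ p = p ↔ T.getD (idx p) 0 = idx p := by
  have h1 := h.apply (idx_lt p)
  rw [pt_idx] at h1
  rw [h1]
  constructor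
  · intro h2
    apply pt_injective_lt (h.lt (idx_lt p)) (idx_lt p)
    rw [h2, pt_idx]
  · intro h2
    rw [h2, pt_idx]

theorem filter_fixed_eq {σ : Equiv.Perm GolayPt} {T : List ℕ} (h : HasTbl σ T) {m : ℕ}
    (hm : fixIs m T = true) : Finset.univ.filter (fun p => σ p = p) = bitSet m := by
  unfold fixIs at hm
  rw [allBelow_iff] at hm
  ext p
  rw [Finset.mem_filter, mem_bitSet, h.apply_eq_iff]
  have := hm _ (idx_lt p)
  simp only [Finset.mem_univ, true_and]
  rw [beq_iff_eq] at this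
  rw [this]
  constructor
  · intro h'
    rw [h']
    exact Nat.beq_refl _
  · exact Nat.eq_of_beq_eq_true

/-- an involution of `M24` fixing the first four base points fixes exactly the points of an octad -/
theorem fixed_octad_of_fixB4 {g : Equiv.Perm GolayPt} (hg : g ∈ M24 ⊓ fixB 4) (h2 : g * g = 1)
    (h1 : g ≠ 1) : Finset.univ.filter (fun p => g p = p) ∈ octads := by
  obtain ⟨A, hA, B, hB, C, hC, hT⟩ := exists_triple hg
  have h := List.all_eq_true.mp (List.all_eq_true.mp (List.all_eq_true.mp inv960_ok A hA) B hB) C hC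
  have e1 : isId (compT (compT (compT A B) C) (compT (compT A B) C)) = true :=
    (isId_iff (hT.mul hT)).mpr h2
  have e2 : isId (compT (compT A B) C) = false := by
    rw [Bool.eq_false_iff]
    intro h'
    exact h1 ((isId_iff hT).mp h')
  rw [e1, e2] at h
  simp only [Bool.not_true, Bool.false_or, List.any_eq_true] at h
  obtain ⟨m, hm, hfix⟩ := h
  rw [filter_fixed_eq hT hfix]
  exact isOct_mem (List.all_eq_true.mp FMLi_ok m hm)

theorem base4_nodup : [β 0, β 1, β 2, β 3].Nodup := by decide +kernel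

theorem sq_eq_one_of_orderOf {g : Equiv.Perm GolayPt} (h2 : orderOf g = 2) : g * g = 1 := by
  have := pow_orderOf_eq_one g
  rwa [h2, pow_two] at this

theorem ne_one_of_orderOf {g : Equiv.Perm GolayPt} (h2 : orderOf g = 2) : g ≠ 1 := by
  rintro rfl
  rw [orderOf_one] at h2
  norm_num at h2

theorem conj_sq {k g : Equiv.Perm GolayPt} (h : g * g = 1) : (k * g * k⁻¹) * (k * g * k⁻¹) = 1 := by
  have : (k * g * k⁻¹) * (k * g * k⁻¹) = k * (g * g) * k⁻¹ := by group
  rw [this, h]; group

theorem conj_ne_one {k g : Equiv.Perm GolayPt} (h : g ≠ 1) : k * g * k⁻¹ ≠ 1 := by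
  intro h'
  apply h
  have : g = k⁻¹ * (k * g * k⁻¹) * k := by group
  rw [this, h']; group

/-- the fixed points of a conjugate -/
theorem filter_fixed_conj (k g : Equiv.Perm GolayPt) :
    Finset.univ.filter (fun p => (k * g * k⁻¹) p = p) = k • Finset.univ.filter (fun p => g p = p) := by
  ext p
  rw [Finset.mem_filter, ← Finset.inv_smul_mem_iff, Finset.mem_filter]
  simp only [Finset.mem_univ, true_and, Equiv.Perm.mul_apply, Equiv.Perm.smul_def]
  constructor
  · intro h
    have := congrArg (k⁻¹ ·) h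
    simpa using this
  · intro h
    rw [h]
    simp

/-- an involution of `M24` with a fixed point fixes exactly the points of an octad -/
theorem fixed_octad_of_fixed {g : Equiv.Perm GolayPt} (hg : g ∈ M24) (h2 : orderOf g = 2)
    {p : GolayPt} (hp : g p = p) : Finset.univ.filter (fun p => g p = p) ∈ octads := by
  classical
  have hcard := card_fixed_mod4 hg h2
  have hpos : 0 < (Finset.univ.filter (fun p => g p = p)).card :=
    Finset.card_pos.mpr ⟨p, by simp [hp]⟩
  have h4 : 4 ≤ (Finset.univ.filter (fun p => g p = p)).card := by omega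
  obtain ⟨s, hs, hscard⟩ := Finset.exists_subset_card_eq h4
  obtain ⟨k, hk, hmap⟩ := exists_map_list s.toList [β 0, β 1, β 2, β 3] (Finset.nodup_toList _)
    base4_nodup (by simp [hscard]) (by simp [hscard])
  have hfix : k * g * k⁻¹ ∈ M24 ⊓ fixB 4 := by
    refine Subgroup.mem_inf.mpr ⟨M24.mul_mem (M24.mul_mem hk hg) (M24.inv_mem hk), ?_⟩
    rw [mem_fixB]
    intro j hj
    have hj' : j < s.toList.length := by simp [hscard, hj]
    have h1 : k (s.toList[j]) = β j := by
      have := congrArg (fun l => l.getD j (β 0)) hmap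
      simp only [List.getD_eq_getElem?_getD, List.getElem?_map] at this
      rw [List.getElem?_eq_getElem hj'] at this
      simp only [Option.map_some, Option.getD_some] at this
      rw [this]
      interval_cases j <;> rfl
    have h3 : g (s.toList[j]) = s.toList[j] := by
      have : s.toList[j] ∈ s := Finset.mem_toList.mp (List.getElem_mem hj')
      exact (Finset.mem_filter.mp (hs this)).2
    rw [← h1]
    simp only [Equiv.Perm.mul_apply]
    have e : k⁻¹ (k (s.toList[j])) = s.toList[j] := by simp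
    rw [e, h3]
  have hoct := fixed_octad_of_fixB4 hfix (conj_sq (sq_eq_one_of_orderOf h2))
    (conj_ne_one (ne_one_of_orderOf h2))
  rw [filter_fixed_conj] at hoct
  have := smul_mem_octads (M24.inv_mem hk) hoct
  rwa [inv_smul_smul] at this

/-- the fixed point free involution `G0i` -/
theorem exists_G0 : ∃ s ∈ M24, HasTbl s G0i ∧ s * s = 1 ∧ (∀ p, s p ≠ p) ∧ s (β 0) = β 1 ∧
    s (β 1) = β 0 ∧ s (β 2) = β 3 ∧ s (β 3) = β 2 := by
  have h := G0i_ok
  simp only [Bool.and_eq_true] at h
  obtain ⟨⟨⟨⟨⟨⟨h1, h2⟩, h3⟩, h4⟩, h5⟩, h6⟩, h7⟩ := h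
  obtain ⟨s, hs, hsT⟩ := tblOK_univ_sound h1
  refine ⟨s, hs, hsT, (isId_iff (hsT.mul hsT)).mp h2, ?_, ?_, ?_, ?_, ?_⟩
  · intro p hp
    rw [hsT.apply_eq_iff] at hp
    unfold fpfT at h3
    have := (allBelow_iff _ _).mp h3 _ (idx_lt p)
    rw [hp] at this
    simp at this
  · show s (pt 23) = pt 0
    rw [hsT.apply (by norm_num), Nat.eq_of_beq_eq_true h4]
  · show s (pt 0) = pt 23
    rw [hsT.apply (by norm_num), Nat.eq_of_beq_eq_true h5]
  · show s (pt 1) = pt 2
    rw [hsT.apply (by norm_num), Nat.eq_of_beq_eq_true h6]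
  · show s (pt 2) = pt 1
    rw [hsT.apply (by norm_num), Nat.eq_of_beq_eq_true h7]

theorem orderOf_eq_two {g : Equiv.Perm GolayPt} (h2 : g * g = 1) (h1 : g ≠ 1) : orderOf g = 2 := by
  apply orderOf_eq_prime
  · rw [pow_two]; exact h2
  · exact h1

/-- every fixed point free involution of `M24` is conjugate to the one with table `G0i` -/
theorem conj_fpf {g s : Equiv.Perm GolayPt} (hg : g ∈ M24) (h2 : g * g = 1) (hfpf : ∀ p, g p ≠ p)
    (hs : HasTbl s G0i) : ∃ k ∈ M24, k * g * k⁻¹ = s := by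
  classical
  obtain ⟨s', hs'M, hs'T, hs'2, -, s0, s1, s2, s3⟩ := exists_G0
  have hss : s' = s := hs'T.ext hs
  subst hss
  -- two cycles of `g`
  have hgg : ∀ x, g (g x) = x := by
    intro x
    have := congrArg (fun f : Equiv.Perm GolayPt => f x) h2
    simpa using this
  obtain ⟨c, hc⟩ : ∃ c : GolayPt, c ∉ ({β 0, g (β 0)} : Finset GolayPt) := by
    by_contra hcon
    push Not at hcon
    have : ({β 0, g (β 0)} : Finset GolayPt) = Finset.univ := Finset.eq_univ_iff_forall.mpr hcon
    have h' := congrArg Finset.card this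
    rw [Finset.card_univ, card_pts] at h'
    have := Finset.card_le_two (a := β 0) (b := g (β 0))
    omega
  rw [Finset.mem_insert, Finset.mem_singleton, not_or] at hc
  have hnd : [β 0, g (β 0), c, g c].Nodup := by
    simp only [List.nodup_cons, List.mem_cons, List.not_mem_nil, or_false, not_or,
      List.nodup_nil, and_true, not_false_eq_true]
    refine ⟨⟨Ne.symm (hfpf _), Ne.symm hc.1, ?_⟩, ⟨Ne.symm hc.2, ?_⟩, Ne.symm (hfpf _)⟩
    · intro h
      apply hc.2
      rw [h, hgg]
    · intro h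
      exact hc.1 (g.injective h).symm
  obtain ⟨k, hk, hmap⟩ := exists_map_list [β 0, g (β 0), c, g c] [β 0, β 1, β 2, β 3] hnd
    base4_nodup rfl (by simp)
  simp only [List.map_cons, List.map_nil, List.cons.injEq, and_true] at hmap
  obtain ⟨k0, k1, k2, k3⟩ := hmap
  have kinv : ∀ {x y : GolayPt}, k x = y → k⁻¹ y = x := by
    intro x y h; rw [← h]; simp
  have g0 : (k * g * k⁻¹) (β 0) = β 1 := by
    simp only [Equiv.Perm.mul_apply]; rw [kinv k0, k1]
  have g1 : (k * g * k⁻¹) (β 1) = β 0 := by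
    simp only [Equiv.Perm.mul_apply]; rw [kinv k1, hgg, k0]
  have g2 : (k * g * k⁻¹) (β 2) = β 3 := by
    simp only [Equiv.Perm.mul_apply]; rw [kinv k2, k3]
  have g3 : (k * g * k⁻¹) (β 3) = β 2 := by
    simp only [Equiv.Perm.mul_apply]; rw [kinv k3, hgg, k2]
  have hg'M : k * g * k⁻¹ ∈ M24 := M24.mul_mem (M24.mul_mem hk hg) (M24.inv_mem hk)
  have hr : s' * (k * g * k⁻¹) ∈ M24 ⊓ fixB 4 := by
    refine Subgroup.mem_inf.mpr ⟨M24.mul_mem hs'M hg'M, ?_⟩
    rw [mem_fixB]
    intro j hj
    rw [Equiv.Perm.mul_apply]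
    interval_cases j
    · rw [g0, s1]
    · rw [g1, s0]
    · rw [g2, s3]
    · rw [g3, s2]
  obtain ⟨A, hA, B, hB, C, hC, hT⟩ := exists_triple hr
  have hX : HasTbl (k * g * k⁻¹) (compT G0i (compT (compT A B) C)) := by
    have := hs'T.mul hT
    have e : s' * (s' * (k * g * k⁻¹)) = k * g * k⁻¹ := by
      rw [← mul_assoc, hs'2, one_mul]
    rwa [e] at this
  have h := List.all_eq_true.mp (List.all_eq_true.mp (List.all_eq_true.mp fpf960_ok A hA) B hB) C hC
  have e1 : isId (compT (compT G0i (compT (compT A B) C)) (compT G0i (compT (compT A B) C))) = true :=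
    (isId_iff (hX.mul hX)).mpr (conj_sq h2)
  have e2 : fpfT (compT G0i (compT (compT A B) C)) = true := by
    unfold fpfT
    rw [allBelow_iff]
    intro i hi
    rw [Bool.not_eq_true', Bool.eq_false_iff]
    intro h'
    have h'' := Nat.eq_of_beq_eq_true h'
    have := (hX.apply_eq_iff (pt i)).mpr (by rw [idx_pt hi]; exact h'')
    have h3 : g (k⁻¹ (pt i)) = k⁻¹ (pt i) := by
      have := congrArg (k⁻¹ ·) this
      simpa using this
    exact hfpf _ h3
  rw [e1, e2] at h
  simp only [Bool.not_true, Bool.false_or, List.any_eq_true, Bool.and_eq_true] at h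
  obtain ⟨e, heL, he1, he2⟩ := h
  have he1' : e.1 = compT G0i (compT (compT A B) C) := by simpa using he1
  have he2' : compT e.2 e.1 = compT G0i e.2 := by simpa using he2
  obtain ⟨c', hc'M, hc'T⟩ := tblOK_univ_sound (List.all_eq_true.mp CCLi_ok e heL)
  have h5 : c' * (k * g * k⁻¹) = s' * c' := by
    have t1 := hc'T.mul hX
    have t2 := hs'T.mul hc'T
    rw [← he1', he2'] at t1
    exact t1.ext t2
  refine ⟨c' * k, M24.mul_mem hc'M hk, ?_⟩
  have : c' * k * g * (c' * k)⁻¹ = c' * (k * g * k⁻¹) * c'⁻¹ := by group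
  rw [this, h5]
  group

/-- every involution of `M24` with a fixed point is conjugate to the one with table `E1i` -/
theorem conj_fixed {g s : Equiv.Perm GolayPt} (hg : g ∈ M24) (h2 : orderOf g = 2) {p : GolayPt}
    (hp : g p = p) (hs : HasTbl s E1i) : ∃ k ∈ M24, k * g * k⁻¹ = s := by
  have hoct := fixed_octad_of_fixed hg h2 hp
  obtain ⟨k, hk, hko⟩ := exists_map_octad hoct O0_mem
  have hg' : k * g * k⁻¹ ∈ Fo (bitSet O0) := by
    refine mem_Fo.mpr ⟨M24.mul_mem (M24.mul_mem hk hg) (M24.inv_mem hk), ?_⟩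
    intro x hx
    rw [← hko, ← filter_fixed_conj] at hx
    exact (Finset.mem_filter.mp hx).2
  obtain ⟨E, hEL, hET⟩ := exists_tbl_of_mem_Fo hg'
  have h := List.all_eq_true.mp C3i_ok E hEL
  have e2 : isId E = false := by
    rw [Bool.eq_false_iff]
    intro h'
    exact conj_ne_one (ne_one_of_orderOf h2) ((isId_iff hET).mp h')
  rw [e2] at h
  simp only [Bool.false_or, List.any_eq_true, Bool.and_eq_true] at h
  obtain ⟨e, -, ⟨he1, he2⟩, he3⟩ := h
  have he1' : e.1 = E := by simpa using he1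
  have he3' : compT e.2 E = compT E1i e.2 := by simpa using he3
  obtain ⟨c', hc'M, hc'T⟩ := tblOK_univ_sound he2
  have h5 : c' * (k * g * k⁻¹) = s * c' := by
    have t1 := hc'T.mul hET
    have t2 := hs.mul hc'T
    rw [he3'] at t1
    exact t1.ext t2
  refine ⟨c' * k, M24.mul_mem hc'M hk, ?_⟩
  have : c' * k * g * (c' * k)⁻¹ = c' * (k * g * k⁻¹) * c'⁻¹ := by group
  rw [this, h5]
  group

/-- the involution with table `E1i` -/
theorem exists_E1 : ∃ s ∈ M24, HasTbl s E1i ∧ orderOf s = 2 ∧ ∃ p, s p = p := by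
  have h := E1i_ok
  rw [Bool.and_eq_true] at h
  have hmem : E1i ∈ F0L := mem_of_contains h.1
  obtain ⟨s, hs, hsT⟩ := f0OK_sound (List.all_eq_true.mp F0L_ok E1i hmem)
  have hs' := mem_Fo.mp hs
  have h1 : s ≠ 1 := by
    intro h'
    have := (isId_iff hsT).mpr h'
    rw [this] at h
    simp at h
  have h2 : s * s = 1 := (Cfsg.Agent.S0381.result (bitSet O0) O0_mem).2 s hs
  refine ⟨s, hs'.1, hsT, orderOf_eq_two h2 h1, pt 0, hs'.2 _ ?_⟩
  rw [mem_bitSet]; decide +kernel

end Cfsg.Agent.Lib.Helper3.Golay
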