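import Mathlib
import Cfsg.Prelude.Def_Sporadic_a
import Cfsg.Agent.Lib.Helper3.Golay.TblPerm

set_option autoImplicit false

/-! Permutations of the 24 points encoded as single numbers (`∑ T[i] * 32 ^ i`), for fast kernel
computations: composition, evaluation of words at a point, orders of words. -/

namespace Cfsg.Agent.Lib.Helper3.Golay

open Cfsg

/-- the `x`-th digit of `s` in base 32 -/
def lookN (s x : ℕ) : ℕ := s / 32 ^ x % 32

/-- the number with digits `f 0, …, f (k - 1)` in base 32 -/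
def packN (f : ℕ → ℕ) (k : ℕ) : ℕ := Nat.rec 0 (fun i acc => acc + f i * 32 ^ i) k

theorem packN_succ (f : ℕ → ℕ) (k : ℕ) : packN f (k + 1) = packN f k + f k * 32 ^ k := rfl

theorem packN_lt {f : ℕ → ℕ} {k : ℕ} (hf : ∀ i < k, f i < 32) : packN f k < 32 ^ k := by
  induction k with
  | zero => simp [packN]
  | succ k ih =>
    rw [packN_succ, pow_succ]
    have h1 := ih (fun i hi => hf i (Nat.lt_succ_of_lt hi))
    have h2 := hf k (Nat.lt_succ_self k)
    nlinarith

theorem lookN_packN {f : ℕ → ℕ} {k : ℕ} (hf : ∀ i < k, f i < 32) {j : ℕ} (hj : j < k) :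
    lookN (packN f k) j = f j := by
  induction k with
  | zero => omega
  | succ k ih =>
    have hlt := packN_lt (fun i hi => hf i (Nat.lt_succ_of_lt hi))
    rw [packN_succ]
    unfold lookN
    rcases Nat.lt_succ_iff_lt_or_eq.mp hj with h | rfl
    · have ih' := ih (fun i hi => hf i (Nat.lt_succ_of_lt hi)) h
      unfold lookN at ih'
      have e : f k * 32 ^ k = 32 ^ j * (f k * 32 ^ (k - j)) := by
        have : 32 ^ k = 32 ^ j * 32 ^ (k - j) := by rw [← pow_add]; congr 1; omega
        rw [this]; ring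
      rw [e, Nat.add_mul_div_left _ _ (by positivity)]
      have e2 : f k * 32 ^ (k - j) = 32 * (f k * 32 ^ (k - j - 1)) := by
        have : 32 ^ (k - j) = 32 * 32 ^ (k - j - 1) := by
          rw [← pow_succ']; congr 1; omega
        rw [this]; ring
      rw [e2, Nat.add_mul_mod_self_left, ih']
    · rw [Nat.add_mul_div_right _ _ (by positivity), Nat.div_eq_of_lt hlt, zero_add]
      exact Nat.mod_eq_of_lt (hf j (Nat.lt_succ_self j))

/-- composition of encoded tables: `(compN s t)[i] = s[t[i]]` -/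
def compN (s t : ℕ) : ℕ := packN (fun i => lookN s (lookN t i)) 24

/-- `n` encodes the permutation `σ` -/
def HasN (σ : Equiv.Perm GolayPt) (n : ℕ) : Prop := ∀ i < 24, idx (σ (pt i)) = lookN n i

theorem HasN.apply {σ : Equiv.Perm GolayPt} {n : ℕ} (h : HasN σ n) {i : ℕ} (hi : i < 24) :
    σ (pt i) = pt (lookN n i) := by
  rw [← h i hi, pt_idx]

theorem HasN.lt {σ : Equiv.Perm GolayPt} {n : ℕ} (h : HasN σ n) {i : ℕ} (hi : i < 24) :
    lookN n i < 24 := by
  rw [← h i hi]; exact idx_lt _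

theorem HasN.mul {σ τ : Equiv.Perm GolayPt} {s t : ℕ} (hσ : HasN σ s) (hτ : HasN τ t) :
    HasN (σ * τ) (compN s t) := by
  intro i hi
  unfold compN
  rw [lookN_packN _ hi]
  · rw [Equiv.Perm.mul_apply, hτ.apply hi, hσ (lookN t i) (hτ.lt hi)]
  · intro j hj
    have := hσ.lt (hτ.lt hj)
    omega

theorem HasN.ext {σ τ : Equiv.Perm GolayPt} {n : ℕ} (hσ : HasN σ n) (hτ : HasN τ n) : σ = τ := by
  refine Equiv.ext fun x => ?_
  rw [← pt_idx x, hσ.apply (idx_lt x), hτ.apply (idx_lt x)]

/-- the code of the identity -/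
def idN : ℕ := packN (fun i => i) 24

theorem HasN.one : HasN 1 idN := by
  intro i hi
  unfold idN
  rw [lookN_packN (fun j hj => by omega) hi, Equiv.Perm.one_apply, idx_pt hi]

/-- the code of a table -/
def encL (T : List ℕ) : ℕ := packN (fun i => T.getD i 0) 24

theorem HasTbl.hasN {σ : Equiv.Perm GolayPt} {T : List ℕ} (h : HasTbl σ T) : HasN σ (encL T) := by
  intro i hi
  unfold encL
  rw [lookN_packN _ hi]
  · exact h.2 i hi
  · intro j hj
    have := h.lt hj
    omega

theorem eq_one_of_hasN {σ : Equiv.Perm GolayPt} {n : ℕ} (h : HasN σ n)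
    (hid : ∀ x < 24, lookN n x = x) : σ = 1 := by
  refine Equiv.ext fun x => ?_
  rw [← pt_idx x, h.apply (idx_lt x), hid _ (idx_lt x), Equiv.Perm.one_apply]

/-! ### words in two permutations -/

/-- the value of a word in `a` (letter 0) and `y` (other letters) -/
def evalW {M : Type*} [Monoid M] (a y : M) : List ℕ → M
  | [] => 1
  | l :: ls => (if l = 0 then a else y) * evalW a y ls

theorem map_evalW {M N : Type*} [Monoid M] [Monoid N] (f : M →* N) (a y : M) (w : List ℕ) :
    f (evalW a y w) = evalW (f a) (f y) w := by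
  induction w with
  | nil => simp [evalW]
  | cons l ls ih =>
    unfold evalW
    rw [map_mul, ih]
    split_ifs <;> rfl

/-- the image of the point `x` under the word -/
def traceW (a y : ℕ) : List ℕ → ℕ → ℕ
  | [], x => x
  | l :: ls, x => lookN (cond (Nat.beq l 0) a y) (traceW a y ls x)

theorem traceW_sound {σ τ : Equiv.Perm GolayPt} {a y : ℕ} (hσ : HasN σ a) (hτ : HasN τ y)
    (w : List ℕ) {x : ℕ} (hx : x < 24) :
    traceW a y w x < 24 ∧ evalW σ τ w (pt x) = pt (traceW a y w x) := by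
  induction w with
  | nil => exact ⟨hx, by simp [evalW, traceW]⟩
  | cons l ls ih =>
    obtain ⟨h1, h2⟩ := ih
    unfold evalW traceW
    rw [Equiv.Perm.mul_apply, h2]
    by_cases hl : l = 0
    · subst hl
      simp only [if_true]
      have : Nat.beq 0 0 = true := rfl
      rw [this, cond_true]
      exact ⟨hσ.lt h1, hσ.apply h1⟩
    · rw [if_neg hl]
      have : Nat.beq l 0 = false := by
        rw [← Bool.not_eq_true]
        intro h
        exact hl (Nat.eq_of_beq_eq_true h)
      rw [this, cond_false]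
      exact ⟨hτ.lt h1, hτ.apply h1⟩

/-- the image of the point `x` under the `k`-th power of the word -/
def tracePow (a y : ℕ) (w : List ℕ) (k x : ℕ) : ℕ := Nat.rec x (fun _ acc => traceW a y w acc) k

theorem tracePow_sound {σ τ : Equiv.Perm GolayPt} {a y : ℕ} (hσ : HasN σ a) (hτ : HasN τ y)
    (w : List ℕ) (k : ℕ) {x : ℕ} (hx : x < 24) :
    tracePow a y w k x < 24 ∧ (evalW σ τ w ^ k) (pt x) = pt (tracePow a y w k x) := by
  induction k with
  | zero => exact ⟨hx, by simp [tracePow]⟩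
  | succ k ih =>
    obtain ⟨h1, h2⟩ := ih
    have e : tracePow a y w (k + 1) x = traceW a y w (tracePow a y w k x) := rfl
    rw [e, pow_succ', Equiv.Perm.mul_apply, h2]
    exact traceW_sound hσ hτ w h1

/-- the `k`-th power of the word is the identity -/
def relOKN (a y : ℕ) (r : List ℕ × ℕ) : Bool :=
  allBelow 24 (fun x => Nat.beq (tracePow a y r.1 r.2 x) x)

theorem relOKN_of_eq_one {σ τ : Equiv.Perm GolayPt} {a y : ℕ} (hσ : HasN σ a) (hτ : HasN τ y)
    {r : List ℕ × ℕ} (h : evalW σ τ r.1 ^ r.2 = 1) : relOKN a y r = true := by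
  unfold relOKN
  rw [allBelow_iff]
  intro x hx
  obtain ⟨h1, h2⟩ := tracePow_sound hσ hτ r.1 r.2 hx
  rw [h, Equiv.Perm.one_apply] at h2
  have := congrArg idx h2
  rw [idx_pt hx, idx_pt h1] at this
  rw [← this]
  exact Nat.beq_refl x

theorem eq_one_of_relOKN {σ τ : Equiv.Perm GolayPt} {a y : ℕ} (hσ : HasN σ a) (hτ : HasN τ y)
    {r : List ℕ × ℕ} (h : relOKN a y r = true) : evalW σ τ r.1 ^ r.2 = 1 := by
  unfold relOKN at h
  rw [allBelow_iff] at h
  refine Equiv.ext fun p => ?_
  obtain ⟨h1, h2⟩ := tracePow_sound hσ hτ r.1 r.2 (idx_lt p)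
  rw [pt_idx] at h2
  rw [h2, Nat.eq_of_beq_eq_true (h _ (idx_lt p)), pt_idx, Equiv.Perm.one_apply]

/-- `y` is conjugate to `b` under a power of `a` (with inverse `ai`), exponents below `p` -/
def inOrbitN (a ai b : ℕ) : ℕ → ℕ → Bool
  | 0, _ => false
  | p + 1, y => Nat.beq y b || inOrbitN a ai b p (compN (compN ai y) a)

theorem inOrbitN_sound {σ β : Equiv.Perm GolayPt} {a ai b : ℕ} (hσ : HasN σ a) (hσi : HasN σ⁻¹ ai)
    (hβ : HasN β b) : ∀ (p : ℕ) {τ : Equiv.Perm GolayPt} {y : ℕ}, HasN τ y →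
      inOrbitN a ai b p y = true → ∃ j : ℕ, τ = σ ^ j * β * (σ ^ j)⁻¹
  | 0, _, _, _, h => by simp [inOrbitN] at h
  | p + 1, τ, y, hτ, h => by
    unfold inOrbitN at h
    rw [Bool.or_eq_true] at h
    rcases h with h | h
    · have : y = b := Nat.eq_of_beq_eq_true h
      subst this
      exact ⟨0, by rw [pow_zero, hτ.ext hβ]; group⟩
    · obtain ⟨j, hj⟩ := inOrbitN_sound hσ hσi hβ p ((hσi.mul hτ).mul hσ) h
      refine ⟨j + 1, ?_⟩
      have : τ = σ * (σ⁻¹ * τ * σ) * σ⁻¹ := by group
      rw [this, hj, pow_succ']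
      group

end Cfsg.Agent.Lib.Helper3.Golay
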