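import Mathlib
import Cfsg.Prelude.Def_Sporadic_a
import Cfsg.Agent.Lib.Helper3.Golay.Involutions
import Cfsg.Agent.Lib.Helper3.Golay.NPerm
import Cfsg.Agent.Lib.Helper3.Golay.Inv24Data

set_option autoImplicit false

/-! Every involution of `M24` with a fixed point has its code in the search tree `T24`: the tree
contains the code of a representative and is closed under conjugation by the three generators of
`M24`. -/

namespace Cfsg.Agent.Lib.Helper3.Golay

open Cfsg
open scoped Pointwise

/-- search in a search tree -/
def NTree.contains : NTree → ℕ → Bool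
  | .leaf, _ => false
  | .node l k r, n => cond (Nat.blt n k) (l.contains n) (cond (Nat.blt k n) (r.contains n) true)

/-- all entries of the tree pass the test -/
def NTree.all (f : ℕ → Bool) : NTree → Bool
  | .leaf => true
  | .node l k r => l.all f && f k && r.all f

/-- the entries of a tree -/
def NTree.Mem (n : ℕ) : NTree → Prop
  | .leaf => False
  | .node l k r => l.Mem n ∨ n = k ∨ r.Mem n

theorem NTree.mem_of_contains {n : ℕ} : ∀ {t : NTree}, t.contains n = true → t.Mem n
  | .leaf, h => by simp [NTree.contains] at h
  | .node l k r, h => by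
    unfold NTree.contains at h
    unfold NTree.Mem
    by_cases h1 : Nat.blt n k = true
    · rw [h1] at h
      exact Or.inl (NTree.mem_of_contains h)
    · rw [Bool.not_eq_true] at h1
      rw [h1] at h
      by_cases h2 : Nat.blt k n = true
      · rw [h2] at h
        exact Or.inr (Or.inr (NTree.mem_of_contains h))
      · rw [Bool.not_eq_true] at h2
        refine Or.inr (Or.inl ?_)
        have e1 : ¬ n < k := by
          intro hlt
          have : Nat.blt n k = true := by simpa [Nat.blt_eq] using hlt
          rw [h1] at this
          exact Bool.noConfusion this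
        have e2 : ¬ k < n := by
          intro hlt
          have : Nat.blt k n = true := by simpa [Nat.blt_eq] using hlt
          rw [h2] at this
          exact Bool.noConfusion this
        omega

theorem NTree.all_sound {f : ℕ → Bool} : ∀ {t : NTree}, t.all f = true → ∀ n, t.Mem n → f n = true
  | .leaf, _, n, hn => by simp [NTree.Mem] at hn
  | .node l k r, h, n, hn => by
    unfold NTree.all at h
    rw [Bool.and_eq_true, Bool.and_eq_true] at h
    unfold NTree.Mem at hn
    rcases hn with hn | rfl | hn
    · exact NTree.all_sound h.1.1 n hn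
    · exact h.1.2
    · exact NTree.all_sound h.2 n hn

/-- the permutations with a code in the tree -/
def C24 : Set (Equiv.Perm GolayPt) := {y | ∃ n, T24.Mem n ∧ HasN y n}

/-- the tree is closed under conjugation with the given code -/
def closedOK (g gi : ℕ) : Bool := T24.all (fun n => T24.contains (compN (compN g n) gi))

theorem closed_sound {g : Equiv.Perm GolayPt} {gN giN : ℕ} (hg : HasN g gN)
    (hgi : HasN g⁻¹ giN) (h : closedOK gN giN = true) : ∀ y ∈ C24, g * y * g⁻¹ ∈ C24 := by
  rintro y ⟨n, hn, hy⟩
  have h1 := NTree.all_sound h n hn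
  exact ⟨_, NTree.mem_of_contains h1, (hg.mul hy).mul hgi⟩

def triL : List ℕ := [22, 0, 1, 2, 3, 4, 5, 6, 7, 8, 9, 10, 11, 12, 13, 14, 15, 16, 17, 18, 19, 20, 21, 23]
def ctiL : List ℕ := [0, 6, 4, 3, 18, 7, 2, 10, 12, 13, 20, 17, 9, 16, 22, 15, 8, 14, 1, 11, 21, 5, 19, 23]

theorem okInv_tr : okInv trL triL = true := by decide +kernel
theorem okInv_pi : okInv piL piL = true := by decide +kernel
theorem okInv_ct : okInv ctL ctiL = true := by decide +kernel

set_option maxRecDepth 100000 in
theorem closed_tr : closedOK (encL trL) (encL triL) = true := by decide +kernel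

set_option maxRecDepth 100000 in
theorem closed_pi : closedOK (encL piL) (encL piL) = true := by decide +kernel

set_option maxRecDepth 100000 in
theorem closed_ct : closedOK (encL ctL) (encL ctiL) = true := by decide +kernel

theorem E1_mem : T24.contains (encL E1i) = true := by decide +kernel

/-- the set `C24` is closed under conjugation by the elements of `M24` -/
theorem conj_mem_C24 {k : Equiv.Perm GolayPt} (hk : k ∈ M24) : ∀ y ∈ C24, k * y * k⁻¹ ∈ C24 := by
  rw [← K3_eq] at hk
  unfold K3 at hk
  induction hk using Subgroup.closure_induction with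
  | mem x hx =>
    simp only [Set.mem_insert_iff, Set.mem_singleton_iff] at hx
    rcases hx with rfl | rfl | rfl
    · exact closed_sound hasTbl_gA.hasN (hasTbl_gA.inv okInv_tr).hasN closed_tr
    · exact closed_sound hasTbl_projInv.hasN (hasTbl_projInv.inv okInv_pi).hasN closed_pi
    · exact closed_sound hasTbl_cubeTwist.hasN (hasTbl_cubeTwist.inv okInv_ct).hasN closed_ct
  | one => intro y hy; simpa using hy
  | mul x z _ _ hx hz =>
    intro y hy
    have := hx _ (hz y hy)
    have e : x * z * y * (x * z)⁻¹ = x * (z * y * z⁻¹) * x⁻¹ := by group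
    rw [e]; exact this
  | inv x _ hx =>
    have hpow : ∀ m : ℕ, ∀ y ∈ C24, x ^ m * y * (x ^ m)⁻¹ ∈ C24 := by
      intro m
      induction m with
      | zero => intro y hy; simpa using hy
      | succ m ih =>
        intro y hy
        have := hx _ (ih y hy)
        have e : x ^ (m + 1) * y * (x ^ (m + 1))⁻¹ = x * (x ^ m * y * (x ^ m)⁻¹) * x⁻¹ := by
          rw [pow_succ']; group
        rw [e]; exact this
    have hinv : x⁻¹ = x ^ (orderOf x - 1) := by
      apply inv_eq_of_mul_eq_one_right
      rw [← pow_succ', Nat.sub_add_cancel (orderOf_pos x), pow_orderOf_eq_one]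
    rw [hinv]
    exact hpow _

/-- every involution of `M24` with a fixed point has its code in the tree -/
theorem mem_C24_of_involution {y : Equiv.Perm GolayPt} (hy : y ∈ M24) (h2 : orderOf y = 2)
    {p : GolayPt} (hp : y p = p) : y ∈ C24 := by
  obtain ⟨s, -, hsT, -, -⟩ := exists_E1
  obtain ⟨k, hk, hks⟩ := conj_fixed hy h2 hp hsT
  have hs : s ∈ C24 := ⟨encL E1i, NTree.mem_of_contains E1_mem, hsT.hasN⟩
  have := conj_mem_C24 (M24.inv_mem hk) s hs
  rw [← hks] at this
  have e : k⁻¹ * (k * y * k⁻¹) * k⁻¹⁻¹ = y := by group
  rwa [e] at this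

end Cfsg.Agent.Lib.Helper3.Golay
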