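import Mathlib
import Cfsg.Prelude.Def_Sporadic_a
import Cfsg.Agent.Lib.Helper3.Golay.M11Base

set_option autoImplicit false

/-! The stabilizer of a dodecad and a point of it: generation by elements of order three fixing two
further points of the dodecad, and these elements are commutators. -/

namespace Cfsg.Agent.Lib.Helper3.Golay

open Cfsg
open scoped Pointwise

/-- the stabilizer of a dodecad and a point, flat form -/
def G11 (d : Finset GolayPt) (p : GolayPt) : Subgroup (Equiv.Perm GolayPt) :=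
  M24 ⊓ MulAction.stabilizer (Equiv.Perm GolayPt) d ⊓ MulAction.stabilizer (Equiv.Perm GolayPt) p

theorem mem_G11 {d : Finset GolayPt} {p : GolayPt} {g : Equiv.Perm GolayPt} :
    g ∈ G11 d p ↔ g ∈ M24 ∧ g • d = d ∧ g p = p := by
  unfold G11
  rw [Subgroup.mem_inf, Subgroup.mem_inf, MulAction.mem_stabilizer_iff, MulAction.mem_stabilizer_iff,
    and_assoc]
  rfl

theorem mem_G11' {d : Finset GolayPt} {p : GolayPt} {g : Equiv.Perm GolayPt} :
    g ∈ G11 d p ↔ g ∈ M24 ⊓ MulAction.stabilizer (Equiv.Perm GolayPt) d ∧ g p = p := by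
  unfold G11
  rw [Subgroup.mem_inf, MulAction.mem_stabilizer_iff]
  rfl

theorem G11_apply_mem {d : Finset GolayPt} {p : GolayPt} {g : Equiv.Perm GolayPt}
    (hg : g ∈ G11 d p) (y : GolayPt) : g y ∈ d ↔ y ∈ d :=
  mem_smul_iff_of_smul_eq (mem_G11.mp hg).2.1 y

theorem G11_apply_ne {d : Finset GolayPt} {p : GolayPt} {g : Equiv.Perm GolayPt}
    (hg : g ∈ G11 d p) {y : GolayPt} (hy : y ≠ p) : g y ≠ p := by
  intro h
  rw [← (mem_G11.mp hg).2.2] at h
  exact hy (g.injective h)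

/-- a generator: an element of order dividing three fixing two further points of the dodecad -/
def IsGen11 (d : Finset GolayPt) (p : GolayPt) (s : Equiv.Perm GolayPt) : Prop :=
  s ∈ G11 d p ∧ s * s * s = 1 ∧
    ∃ a b : GolayPt, a ∈ d ∧ b ∈ d ∧ a ≠ p ∧ b ≠ p ∧ a ≠ b ∧ s a = a ∧ s b = b

/-- transport from the base configuration, prescribing the images of up to five base points -/
theorem exists_transport_pts {d : Finset GolayPt} (hd : d ∈ dodecads) (q : ℕ → GolayPt) (k : ℕ)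
    (hk : k ≤ 5) (hq : ∀ i < k, q i ∈ d) (hinj : ∀ i < k, ∀ j < k, q i = q j → i = j) :
    ∃ t ∈ M24, t • bitSet d0 = d ∧ ∀ j < k, t (pt j) = q j := by
  obtain ⟨t, ht, htd⟩ := exists_transport hd
  obtain ⟨v, hv, hmap⟩ := H12_map_base (fun i => t⁻¹ (q i)) k hk
    (fun i hi => (inv_apply_mem htd _).mpr (hq i hi))
    (fun i hi j hj h => hinj i hi j hj (t⁻¹.injective h))
  refine ⟨t * v, M24.mul_mem ht hv.1, ?_, ?_⟩
  · rw [mul_smul]
    have : v • bitSet d0 = bitSet d0 := hv.2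
    rw [this, htd]
  · intro j hj
    have h1 := hmap j hj
    simp only [Equiv.Perm.smul_def] at h1
    have hb : b2 j = pt j := by
      have : j < 5 := by omega
      interval_cases j <;> rfl
    rw [Equiv.Perm.mul_apply, ← hb, h1]
    simp

theorem pt_mem_d0 : ∀ j < 5, pt j ∈ bitSet d0 := by
  intro j hj
  rw [mem_bitSet]
  interval_cases j <;> decide +kernel

theorem pt_inj5 : ∀ i < 5, ∀ j < 5, pt i = pt j → i = j := by decide +kernel

/-- conjugating an element of the base stabilizer -/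
theorem conj_mem_G11 {d : Finset GolayPt} {p : GolayPt} {t u : Equiv.Perm GolayPt} (ht : t ∈ M24)
    (htd : t • bitSet d0 = d) (htp : t (pt 0) = p) (hu : u ∈ H12) (hu0 : u (pt 0) = pt 0) :
    t * u * t⁻¹ ∈ G11 d p := by
  refine mem_G11'.mpr ⟨conj_mem_stab ht htd hu, ?_⟩
  rw [← htp]
  simp only [Equiv.Perm.mul_apply]
  have e : t⁻¹ (t (pt 0)) = pt 0 := by simp
  rw [e, hu0]

theorem conj_inv_mem_H12' {d : Finset GolayPt} {p : GolayPt} {t g : Equiv.Perm GolayPt}
    (ht : t ∈ M24) (htd : t • bitSet d0 = d) (htp : t (pt 0) = p) (hg : g ∈ G11 d p) :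
    t⁻¹ * g * t ∈ H12 ∧ (t⁻¹ * g * t) (pt 0) = pt 0 := by
  obtain ⟨h1, h2⟩ := mem_G11'.mp hg
  refine ⟨conj_inv_mem_H12 ht htd h1, ?_⟩
  simp only [Equiv.Perm.mul_apply]
  rw [htp, h2, ← htp]
  simp

theorem conj_apply {t u : Equiv.Perm GolayPt} (x : GolayPt) :
    (t * u * t⁻¹) (t x) = t (u x) := by
  simp only [Equiv.Perm.mul_apply]
  simp

theorem conj_inv_apply {t g : Equiv.Perm GolayPt} {x : GolayPt} (h : g (t x) = t x) :
    (t⁻¹ * g * t) x = x := by
  simp only [Equiv.Perm.mul_apply]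
  rw [h]
  simp

theorem conj_cube {t u : Equiv.Perm GolayPt} (h : u * u * u = 1) :
    (t * u * t⁻¹) * (t * u * t⁻¹) * (t * u * t⁻¹) = 1 := by
  have : (t * u * t⁻¹) * (t * u * t⁻¹) * (t * u * t⁻¹) = t * (u * u * u) * t⁻¹ := by group
  rw [this, h]
  group

/-- in the base configuration: an element of order dividing three fixing 0, 1, 2 is a commutator
with an element fixing 0 -/
theorem K9_commutator {k : Equiv.Perm GolayPt} (hk : k ∈ H12) (k0 : k (pt 0) = pt 0)
    (k1 : k (pt 1) = pt 1) (k2 : k (pt 2) = pt 2) (k3 : k * k * k = 1) :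
    ∃ z ∈ H12, z (pt 0) = pt 0 ∧ k = z * k * z⁻¹ * k⁻¹ := by
  obtain ⟨K, hKL, hkT⟩ := exists_tbl_K9 hk k0 k1 k2 k3
  have h := zT_ok
  simp only [Bool.and_eq_true] at h
  obtain ⟨⟨⟨h1, h2⟩, h3⟩, h4⟩ := h
  obtain ⟨z, hz, hzT⟩ := tblOK_sound h1
  have hl : ∀ j < 4, ([0, 1, 2, 3] : List ℕ).getD j 0 < 24 := by decide
  have hz0 := fixesL_sound hzT hl h2 0 (by norm_num)
  have h5 := List.all_eq_true.mp h4 K hKL
  rw [Bool.and_eq_true] at h5
  have h6 : compT (compT (compT zT K) (invT zT)) (invT K) = K := by simpa using h5.2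
  have hprod : HasTbl (z * k * z⁻¹ * k⁻¹) K := by
    rw [← h6]
    exact ((hzT.mul hkT).mul (hzT.inv h3)).mul (hkT.inv h5.1)
  exact ⟨z, hz, hz0, hkT.ext hprod⟩

theorem mask0_aux : ∀ i < 24, (0x5335e : ℕ).testBit i = true →
    pt i ∈ bitSet d0 ∧ pt i ≠ pt 0 := by
  intro i hi h
  rw [mem_bitSet, idx_pt hi]
  revert h
  interval_cases i <;> decide +kernel

theorem pt_ne_of_ne : ∀ i < 24, ∀ j < 24, i ≠ j → pt i ≠ pt j := by
  intro i hi j hj h h'
  apply h
  have := congrArg idx h'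
  rwa [idx_pt hi, idx_pt hj] at this

/-- soundness of a certificate for an element of order three -/
theorem ord3OK_sound {c : List ℕ × ℕ × ℕ} (h : ord3OK c = true) :
    ∃ σ, HasTbl σ c.1 ∧ IsGen11 (bitSet d0) (pt 0) σ := by
  unfold ord3OK at h
  simp only [Bool.and_eq_true] at h
  obtain ⟨⟨⟨⟨⟨⟨⟨h1, h2⟩, h3⟩, h4⟩, h5⟩, h6⟩, h7⟩, h8⟩ := h
  obtain ⟨σ, hσ, hσT⟩ := tblOK_sound h1
  have l1 : c.2.1 < 24 := by simpa [Nat.blt_eq] using h7
  have l2 : c.2.2 < 24 := by simpa [Nat.blt_eq] using h8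
  have hl : ∀ j < 3, ([0, c.2.1, c.2.2] : List ℕ).getD j 0 < 24 := by
    intro j hj
    interval_cases j
    · norm_num
    · simpa using l1
    · simpa using l2
  have hf := fixesL_sound hσT hl h3
  have f0 : σ (pt 0) = pt 0 := hf 0 (by norm_num)
  have f1 : σ (pt c.2.1) = pt c.2.1 := hf 1 (by norm_num)
  have f2 : σ (pt c.2.2) = pt c.2.2 := hf 2 (by norm_num)
  have hne : c.2.1 ≠ c.2.2 := by
    intro h
    rw [h] at h6
    simp at h6
  obtain ⟨m1, n1⟩ := mask0_aux _ l1 h4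
  obtain ⟨m2, n2⟩ := mask0_aux _ l2 h5
  refine ⟨σ, hσT, ?_, (isId_iff hσT.cube).mp h2, pt c.2.1, pt c.2.2, m1, m2, n1, n2,
    pt_ne_of_ne _ l1 _ l2 hne, f1, f2⟩
  exact mem_G11'.mpr ⟨hσ, f0⟩

/-- in the base configuration: an element fixing 0, 1, 2, 3 is the identity or a product of two
generators -/
theorem Q8_prod {g : Equiv.Perm GolayPt} (hg : g ∈ H12) (g0 : g (pt 0) = pt 0)
    (g1 : g (pt 1) = pt 1) (g2 : g (pt 2) = pt 2) (g3 : g (pt 3) = pt 3) :
    g = 1 ∨ ∃ A B, IsGen11 (bitSet d0) (pt 0) A ∧ IsGen11 (bitSet d0) (pt 0) B ∧ g = A * B := by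
  have key : ∀ σ ∈ H12, σ (pt 0) = pt 0 → σ (pt 1) = pt 1 → σ (pt 2) = pt 2 → σ (pt 3) = pt 3 →
      σ (pt 4) = g (pt 4) → g = σ := by
    intro σ hσ s0 s1 s2 s3 s4
    have : σ⁻¹ * g ∈ H12 ⊓ fixSeq (Equiv.Perm GolayPt) b2 5 := by
      refine Subgroup.mem_inf.mpr ⟨H12.mul_mem (H12.inv_mem hσ) hg, ?_⟩
      rw [mem_fixSeq]
      intro j hj
      rw [Equiv.Perm.smul_def, Equiv.Perm.mul_apply, Equiv.Perm.inv_eq_iff_eq]
      interval_cases j
      · show g (pt 0) = σ (pt 0); rw [g0, s0]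
      · show g (pt 1) = σ (pt 1); rw [g1, s1]
      · show g (pt 2) = σ (pt 2); rw [g2, s2]
      · show g (pt 3) = σ (pt 3); rw [g3, s3]
      · show g (pt 4) = σ (pt 4); rw [s4]
    rw [H12_fix5, Subgroup.mem_bot] at this
    have := congrArg (σ * ·) this
    simpa using this
  by_cases h4 : g (pt 4) = pt 4
  · left
    exact key 1 H12.one_mem rfl rfl rfl rfl (by rw [h4]; rfl)
  right
  have hm : (0x5335f - 15 : ℕ).testBit (idx (g (pt 4))) = true := by
    apply mask4_aux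
    · have : g • pt 4 ∈ bitSet d0 := (mem_H12_smul hg (pt 4)).mpr pt34_mem.2
      exact mem_bitSet.mp this
    · intro h; rw [← g0] at h; revert h; simp only [EmbeddingLike.apply_eq_iff_eq]; decide
    · intro h; rw [← g1] at h; revert h; simp only [EmbeddingLike.apply_eq_iff_eq]; decide
    · intro h; rw [← g2] at h; revert h; simp only [EmbeddingLike.apply_eq_iff_eq]; decide
    · intro h; rw [← g3] at h; revert h; simp only [EmbeddingLike.apply_eq_iff_eq]; decide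
  have hc := (allBelow_iff _ _).mp Q8C_cover _ (idx_lt (g (pt 4)))
  rw [hm] at hc
  simp only [Bool.not_true, Bool.false_or, Bool.or_eq_true, List.any_eq_true] at hc
  rcases hc with hc | ⟨c, hcL, hc4⟩
  · exfalso
    apply h4
    have := Nat.eq_of_beq_eq_true hc
    rw [← pt_idx (g (pt 4)), this]
  have hok := List.all_eq_true.mp Q8C_ok c hcL
  simp only [Bool.and_eq_true] at hok
  obtain ⟨⟨⟨hA, hB⟩, hAB⟩, hfix⟩ := hok
  obtain ⟨A, hAT, hAg⟩ := ord3OK_sound hA
  obtain ⟨B, hBT, hBg⟩ := ord3OK_sound hB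
  have hAB' : compT c.2.1.1 c.2.2.1 = c.1 := by simpa using hAB
  have hprod : HasTbl (A * B) c.1 := by
    rw [← hAB']
    exact hAT.mul hBT
  have hl : ∀ j < 4, ([0, 1, 2, 3] : List ℕ).getD j 0 < 24 := by decide
  have hf := fixesL_sound hprod hl hfix
  refine ⟨A, B, hAg, hBg, ?_⟩
  apply key (A * B)
  · have hA' := (mem_G11'.mp hAg.1).1
    have hB' := (mem_G11'.mp hBg.1).1
    exact H12.mul_mem hA' hB'
  · exact hf 0 (by norm_num)
  · exact hf 1 (by norm_num)
  · exact hf 2 (by norm_num)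
  · exact hf 3 (by norm_num)
  · rw [hprod.apply (by norm_num), Nat.eq_of_beq_eq_true hc4, pt_idx]

end Cfsg.Agent.Lib.Helper3.Golay
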