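import Mathlib
import Cfsg.Prelude.Def_Sporadic_a
import Cfsg.Agent.Lib.Helper3.Golay.M11Gen
import Cfsg.Agent.Lib.Helper3.Golay.M24List
import Cfsg.Agent.Lib.Helper3.Golay.Maximal

set_option autoImplicit false

/-! Simplicity of the stabilizer of a dodecad and a point of it, by the Iwasawa criterion applied to
the action on the 55 pairs of the other points of the dodecad. -/

namespace Cfsg.Agent.Lib.Helper3.Golay

open Cfsg
open scoped Pointwise
open scoped commutatorElement


theorem arith11 : ∀ I ⊆ Finset.range (2 + 1), 0 ∈ I → (∀ i ∈ I, [1, 18, 36].getD i 0 ≠ 0) →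
    (∑ i ∈ I, [1, 18, 36].getD i 0) ∣ 55 →
    I = {0} ∨ ∀ i ≤ 2, [1, 18, 36].getD i 0 ≠ 0 → i ∈ I := by
  decide

/-- the numbers of pairs of an 11-set meeting a given pair in 2, 1, 0 points -/
theorem pairs_counts {α : Type*} [DecidableEq α] (E x : Finset α) (hE : E.card = 11) (hx : x ⊆ E)
    (hx2 : x.card = 2) : ∀ i ≤ 2,
    ((E.powersetCard 2).filter (fun y => 2 - (x ∩ y).card = i)).card = [1, 18, 36].getD i 0 := by
  have hΩ : (E.powersetCard 2).card = 55 := by
    rw [Finset.card_powersetCard, hE]; rfl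
  have c0 : ((E.powersetCard 2).filter (fun y => 2 - (x ∩ y).card = 0)) = {x} := by
    ext y
    rw [Finset.mem_filter, Finset.mem_powersetCard, Finset.mem_singleton]
    constructor
    · rintro ⟨⟨-, hy2⟩, h⟩
      have h1 : x ∩ y = x :=
        Finset.eq_of_subset_of_card_le Finset.inter_subset_left (by rw [hx2]; omega)
      have h2 : x ⊆ y := by rw [← h1]; exact Finset.inter_subset_right
      exact (Finset.eq_of_subset_of_card_le h2 (by rw [hx2, hy2])).symm
    · rintro rfl
      refine ⟨⟨hx, hx2⟩, ?_⟩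
      rw [Finset.inter_self, hx2]
  have c2 : ((E.powersetCard 2).filter (fun y => 2 - (x ∩ y).card = 2)) =
      (E \ x).powersetCard 2 := by
    ext y
    rw [Finset.mem_filter, Finset.mem_powersetCard, Finset.mem_powersetCard, Finset.subset_sdiff]
    constructor
    · rintro ⟨⟨hyE, hy2⟩, h⟩
      have h0 : (x ∩ y).card = 0 := by omega
      rw [Finset.card_eq_zero, ← Finset.disjoint_iff_inter_eq_empty] at h0
      exact ⟨⟨hyE, h0.symm⟩, hy2⟩
    · rintro ⟨⟨hyE, hdis⟩, hy2⟩
      refine ⟨⟨hyE, hy2⟩, ?_⟩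
      have : x ∩ y = ∅ := Finset.disjoint_iff_inter_eq_empty.mp hdis.symm
      rw [this, Finset.card_empty]
  have n0 : ((E.powersetCard 2).filter (fun y => 2 - (x ∩ y).card = 0)).card = 1 := by
    rw [c0, Finset.card_singleton]
  have n2 : ((E.powersetCard 2).filter (fun y => 2 - (x ∩ y).card = 2)).card = 36 := by
    rw [c2, Finset.card_powersetCard, Finset.card_sdiff_of_subset hx, hE, hx2]; rfl
  have hmaps : Set.MapsTo (fun y : Finset α => 2 - (x ∩ y).card)
      ((E.powersetCard 2 : Finset (Finset α)) : Set (Finset α)) (Finset.range 3 : Finset ℕ) := by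
    intro y _
    rw [Finset.mem_coe, Finset.mem_range]
    show 2 - (x ∩ y).card < 3
    omega
  have htot := Finset.card_eq_sum_card_fiberwise hmaps
  rw [Finset.sum_range_succ, Finset.sum_range_succ, Finset.sum_range_one, hΩ, n0, n2] at htot
  intro i hi
  interval_cases i
  · exact n0
  · show _ = 18
    omega
  · exact n2

section
variable {d : Finset GolayPt} {p : GolayPt}

/-- transport from the base configuration, list form: the base point goes to `p` and the next
points to the given list -/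
theorem exists_transport_list (hd : d ∈ dodecads) (hp : p ∈ d) (l : List GolayPt)
    (hl : l.length ≤ 4) (hnd : l.Nodup) (hmem : ∀ x ∈ l, x ∈ d ∧ x ≠ p) :
    ∃ t ∈ M24, t • bitSet d0 = d ∧ t (pt 0) = p ∧
      ∀ j (hj : j < l.length), t (pt (j + 1)) = l[j] := by
  have hnd' : (p :: l).Nodup := by
    rw [List.nodup_cons]
    exact ⟨fun h => (hmem p h).2 rfl, hnd⟩
  obtain ⟨t, ht, htd, hmap⟩ := exists_transport_pts hd (fun i => (p :: l).getD i p)
    (l.length + 1) (by omega)
    (by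
      intro i hi
      have hi' : i < (p :: l).length := by simpa using hi
      rw [List.getD_eq_getElem _ _ hi']
      have := List.getElem_mem hi'
      rw [List.mem_cons] at this
      rcases this with h | h
      · rw [h]; exact hp
      · exact (hmem _ h).1)
    (by
      intro i hi j hj h
      have hi' : i < (p :: l).length := by simpa using hi
      have hj' : j < (p :: l).length := by simpa using hj
      rw [List.getD_eq_getElem _ _ hi', List.getD_eq_getElem _ _ hj'] at h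
      exact (List.Nodup.getElem_inj_iff hnd').mp h)
  refine ⟨t, ht, htd, ?_, ?_⟩
  · have := hmap 0 (by omega)
    simpa using this
  · intro j hj
    have := hmap (j + 1) (by omega)
    rw [this]
    have hj' : j + 1 < (p :: l).length := by simpa using hj
    rw [List.getD_eq_getElem _ _ hj']
    simp

theorem cons_getD_mem (hp : p ∈ d) (l : List GolayPt) (hmem : ∀ x ∈ l, x ∈ d ∧ x ≠ p) :
    ∀ i < l.length + 1, (p :: l).getD i p ∈ d := by
  intro i hi
  have hi' : i < (p :: l).length := by simpa using hi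
  rw [List.getD_eq_getElem _ _ hi']
  have := List.getElem_mem hi'
  rw [List.mem_cons] at this
  rcases this with h | h
  · rw [h]; exact hp
  · exact (hmem _ h).1

theorem cons_getD_inj (l : List GolayPt) (hnd : l.Nodup) (hmem : ∀ x ∈ l, x ∈ d ∧ x ≠ p) :
    ∀ i < l.length + 1, ∀ j < l.length + 1, (p :: l).getD i p = (p :: l).getD j p → i = j := by
  have hnd' : (p :: l).Nodup := by
    rw [List.nodup_cons]
    exact ⟨fun h => (hmem p h).2 rfl, hnd⟩
  intro i hi j hj h
  have hi' : i < (p :: l).length := by simpa using hi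
  have hj' : j < (p :: l).length := by simpa using hj
  rw [List.getD_eq_getElem _ _ hi', List.getD_eq_getElem _ _ hj'] at h
  exact (List.Nodup.getElem_inj_iff hnd').mp h

/-- the stabilizer of a dodecad and a point of it is 4-transitive on the other points of the
dodecad, list form -/
theorem exists_map_list11 (hd : d ∈ dodecads) (hp : p ∈ d) (l l' : List GolayPt) (hnd : l.Nodup)
    (hnd' : l'.Nodup) (hlen : l.length = l'.length) (h4 : l.length ≤ 4)
    (hmem : ∀ x ∈ l, x ∈ d ∧ x ≠ p) (hmem' : ∀ x ∈ l', x ∈ d ∧ x ≠ p) :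
    ∃ g ∈ G11 d p, l.map g = l' := by
  obtain ⟨g, hg, hmap⟩ := stab_dodecad_map hd (fun i => (p :: l).getD i p)
    (fun i => (p :: l').getD i p) (l.length + 1) (by omega) (cons_getD_mem hp l hmem)
    (by rw [hlen]; exact cons_getD_mem hp l' hmem') (cons_getD_inj l hnd hmem)
    (by rw [hlen]; exact cons_getD_inj l' hnd' hmem')
  refine ⟨g, mem_G11'.mpr ⟨hg, ?_⟩, ?_⟩
  · have := hmap 0 (by omega)
    simpa using this
  · apply List.ext_getElem (by simp [hlen])
    intro i h1 h2
    have hi : i < l.length := by simpa using h1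
    have := hmap (i + 1) (by omega)
    have hi1 : i + 1 < (p :: l).length := by simpa using hi
    have hi2 : i + 1 < (p :: l').length := by simpa using h2
    rw [List.getD_eq_getElem _ _ hi1, List.getD_eq_getElem _ _ hi2] at this
    simpa using this

/-- two pairs of sets in the same relative position (at most four points in all, none of them the
fixed point) are mapped to one another -/
theorem exists_map_rel11 (hd : d ∈ dodecads) (hp : p ∈ d) (x y x' y' : Finset GolayPt)
    (hx : x ⊆ d.erase p) (hy : y ⊆ d.erase p) (hx' : x' ⊆ d.erase p) (hy' : y' ⊆ d.erase p)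
    (h1 : (x ∩ y).card = (x' ∩ y').card)
    (h2 : (x \ y).card = (x' \ y').card) (h3 : (y \ x).card = (y' \ x').card)
    (h4 : (x ∩ y).card + (x \ y).card + (y \ x).card ≤ 4) :
    ∃ g ∈ G11 d p, g • x = x' ∧ g • y = y' := by
  classical
  have hnd : ∀ s t : Finset GolayPt,
      ((s ∩ t).toList ++ ((s \ t).toList ++ (t \ s).toList)).Nodup := by
    intro s t
    rw [List.nodup_append]
    refine ⟨Finset.nodup_toList _, ?_, ?_⟩
    · rw [List.nodup_append]
      refine ⟨Finset.nodup_toList _, Finset.nodup_toList _, ?_⟩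
      intro a ha b hb hab
      rw [Finset.mem_toList, Finset.mem_sdiff] at ha hb
      exact hb.2 (hab ▸ ha.1)
    · intro a ha b hb hab
      rw [Finset.mem_toList, Finset.mem_inter] at ha
      rw [List.mem_append, Finset.mem_toList, Finset.mem_toList, Finset.mem_sdiff,
        Finset.mem_sdiff] at hb
      rcases hb with hb | hb
      · exact hb.2 (hab ▸ ha.2)
      · exact hb.2 (hab ▸ ha.1)
  have hmem : ∀ s t : Finset GolayPt, s ⊆ d.erase p → t ⊆ d.erase p →
      ∀ a ∈ (s ∩ t).toList ++ ((s \ t).toList ++ (t \ s).toList), a ∈ d ∧ a ≠ p := by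
    intro s t hs ht a ha
    simp only [List.mem_append, Finset.mem_toList, Finset.mem_inter, Finset.mem_sdiff] at ha
    have : a ∈ d.erase p := by
      rcases ha with h | h | h
      · exact hs h.1
      · exact hs h.1
      · exact ht h.1
    rw [Finset.mem_erase] at this
    exact ⟨this.2, this.1⟩
  obtain ⟨g, hg, hmap⟩ := exists_map_list11 hd hp _ _ (hnd x y) (hnd x' y')
    (by simp only [List.length_append, Finset.length_toList]; omega)
    (by simp only [List.length_append, Finset.length_toList]; omega)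
    (hmem x y hx hy) (hmem x' y' hx' hy')
  rw [List.map_append, List.map_append] at hmap
  obtain ⟨e1, e23⟩ := List.append_inj hmap (by simp [h1])
  obtain ⟨e2, e3⟩ := List.append_inj e23 (by simp [h2])
  have f1 : g • (x ∩ y) = x' ∩ y' := by
    rw [← toFinset_map_toList, e1, Finset.toList_toFinset]
  have f2 : g • (x \ y) = x' \ y' := by
    rw [← toFinset_map_toList, e2, Finset.toList_toFinset]
  have f3 : g • (y \ x) = y' \ x' := by
    rw [← toFinset_map_toList, e3, Finset.toList_toFinset]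
  refine ⟨g, hg, ?_, ?_⟩
  · have : ∀ s t : Finset GolayPt, s = (s ∩ t) ∪ (s \ t) := by
      intro s t
      rw [Finset.union_comm]
      exact (Finset.sdiff_union_inter s t).symm
    conv_lhs => rw [this x y]
    rw [Finset.smul_finset_union, f1, f2, ← this x' y']
  · have : ∀ s t : Finset GolayPt, t = (s ∩ t) ∪ (t \ s) := by
      intro s t
      rw [Finset.union_comm, Finset.inter_comm]
      exact (Finset.sdiff_union_inter t s).symm
    conv_lhs => rw [this x y]
    rw [Finset.smul_finset_union, f1, f3, ← this x' y']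

theorem apply_mem_of_smul {t : Equiv.Perm GolayPt} {s s' : Finset GolayPt} (h : t • s = s')
    {x : GolayPt} (hx : x ∈ s) : t x ∈ s' := by
  rw [← h]
  exact Finset.smul_mem_smul_finset hx

/-- transport of a generator of the base configuration -/
theorem IsGen11.conj {s t : Equiv.Perm GolayPt} (hs : IsGen11 (bitSet d0) (pt 0) s) (ht : t ∈ M24)
    (htd : t • bitSet d0 = d) (htp : t (pt 0) = p) : IsGen11 d p (t * s * t⁻¹) := by
  obtain ⟨h1, h2, a, b, ha, hb, ha0, hb0, hab, sa, sb⟩ := hs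
  obtain ⟨h3, h4⟩ := mem_G11'.mp h1
  refine ⟨conj_mem_G11 ht htd htp h3 h4, conj_cube h2, t a, t b, apply_mem_of_smul htd ha,
    apply_mem_of_smul htd hb, ?_, ?_, ?_, ?_, ?_⟩
  · rw [← htp]; exact fun h => ha0 (t.injective h)
  · rw [← htp]; exact fun h => hb0 (t.injective h)
  · exact fun h => hab (t.injective h)
  · rw [conj_apply, sa]
  · rw [conj_apply, sb]

/-- the elements of order dividing three fixing `a` and `b` are transitive on the other nine
points -/
theorem exists_gen_map (hd : d ∈ dodecads) (hp : p ∈ d) {a b e f : GolayPt}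
    (ha : a ∈ d) (hb : b ∈ d) (he : e ∈ d) (hf : f ∈ d)
    (hap : a ≠ p) (hbp : b ≠ p) (hab : a ≠ b) (hep : e ≠ p) (hea : e ≠ a) (heb : e ≠ b)
    (hfp : f ≠ p) (hfa : f ≠ a) (hfb : f ≠ b) :
    ∃ k, IsGen11 d p k ∧ k a = a ∧ k b = b ∧ k e = f := by
  obtain ⟨t, ht, htd, htp, hmap⟩ := exists_transport_list hd hp [a, b, e] (by simp)
    (by simp [hab, hea.symm, heb.symm])
    (by
      intro x hx
      simp only [List.mem_cons, List.not_mem_nil, or_false] at hx
      rcases hx with rfl | rfl | rfl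
      · exact ⟨ha, hap⟩
      · exact ⟨hb, hbp⟩
      · exact ⟨he, hep⟩)
  have t1 : t (pt 1) = a := hmap 0 (by simp)
  have t2 : t (pt 2) = b := hmap 1 (by simp)
  have t3 : t (pt 3) = e := hmap 2 (by simp)
  have hy : t⁻¹ f ∈ bitSet d0 := (inv_apply_mem htd f).mpr hf
  have hne : ∀ j : ℕ, ∀ c : GolayPt, t (pt j) = c → f ≠ c → t⁻¹ f ≠ pt j := by
    intro j c hc hfc h
    apply hfc
    rw [← hc, ← h]
    simp
  obtain ⟨k, hk, k0, k1, k2, k3, k4⟩ := K9_trans hy (hne 0 p htp hfp) (hne 1 a t1 hfa)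
    (hne 2 b t2 hfb)
  refine ⟨t * k * t⁻¹, ⟨conj_mem_G11 ht htd htp hk k0, conj_cube k3, a, b, ha, hb, hap, hbp, hab,
    ?_, ?_⟩, ?_, ?_, ?_⟩
  · rw [← t1, conj_apply, k1]
  · rw [← t2, conj_apply, k2]
  · rw [← t1, conj_apply, k1]
  · rw [← t2, conj_apply, k2]
  · rw [← t3, conj_apply, k4]
    simp

/-- the subgroup generated by the generators -/
def NT11 (d : Finset GolayPt) (p : GolayPt) : Subgroup (Equiv.Perm GolayPt) :=
  Subgroup.closure {s | IsGen11 d p s}

/-- an element fixing three further points is a product of generators -/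
theorem mem_NT11_of_fix3 (hd : d ∈ dodecads) (hp : p ∈ d) {a b c : GolayPt}
    (ha : a ∈ d) (hb : b ∈ d) (hc : c ∈ d) (hap : a ≠ p) (hbp : b ≠ p) (hcp : c ≠ p) (hab : a ≠ b)
    (hac : a ≠ c) (hbc : b ≠ c) {g : Equiv.Perm GolayPt} (hg : g ∈ G11 d p) (ga : g a = a)
    (gb : g b = b) (gc : g c = c) : g ∈ NT11 d p := by
  obtain ⟨t, ht, htd, htp, hmap⟩ := exists_transport_list hd hp [a, b, c] (by simp)
    (by simp [hab, hac, hbc])
    (by
      intro x hx
      simp only [List.mem_cons, List.not_mem_nil, or_false] at hx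
      rcases hx with rfl | rfl | rfl
      · exact ⟨ha, hap⟩
      · exact ⟨hb, hbp⟩
      · exact ⟨hc, hcp⟩)
  have t1 : t (pt 1) = a := hmap 0 (by simp)
  have t2 : t (pt 2) = b := hmap 1 (by simp)
  have t3 : t (pt 3) = c := hmap 2 (by simp)
  obtain ⟨h1, h0⟩ := conj_inv_mem_H12' ht htd htp hg
  have e : g = t * (t⁻¹ * g * t) * t⁻¹ := by group
  rcases Q8_prod h1 h0 (conj_inv_apply (by rw [t1, ga])) (conj_inv_apply (by rw [t2, gb]))
    (conj_inv_apply (by rw [t3, gc])) with h | ⟨A, B, hA, hB, h⟩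
  · rw [e, h]
    simp only [mul_one, mul_inv_cancel]
    exact Subgroup.one_mem _
  · rw [e, h]
    have : t * (A * B) * t⁻¹ = (t * A * t⁻¹) * (t * B * t⁻¹) := by group
    rw [this]
    exact Subgroup.mul_mem _ (Subgroup.subset_closure (hA.conj ht htd htp))
      (Subgroup.subset_closure (hB.conj ht htd htp))

theorem NT11_le : NT11 d p ≤ G11 d p := by
  unfold NT11
  rw [Subgroup.closure_le]
  intro s hs
  exact hs.1

/-- a generator is a commutator -/
theorem IsGen11.commutator (hd : d ∈ dodecads) (hp : p ∈ d) {s : Equiv.Perm GolayPt}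
    (hs : IsGen11 d p s) : ∃ z ∈ G11 d p, s = z * s * z⁻¹ * s⁻¹ := by
  obtain ⟨h1, h2, a, b, ha, hb, hap, hbp, hab, sa, sb⟩ := hs
  obtain ⟨t, ht, htd, htp, hmap⟩ := exists_transport_list hd hp [a, b] (by simp)
    (by simp [hab])
    (by
      intro x hx
      simp only [List.mem_cons, List.not_mem_nil, or_false] at hx
      rcases hx with rfl | rfl
      · exact ⟨ha, hap⟩
      · exact ⟨hb, hbp⟩)
  have t1 : t (pt 1) = a := hmap 0 (by simp)
  have t2 : t (pt 2) = b := hmap 1 (by simp)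
  obtain ⟨h3, h0⟩ := conj_inv_mem_H12' ht htd htp h1
  have hcube : (t⁻¹ * s * t) * (t⁻¹ * s * t) * (t⁻¹ * s * t) = 1 := by
    have := conj_cube (t := t⁻¹) h2
    rwa [inv_inv] at this
  obtain ⟨z, hz, hz0, hzk⟩ := K9_commutator h3 h0 (conj_inv_apply (by rw [t1, sa]))
    (conj_inv_apply (by rw [t2, sb])) hcube
  refine ⟨t * z * t⁻¹, conj_mem_G11 ht htd htp hz hz0, ?_⟩
  have e : s = t * (t⁻¹ * s * t) * t⁻¹ := by group
  conv_lhs => rw [e, hzk]
  group

/-- two elements of order dividing three fixing the same two points commute -/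
theorem comm_of_fix2 (hd : d ∈ dodecads) (hp : p ∈ d) {a b : GolayPt} (ha : a ∈ d) (hb : b ∈ d)
    (hap : a ≠ p) (hbp : b ≠ p) (hab : a ≠ b) {s s' : Equiv.Perm GolayPt}
    (hs : s ∈ G11 d p) (hs' : s' ∈ G11 d p) (h3 : s * s * s = 1) (h3' : s' * s' * s' = 1)
    (sa : s a = a) (sb : s b = b) (sa' : s' a = a) (sb' : s' b = b) : s * s' = s' * s := by
  obtain ⟨t, ht, htd, htp, hmap⟩ := exists_transport_list hd hp [a, b] (by simp)
    (by simp [hab])
    (by
      intro x hx
      simp only [List.mem_cons, List.not_mem_nil, or_false] at hx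
      rcases hx with rfl | rfl
      · exact ⟨ha, hap⟩
      · exact ⟨hb, hbp⟩)
  have t1 : t (pt 1) = a := hmap 0 (by simp)
  have t2 : t (pt 2) = b := hmap 1 (by simp)
  obtain ⟨k1, k0⟩ := conj_inv_mem_H12' ht htd htp hs
  obtain ⟨k1', k0'⟩ := conj_inv_mem_H12' ht htd htp hs'
  have hcube : ∀ u : Equiv.Perm GolayPt, u * u * u = 1 →
      (t⁻¹ * u * t) * (t⁻¹ * u * t) * (t⁻¹ * u * t) = 1 := by
    intro u hu
    have := conj_cube (t := t⁻¹) hu
    rwa [inv_inv] at this
  have := K9_comm k1 k0 (conj_inv_apply (by rw [t1, sa])) (conj_inv_apply (by rw [t2, sb]))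
    (hcube s h3) k1' k0' (conj_inv_apply (by rw [t1, sa'])) (conj_inv_apply (by rw [t2, sb']))
    (hcube s' h3')
  have e : s * s' = t * ((t⁻¹ * s * t) * (t⁻¹ * s' * t)) * t⁻¹ := by group
  rw [e, this]
  group

theorem inv_apply_of_apply {n : Equiv.Perm GolayPt} {x y : GolayPt} (h : n x = y) : n⁻¹ y = x := by
  rw [← h]; simp

/-- the stabilizer of a dodecad and a point is generated by the generators -/
theorem G11_le_NT11 (hd : d ∈ dodecads) (hp : p ∈ d) : G11 d p ≤ NT11 d p := by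
  classical
  intro g hg
  have pick : ∀ F : Finset GolayPt, F.card < 12 → ∃ a ∈ d, a ∉ F := by
    intro F hF
    exact Finset.exists_mem_notMem_of_card_lt_card (by rw [hd.2]; exact hF)
  obtain ⟨e1, he1, h1⟩ := pick {p} (by simp)
  obtain ⟨e2, he2, h2⟩ := pick {p, e1} (lt_of_le_of_lt Finset.card_le_two (by norm_num))
  obtain ⟨e3, he3, h3⟩ := pick {p, e1, e2} (lt_of_le_of_lt Finset.card_le_three (by norm_num))
  simp only [Finset.mem_insert, Finset.mem_singleton, not_or] at h1 h2 h3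
  -- first step
  have hf1 : g e1 ∈ d := (G11_apply_mem hg e1).mpr he1
  have hf1p : g e1 ≠ p := G11_apply_ne hg h1
  obtain ⟨a, ha, ha'⟩ := pick {p, e1, g e1} (lt_of_le_of_lt Finset.card_le_three (by norm_num))
  obtain ⟨b, hb, hb'⟩ := pick {p, e1, g e1, a} (lt_of_le_of_lt Finset.card_le_four (by norm_num))
  simp only [Finset.mem_insert, Finset.mem_singleton, not_or] at ha' hb'
  obtain ⟨n1, hn1, -, -, n1e⟩ := exists_gen_map hd hp ha hb he1 hf1 ha'.1 hb'.1
    (Ne.symm hb'.2.2.2) h1 (Ne.symm ha'.2.1) (Ne.symm hb'.2.1) hf1p (Ne.symm ha'.2.2)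
    (Ne.symm hb'.2.2.1)
  have hn1N : n1 ∈ NT11 d p := Subgroup.subset_closure hn1
  have hg1 : n1⁻¹ * g ∈ G11 d p := Subgroup.mul_mem _ (Subgroup.inv_mem _ hn1.1) hg
  have g1e1 : (n1⁻¹ * g) e1 = e1 := by
    rw [Equiv.Perm.mul_apply]; exact inv_apply_of_apply n1e
  -- second step
  have hf2 : (n1⁻¹ * g) e2 ∈ d := (G11_apply_mem hg1 e2).mpr he2
  have hf2p : (n1⁻¹ * g) e2 ≠ p := G11_apply_ne hg1 h2.1
  have hf2e : (n1⁻¹ * g) e2 ≠ e1 := by
    intro h
    rw [← g1e1] at h
    exact h2.2 ((n1⁻¹ * g).injective h)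
  obtain ⟨c, hc, hc'⟩ := pick {p, e1, e2, (n1⁻¹ * g) e2}
    (lt_of_le_of_lt Finset.card_le_four (by norm_num))
  simp only [Finset.mem_insert, Finset.mem_singleton, not_or] at hc'
  obtain ⟨n2, hn2, n2e1, -, n2e⟩ := exists_gen_map hd hp he1 hc he2 hf2 h1 hc'.1
    (Ne.symm hc'.2.1) h2.1 h2.2 (Ne.symm hc'.2.2.1) hf2p hf2e (Ne.symm hc'.2.2.2)
  have hn2N : n2 ∈ NT11 d p := Subgroup.subset_closure hn2
  have hg2 : n2⁻¹ * (n1⁻¹ * g) ∈ G11 d p := Subgroup.mul_mem _ (Subgroup.inv_mem _ hn2.1) hg1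
  have g2e1 : (n2⁻¹ * (n1⁻¹ * g)) e1 = e1 := by
    rw [Equiv.Perm.mul_apply, g1e1]; exact inv_apply_of_apply n2e1
  have g2e2 : (n2⁻¹ * (n1⁻¹ * g)) e2 = e2 := by
    rw [Equiv.Perm.mul_apply]; exact inv_apply_of_apply n2e
  -- third step
  have hf3 : (n2⁻¹ * (n1⁻¹ * g)) e3 ∈ d := (G11_apply_mem hg2 e3).mpr he3
  have hf3p : (n2⁻¹ * (n1⁻¹ * g)) e3 ≠ p := G11_apply_ne hg2 h3.1
  have hf3e1 : (n2⁻¹ * (n1⁻¹ * g)) e3 ≠ e1 := by
    intro h
    rw [← g2e1] at h
    exact h3.2.1 ((n2⁻¹ * (n1⁻¹ * g)).injective h)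
  have hf3e2 : (n2⁻¹ * (n1⁻¹ * g)) e3 ≠ e2 := by
    intro h
    rw [← g2e2] at h
    exact h3.2.2 ((n2⁻¹ * (n1⁻¹ * g)).injective h)
  obtain ⟨n3, hn3, n3e1, n3e2, n3e⟩ := exists_gen_map hd hp he1 he2 he3 hf3 h1 h2.1
    (Ne.symm h2.2) h3.1 h3.2.1 h3.2.2 hf3p hf3e1 hf3e2
  have hn3N : n3 ∈ NT11 d p := Subgroup.subset_closure hn3
  have hg3 : n3⁻¹ * (n2⁻¹ * (n1⁻¹ * g)) ∈ G11 d p :=
    Subgroup.mul_mem _ (Subgroup.inv_mem _ hn3.1) hg2
  have g3e1 : (n3⁻¹ * (n2⁻¹ * (n1⁻¹ * g))) e1 = e1 := by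
    rw [Equiv.Perm.mul_apply, g2e1]; exact inv_apply_of_apply n3e1
  have g3e2 : (n3⁻¹ * (n2⁻¹ * (n1⁻¹ * g))) e2 = e2 := by
    rw [Equiv.Perm.mul_apply, g2e2]; exact inv_apply_of_apply n3e2
  have g3e3 : (n3⁻¹ * (n2⁻¹ * (n1⁻¹ * g))) e3 = e3 := by
    rw [Equiv.Perm.mul_apply]; exact inv_apply_of_apply n3e
  have hfin := mem_NT11_of_fix3 hd hp he1 he2 he3 h1 h2.1 h3.1 (Ne.symm h2.2) (Ne.symm h3.2.1)
    (Ne.symm h3.2.2) hg3 g3e1 g3e2 g3e3
  have e : g = n1 * (n2 * (n3 * (n3⁻¹ * (n2⁻¹ * (n1⁻¹ * g))))) := by group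
  rw [e]
  exact Subgroup.mul_mem _ hn1N (Subgroup.mul_mem _ hn2N (Subgroup.mul_mem _ hn3N hfin))

/-- the stabilizer of a dodecad and a point is perfect -/
theorem commutator_G11 (hd : d ∈ dodecads) (hp : p ∈ d) : commutator ↥(G11 d p) = ⊤ := by
  rw [eq_top_iff]
  rintro ⟨g, hg⟩ -
  have key : ∀ x ∈ NT11 d p, ∃ hx : x ∈ G11 d p, (⟨x, hx⟩ : ↥(G11 d p)) ∈ commutator ↥(G11 d p) := by
    intro x hx
    unfold NT11 at hx
    induction hx using Subgroup.closure_induction with
    | mem s hs =>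
      obtain ⟨z, hz, hzs⟩ := hs.commutator hd hp
      refine ⟨hs.1, ?_⟩
      have heq : (⟨s, hs.1⟩ : ↥(G11 d p)) = ⁅(⟨z, hz⟩ : ↥(G11 d p)), ⟨s, hs.1⟩⁆ := by
        apply Subtype.ext
        rw [commutatorElement_def]
        exact hzs
      rw [heq]
      exact Subgroup.commutator_mem_commutator (Subgroup.mem_top _) (Subgroup.mem_top _)
    | one => exact ⟨Subgroup.one_mem _, Subgroup.one_mem _⟩
    | mul a b _ _ iha ihb =>
      obtain ⟨ha, ha'⟩ := iha
      obtain ⟨hb, hb'⟩ := ihb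
      exact ⟨Subgroup.mul_mem _ ha hb, Subgroup.mul_mem _ ha' hb'⟩
    | inv a _ iha =>
      obtain ⟨ha, ha'⟩ := iha
      exact ⟨Subgroup.inv_mem _ ha, Subgroup.inv_mem _ ha'⟩
  obtain ⟨_, h⟩ := key g (G11_le_NT11 hd hp hg)
  exact h

/-- the pairs of points of the dodecad other than `p`, with the action of the stabilizer -/
def Pairs11 (d : Finset GolayPt) (p : GolayPt) : SubMulAction ↥(G11 d p) (Finset GolayPt) where
  carrier := {x | x ⊆ d.erase p ∧ x.card = 2}
  smul_mem' := by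
    rintro ⟨g, hg⟩ x ⟨hx, hc⟩
    refine ⟨?_, ?_⟩
    · intro y hy
      have hy' : y ∈ g • x := hy
      obtain ⟨z, hz, rfl⟩ := Finset.mem_smul_finset.mp hy'
      have := Finset.mem_erase.mp (hx hz)
      rw [Finset.mem_erase]
      exact ⟨G11_apply_ne hg this.1, (G11_apply_mem hg z).mpr this.2⟩
    · show (g • x).card = 2
      rw [Finset.card_smul_finset]
      exact hc

theorem mem_Pairs11 {x : Finset GolayPt} : x ∈ Pairs11 d p ↔ x ⊆ d.erase p ∧ x.card = 2 := Iff.rfl

/-- the subgroup generated by the elements of order dividing three fixing the points of `x` -/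
def TT11 (d : Finset GolayPt) (p : GolayPt) (x : Finset GolayPt) : Subgroup (Equiv.Perm GolayPt) :=
  Subgroup.closure {s | s ∈ G11 d p ∧ s * s * s = 1 ∧ ∀ y ∈ x, s y = y}

theorem TT11_le (x : Finset GolayPt) : TT11 d p x ≤ G11 d p := by
  unfold TT11
  rw [Subgroup.closure_le]
  intro s hs
  exact hs.1

theorem comm_of_mem_closure {G : Type*} [Group G] {S : Set G}
    (hS : ∀ s ∈ S, ∀ s' ∈ S, s * s' = s' * s) :
    ∀ u ∈ Subgroup.closure S, ∀ v ∈ Subgroup.closure S, u * v = v * u := by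
  have h1 : Subgroup.closure S ≤ Subgroup.centralizer S := by
    rw [Subgroup.closure_le]
    intro s hs
    exact Subgroup.mem_centralizer_iff.mpr (fun s' hs' => hS s' hs' s hs)
  have h2 : Subgroup.closure S ≤ Subgroup.centralizer (Subgroup.closure S : Set G) := by
    rw [Subgroup.closure_le]
    intro s hs
    refine Subgroup.mem_centralizer_iff.mpr (fun u hu => ?_)
    exact (Subgroup.mem_centralizer_iff.mp (h1 hu) s hs).symm
  intro u hu v hv
  exact Subgroup.mem_centralizer_iff.mp (h2 hv) u hu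

theorem TT11_comm (hd : d ∈ dodecads) (hp : p ∈ d) {x : Finset GolayPt} (hx : x ∈ Pairs11 d p) :
    ∀ u ∈ TT11 d p x, ∀ v ∈ TT11 d p x, u * v = v * u := by
  obtain ⟨a, b, hab, rfl⟩ := Finset.card_eq_two.mp hx.2
  have ha := Finset.mem_erase.mp (hx.1 (by simp : a ∈ ({a, b} : Finset GolayPt)))
  have hb := Finset.mem_erase.mp (hx.1 (by simp : b ∈ ({a, b} : Finset GolayPt)))
  apply comm_of_mem_closure
  rintro s ⟨hs, h3, hf⟩ s' ⟨hs', h3', hf'⟩
  exact comm_of_fix2 hd hp ha.2 hb.2 ha.1 hb.1 hab hs hs' h3 h3' (hf a (by simp)) (hf b (by simp))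
    (hf' a (by simp)) (hf' b (by simp))

theorem conj_mem_TT11 {g h : Equiv.Perm GolayPt} {x : Finset GolayPt} (hg : g ∈ G11 d p)
    (hh : h ∈ TT11 d p x) : g * h * g⁻¹ ∈ TT11 d p (g • x) := by
  unfold TT11 at hh
  induction hh using Subgroup.closure_induction with
  | mem s hs =>
    obtain ⟨hs1, hs3, hsf⟩ := hs
    apply Subgroup.subset_closure
    refine ⟨Subgroup.mul_mem _ (Subgroup.mul_mem _ hg hs1) (Subgroup.inv_mem _ hg), conj_cube hs3, ?_⟩
    intro y hy
    obtain ⟨z, hz, rfl⟩ := Finset.mem_smul_finset.mp hy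
    rw [Equiv.Perm.smul_def, conj_apply, hsf z hz]
  | one =>
    rw [mul_one, mul_inv_cancel]
    exact Subgroup.one_mem _
  | mul a b _ _ iha ihb =>
    have : g * (a * b) * g⁻¹ = (g * a * g⁻¹) * (g * b * g⁻¹) := by group
    rw [this]
    exact Subgroup.mul_mem _ iha ihb
  | inv a _ iha =>
    have : g * a⁻¹ * g⁻¹ = (g * a * g⁻¹)⁻¹ := by group
    rw [this]
    exact Subgroup.inv_mem _ iha

theorem mem_TT11_smul_iff {g h : Equiv.Perm GolayPt} {x : Finset GolayPt} (hg : g ∈ G11 d p) :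
    h ∈ TT11 d p (g • x) ↔ g⁻¹ * h * g ∈ TT11 d p x := by
  constructor
  · intro hh
    have := conj_mem_TT11 (Subgroup.inv_mem _ hg) hh
    rwa [inv_smul_smul, inv_inv] at this
  · intro hh
    have := conj_mem_TT11 hg hh
    have e : g * (g⁻¹ * h * g) * g⁻¹ = h := by group
    rwa [e] at this

/-- the Iwasawa structure on the pairs -/
def iwasawa11 (hd : d ∈ dodecads) (hp : p ∈ d) :
    MulAction.IwasawaStructure ↥(G11 d p) ↥(Pairs11 d p) where
  T x := (TT11 d p x.1).subgroupOf (G11 d p)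
  is_comm x := by
    refine ⟨⟨?_⟩⟩
    rintro ⟨u, hu⟩ ⟨v, hv⟩
    rw [Subgroup.mem_subgroupOf] at hu hv
    apply Subtype.ext
    apply Subtype.ext
    exact TT11_comm hd hp x.2 u.1 hu v.1 hv
  is_conj g x := by
    ext h
    rw [Subgroup.mem_pointwise_smul_iff_inv_smul_mem, Subgroup.mem_subgroupOf, Subgroup.mem_subgroupOf]
    show h.1 ∈ TT11 d p (g.1 • x.1) ↔ g.1⁻¹ * h.1 * (g.1⁻¹)⁻¹ ∈ TT11 d p x.1
    rw [inv_inv]
    exact mem_TT11_smul_iff g.2
  is_generator := by
    rw [eq_top_iff]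
    rintro ⟨g, hg⟩ -
    have key : ∀ x ∈ NT11 d p, ∃ hx : x ∈ G11 d p,
        (⟨x, hx⟩ : ↥(G11 d p)) ∈ ⨆ y : ↥(Pairs11 d p), (TT11 d p y.1).subgroupOf (G11 d p) := by
      intro x hx
      unfold NT11 at hx
      induction hx using Subgroup.closure_induction with
      | mem s hs =>
        obtain ⟨h1, h3, a, b, ha, hb, hap, hbp, hab, sa, sb⟩ := hs
        refine ⟨h1, ?_⟩
        have hx : ({a, b} : Finset GolayPt) ∈ Pairs11 d p := by
          refine ⟨?_, Finset.card_pair hab⟩
          intro y hy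
          rw [Finset.mem_insert, Finset.mem_singleton] at hy
          rcases hy with rfl | rfl
          · exact Finset.mem_erase.mpr ⟨hap, ha⟩
          · exact Finset.mem_erase.mpr ⟨hbp, hb⟩
        apply Subgroup.mem_iSup_of_mem (⟨{a, b}, hx⟩ : ↥(Pairs11 d p))
        rw [Subgroup.mem_subgroupOf]
        apply Subgroup.subset_closure
        refine ⟨h1, h3, ?_⟩
        intro y hy
        rw [Finset.mem_insert, Finset.mem_singleton] at hy
        rcases hy with rfl | rfl
        · exact sa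
        · exact sb
      | one => exact ⟨Subgroup.one_mem _, Subgroup.one_mem _⟩
      | mul a b _ _ iha ihb =>
        obtain ⟨ha, ha'⟩ := iha
        obtain ⟨hb, hb'⟩ := ihb
        exact ⟨Subgroup.mul_mem _ ha hb, Subgroup.mul_mem _ ha' hb'⟩
      | inv a _ iha =>
        obtain ⟨ha, ha'⟩ := iha
        exact ⟨Subgroup.inv_mem _ ha, Subgroup.inv_mem _ ha'⟩
    obtain ⟨_, h⟩ := key g (G11_le_NT11 hd hp hg)
    exact h

theorem card_erase11 (hd : d ∈ dodecads) (hp : p ∈ d) : (d.erase p).card = 11 := by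
  rw [Finset.card_erase_of_mem hp, hd.2]

/-- transitivity on the pairs -/
theorem exists_G11_map_pair (hd : d ∈ dodecads) (hp : p ∈ d) {x y : Finset GolayPt}
    (hx : x ∈ Pairs11 d p) (hy : y ∈ Pairs11 d p) : ∃ g ∈ G11 d p, g • x = y := by
  obtain ⟨g, hg, h, -⟩ := exists_map_rel11 hd hp x x y y hx.1 hx.1 hy.1 hy.1
    (by rw [Finset.inter_self, Finset.inter_self, hx.2, hy.2])
    (by rw [Finset.sdiff_self, Finset.sdiff_self]) (by rw [Finset.sdiff_self, Finset.sdiff_self])
    (by rw [Finset.inter_self, Finset.sdiff_self, hx.2]; simp)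
  exact ⟨g, hg, h⟩

theorem isPretransitive_Pairs11 (hd : d ∈ dodecads) (hp : p ∈ d) :
    MulAction.IsPretransitive ↥(G11 d p) ↥(Pairs11 d p) := by
  constructor
  rintro ⟨x, hx⟩ ⟨y, hy⟩
  obtain ⟨g, hg, h⟩ := exists_G11_map_pair hd hp hx hy
  exact ⟨⟨g, hg⟩, Subtype.ext h⟩

/-- the stabilizer of a pair is a maximal subgroup -/
theorem isCoatom_stabilizer_Pairs11 (hd : d ∈ dodecads) (hp : p ∈ d) (x : ↥(Pairs11 d p)) :
    IsCoatom (MulAction.stabilizer ↥(G11 d p) x) := by
  classical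
  rw [SubMulAction.stabilizer_of_subMul]
  obtain ⟨x, hx⟩ := x
  show IsCoatom (MulAction.stabilizer ↥(G11 d p) x)
  have hcard : ((d.erase p).powersetCard 2).card = 55 := by
    rw [Finset.card_powersetCard, card_erase11 hd hp]; rfl
  have hmemΩ : ∀ y : Finset GolayPt, y ∈ (d.erase p).powersetCard 2 ↔ y ∈ Pairs11 d p := by
    intro y
    rw [Finset.mem_powersetCard]
    rfl
  have hle : ∀ y : Finset GolayPt, (x ∩ y).card ≤ 2 := by
    intro y
    rw [← hx.2]
    exact Finset.card_le_card Finset.inter_subset_left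
  apply isCoatom_stabilizer_of_suborbits (G := ↥(G11 d p)) x ((d.erase p).powersetCard 2)
    (fun y => by
      rw [hmemΩ, MulAction.mem_orbit_iff]
      constructor
      · intro hy
        obtain ⟨g, hg, h⟩ := exists_G11_map_pair hd hp hx hy
        exact ⟨⟨g, hg⟩, h⟩
      · rintro ⟨g, rfl⟩
        exact (Pairs11 d p).smul_mem g hx)
    (fun y => 2 - (x ∩ y).card) 2 (fun i => [1, 18, 36].getD i 0)
  · intro y hy
    have h0 := pairs_counts (d.erase p) x (card_erase11 hd hp) hx.1 hx.2 0 (by norm_num)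
    have h0' : ((d.erase p).powersetCard 2).filter (fun y => 2 - (x ∩ y).card = 0) = {x} := by
      obtain ⟨z, hz⟩ := Finset.card_eq_one.mp h0
      have : x ∈ ((d.erase p).powersetCard 2).filter (fun y => 2 - (x ∩ y).card = 0) := by
        rw [Finset.mem_filter, hmemΩ, Finset.inter_self, hx.2]
        exact ⟨hx, rfl⟩
      rw [hz, Finset.mem_singleton] at this
      rw [hz, this]
    constructor
    · intro h
      have : y ∈ ((d.erase p).powersetCard 2).filter (fun y => 2 - (x ∩ y).card = 0) :=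
        Finset.mem_filter.mpr ⟨hy, h⟩
      rwa [h0', Finset.mem_singleton] at this
    · rintro rfl
      show 2 - (y ∩ y).card = 0
      rw [Finset.inter_self, hx.2]
  · intro y _
    show 2 - (x ∩ y).card ≤ 2
    omega
  · exact pairs_counts (d.erase p) x (card_erase11 hd hp) hx.1 hx.2
  · intro y hy y' hy' hc
    rw [hmemΩ] at hy hy'
    have hc' : (x ∩ y).card = (x ∩ y').card := by
      have h1 := hle y
      have h2 := hle y'
      have hc'' : 2 - (x ∩ y).card = 2 - (x ∩ y').card := hc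
      omega
    have e1 := Finset.card_sdiff_add_card_inter x y
    have e2 := Finset.card_sdiff_add_card_inter x y'
    have e3 := Finset.card_sdiff_add_card_inter y x
    have e4 := Finset.card_sdiff_add_card_inter y' x
    rw [Finset.inter_comm] at e3 e4
    rw [hx.2] at e1 e2
    rw [hy.2] at e3
    rw [hy'.2] at e4
    obtain ⟨g, hg, hgx, hgy⟩ := exists_map_rel11 hd hp x y x y' hx.1 hy.1 hx.1 hy'.1 hc'
      (by omega) (by omega) (by omega)
    exact ⟨⟨g, hg⟩, hgx, hgy⟩
  · rw [hcard]; exact arith11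
  · rw [hcard]; norm_num

theorem mem_pair_of_smul {g : Equiv.Perm GolayPt} {z u : GolayPt} (h : g • ({z, u} : Finset GolayPt) = {z, u}) :
    g z = z ∨ g z = u := by
  have : g • z ∈ g • ({z, u} : Finset GolayPt) := Finset.smul_mem_smul_finset (by simp)
  rw [h, Finset.mem_insert, Finset.mem_singleton] at this
  exact this

/-- an element fixing all the pairs is trivial -/
theorem eq_one_of_fixes_Pairs11 (hd : d ∈ dodecads) (hp : p ∈ d) {g : Equiv.Perm GolayPt}
    (hg : g ∈ G11 d p) (h : ∀ x ∈ Pairs11 d p, g • x = x) : g = 1 := by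
  classical
  have pick : ∀ F : Finset GolayPt, F.card < 12 → ∃ a ∈ d, a ∉ F := by
    intro F hF
    exact Finset.exists_mem_notMem_of_card_lt_card (by rw [hd.2]; exact hF)
  have hfix : ∀ z ∈ d, g z = z := by
    intro z hz
    by_cases hzp : z = p
    · rw [hzp]; exact (mem_G11.mp hg).2.2
    obtain ⟨u, hu, hu'⟩ := pick {p, z} (lt_of_le_of_lt Finset.card_le_two (by norm_num))
    obtain ⟨v, hv, hv'⟩ := pick {p, z, u} (lt_of_le_of_lt Finset.card_le_three (by norm_num))
    simp only [Finset.mem_insert, Finset.mem_singleton, not_or] at hu' hv'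
    have hmem : ∀ w ∈ d, w ≠ p → w ≠ z → ({z, w} : Finset GolayPt) ∈ Pairs11 d p := by
      intro w hw hwp hwz
      refine ⟨?_, Finset.card_pair (Ne.symm hwz)⟩
      intro y hy
      rw [Finset.mem_insert, Finset.mem_singleton] at hy
      rcases hy with rfl | rfl
      · exact Finset.mem_erase.mpr ⟨hzp, hz⟩
      · exact Finset.mem_erase.mpr ⟨hwp, hw⟩
    rcases mem_pair_of_smul (h _ (hmem u hu hu'.1 hu'.2)) with h1 | h1
    · exact h1
    rcases mem_pair_of_smul (h _ (hmem v hv hv'.1 hv'.2.1)) with h2 | h2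
    · exact h2
    · exact absurd (h1.symm.trans h2) (Ne.symm hv'.2.2)
  obtain ⟨t, ht, htd, -⟩ := exists_transport_pts hd (fun _ => p) 0 (by norm_num)
    (by intro i hi; omega) (by intro i hi; omega)
  refine stab_dodecad_unique hd (fun i => t (pt i))
    (fun i hi => apply_mem_of_smul htd (pt_mem_d0 i hi))
    (fun i hi j hj h => pt_inj5 i hi j hj (t.injective h)) (mem_G11'.mp hg).1
    (fun i hi => hfix _ (apply_mem_of_smul htd (pt_mem_d0 i hi)))

theorem faithfulSMul_Pairs11 (hd : d ∈ dodecads) (hp : p ∈ d) :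
    FaithfulSMul ↥(G11 d p) ↥(Pairs11 d p) := by
  constructor
  rintro ⟨g, hg⟩ ⟨g', hg'⟩ h
  apply Subtype.ext
  show g = g'
  have h1 : g'⁻¹ * g ∈ G11 d p := Subgroup.mul_mem _ (Subgroup.inv_mem _ hg') hg
  have h2 : g'⁻¹ * g = 1 := by
    apply eq_one_of_fixes_Pairs11 hd hp h1
    intro o ho
    have := congrArg Subtype.val (h ⟨o, ho⟩)
    have e : g • o = g' • o := this
    rw [mul_smul, e, inv_smul_smul]
  have := congrArg (g' * ·) h2
  simpa using this

/-- the stabilizer of a dodecad and a point of it is simple -/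
theorem isSimpleGroup_G11 (hd : d ∈ dodecads) (hp : p ∈ d) : IsSimpleGroup ↥(G11 d p) := by
  classical
  have := isPretransitive_Pairs11 hd hp
  have : Nontrivial ↥(G11 d p) := by
    have h : Nat.card ↥(G11 d p) = 7920 := card_stab_dodecad_point hd hp
    have : Finite ↥(G11 d p) := Nat.finite_of_card_ne_zero (by rw [h]; norm_num)
    exact Finite.one_lt_card_iff_nontrivial.mp (by rw [h]; norm_num)
  have pick : ∀ F : Finset GolayPt, F.card < 12 → ∃ a ∈ d, a ∉ F := by
    intro F hF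
    exact Finset.exists_mem_notMem_of_card_lt_card (by rw [hd.2]; exact hF)
  obtain ⟨a, ha, ha'⟩ := pick {p} (by simp)
  obtain ⟨b, hb, hb'⟩ := pick {p, a} (lt_of_le_of_lt Finset.card_le_two (by norm_num))
  obtain ⟨c, hc, hc'⟩ := pick {p, a, b} (lt_of_le_of_lt Finset.card_le_three (by norm_num))
  simp only [Finset.mem_insert, Finset.mem_singleton, not_or] at ha' hb' hc'
  have hmem : ∀ u ∈ d, ∀ w ∈ d, u ≠ p → w ≠ p → u ≠ w → ({u, w} : Finset GolayPt) ∈ Pairs11 d p := by
    intro u hu w hw hup hwp huw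
    refine ⟨?_, Finset.card_pair huw⟩
    intro y hy
    rw [Finset.mem_insert, Finset.mem_singleton] at hy
    rcases hy with rfl | rfl
    · exact Finset.mem_erase.mpr ⟨hup, hu⟩
    · exact Finset.mem_erase.mpr ⟨hwp, hw⟩
  let x1 : ↥(Pairs11 d p) := ⟨{a, b}, hmem a ha b hb ha' hb'.1 (Ne.symm hb'.2)⟩
  let x2 : ↥(Pairs11 d p) := ⟨{a, c}, hmem a ha c hc ha' hc'.1 (Ne.symm hc'.2.1)⟩
  have hne : x1 ≠ x2 := by
    intro h
    have h' : ({a, b} : Finset GolayPt) = {a, c} := congrArg Subtype.val h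
    have : c ∈ ({a, b} : Finset GolayPt) := by rw [h']; simp
    rw [Finset.mem_insert, Finset.mem_singleton] at this
    rcases this with h1 | h1
    · exact hc'.2.1 h1
    · exact hc'.2.2 h1
  have : Nontrivial ↥(Pairs11 d p) := ⟨⟨x1, x2, hne⟩⟩
  have : MulAction.IsPreprimitive ↥(G11 d p) ↥(Pairs11 d p) :=
    (MulAction.isCoatom_stabilizer_iff_preprimitive ↥(G11 d p) x1).mp
      (isCoatom_stabilizer_Pairs11 hd hp x1)
  exact (iwasawa11 hd hp).isSimpleGroup (commutator_G11 hd hp) (faithfulSMul_Pairs11 hd hp)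

end

end Cfsg.Agent.Lib.Helper3.Golay
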