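import Mathlib
import Cfsg.Prelude.Def_Sporadic_a
import Cfsg.Agent.Lib.Helper3.Golay.Weights

set_option autoImplicit false

/-! The punctured code of length 23: words indexed by `c < 4096`, weights, minimum weight. -/

namespace Cfsg.Agent.Lib.Helper3.Golay

open Cfsg

/-- puncturing at the extra point -/
def punct (w : GolayPt → ZMod 2) : ZMod 23 → ZMod 2 := fun x => w (some x)

/-- the punctured code word with index `c` -/
def pw (c : ℕ) : ZMod 23 → ZMod 2 := punct (wordOf (codeMask c))

theorem punctured_eq : {u : ZMod 23 → ZMod 2 | ∃ w ∈ Cfsg.golayCode, ∀ x : ZMod 23, u x = w (some x)} =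
    ↑((Finset.range 4096).image pw) := by
  ext u
  simp only [Set.mem_ofPred_eq, Finset.coe_image, Finset.coe_range, Set.mem_image, Set.mem_Iio]
  constructor
  · rintro ⟨w, hw, hu⟩
    obtain ⟨c, hc, rfl⟩ := (mem_golayCode_iff w).mp hw
    exact ⟨c, hc, (funext hu).symm⟩
  · rintro ⟨c, hc, rfl⟩
    exact ⟨wordOf (codeMask c), wordOf_codeMask_mem c, fun x => rfl⟩

theorem testBit_and_mask (m i : ℕ) (hi : i < 24) :
    (m &&& 0x7fffff).testBit i = (m.testBit i && decide (i < 23)) := by
  rw [Nat.testBit_and]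
  congr 1
  interval_cases i <;> decide

theorem hammingNorm_pw (c : ℕ) : hammingNorm (pw c) = pc24 (codeMask c &&& 0x7fffff) := by
  classical
  rw [← card_bitSet']
  unfold hammingNorm
  have : bitSet (codeMask c &&& 0x7fffff) =
      (Finset.univ.filter (fun x : ZMod 23 => pw c x ≠ 0)).map ⟨some, Option.some_injective _⟩ := by
    ext p
    rw [mem_bitSet, Finset.mem_map, testBit_and_mask _ _ (idx_lt p)]
    constructor
    · intro h
      rw [Bool.and_eq_true, decide_eq_true_eq] at h
      cases p with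
      | none => exact absurd h.2 (by decide)
      | some x =>
        refine ⟨x, ?_, rfl⟩
        rw [Finset.mem_filter]
        refine ⟨Finset.mem_univ _, ?_⟩
        show wordOf (codeMask c) (some x) ≠ 0
        rw [wordOf_ne_zero]
        exact h.1
    · rintro ⟨x, hx, rfl⟩
      rw [Finset.mem_filter] at hx
      have h1 : wordOf (codeMask c) (some x) ≠ 0 := hx.2
      rw [wordOf_ne_zero] at h1
      rw [Bool.and_eq_true, decide_eq_true_eq]
      exact ⟨h1, x.val_lt⟩
  rw [this, Finset.card_map]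

theorem pw_injOn {c d : ℕ} (hc : c < 4096) (hd : d < 4096) (h : pw c = pw d) : c = d := by
  rw [← codeMask_mod c hc, ← codeMask_mod d hd]
  apply Nat.eq_of_testBit_eq
  intro i
  have e : (4096 : ℕ) = 2 ^ 12 := by norm_num
  rw [e, Nat.testBit_mod_two_pow, Nat.testBit_mod_two_pow]
  by_cases hi : i < 12
  · simp only [hi, decide_true, Bool.true_and]
    have h1 := congrFun h ((i : ℕ) : ZMod 23)
    have hv : ((i : ℕ) : ZMod 23).val = i := ZMod.val_natCast_of_lt (by omega)
    unfold pw punct at h1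
    rw [wordOf_apply, wordOf_apply] at h1
    have hidx : idx (some ((i : ℕ) : ZMod 23)) = i := hv
    rw [hidx] at h1
    cases h2 : (codeMask c).testBit i <;> cases h3 : (codeMask d).testBit i <;> simp_all
  · simp [hi]

theorem ncard_weight (k : ℕ) :
    {u : ZMod 23 → ZMod 2 | u ∈ {u : ZMod 23 → ZMod 2 | ∃ w ∈ Cfsg.golayCode, ∀ x : ZMod 23, u x = w (some x)} ∧ hammingNorm u = k}.ncard =
      countBelow 4096 (fun c => Nat.beq (pc24 (codeMask c &&& 0x7fffff)) k) := by
  classical
  have : {u : ZMod 23 → ZMod 2 | u ∈ {u : ZMod 23 → ZMod 2 | ∃ w ∈ Cfsg.golayCode, ∀ x : ZMod 23, u x = w (some x)} ∧ hammingNorm u = k} =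
      ↑(((Finset.range 4096).filter (fun c => Nat.beq (pc24 (codeMask c &&& 0x7fffff)) k = true)).image pw) := by
    rw [punctured_eq]
    ext u
    simp only [Set.mem_ofPred_eq, Finset.coe_image, Finset.coe_range, Set.mem_image, Set.mem_Iio,
      Finset.coe_filter, Finset.mem_range]
    constructor
    · rintro ⟨⟨c, hc, rfl⟩, hk⟩
      refine ⟨c, ⟨hc, ?_⟩, rfl⟩
      rw [hammingNorm_pw] at hk
      rw [hk]; exact Nat.beq_refl k
    · rintro ⟨c, ⟨hc, hk⟩, rfl⟩
      exact ⟨⟨c, hc, rfl⟩, by rw [hammingNorm_pw]; exact Nat.eq_of_beq_eq_true hk⟩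
  rw [this, Set.ncard_coe_finset, countBelow_eq, Finset.card_image_of_injOn]
  intro c hc d hd h
  simp only [Finset.coe_filter, Finset.mem_range, Set.mem_ofPred_eq] at hc hd
  exact pw_injOn hc.1 hd.1 h

set_option maxRecDepth 100000 in
theorem pcnt7 : countBelow 4096 (fun c => Nat.beq (pc24 (codeMask c &&& 0x7fffff)) 7) = 253 := by decide +kernel
set_option maxRecDepth 100000 in
theorem pcnt8 : countBelow 4096 (fun c => Nat.beq (pc24 (codeMask c &&& 0x7fffff)) 8) = 506 := by decide +kernel
set_option maxRecDepth 100000 in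
theorem pcnt11 : countBelow 4096 (fun c => Nat.beq (pc24 (codeMask c &&& 0x7fffff)) 11) = 1288 := by decide +kernel
set_option maxRecDepth 100000 in
theorem pcnt12 : countBelow 4096 (fun c => Nat.beq (pc24 (codeMask c &&& 0x7fffff)) 12) = 1288 := by decide +kernel
set_option maxRecDepth 100000 in
theorem pcnt15 : countBelow 4096 (fun c => Nat.beq (pc24 (codeMask c &&& 0x7fffff)) 15) = 506 := by decide +kernel
set_option maxRecDepth 100000 in
theorem pcnt16 : countBelow 4096 (fun c => Nat.beq (pc24 (codeMask c &&& 0x7fffff)) 16) = 253 := by decide +kernel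
set_option maxRecDepth 100000 in
theorem pmin : allBelow 4096 (fun c => Nat.beq c 0 || Nat.ble 7 (pc24 (codeMask c &&& 0x7fffff))) = true := by decide +kernel


/-- the punctured code -/
def pcode : Set (ZMod 23 → ZMod 2) :=
  {u : ZMod 23 → ZMod 2 | ∃ w ∈ Cfsg.golayCode, ∀ x : ZMod 23, u x = w (some x)}

theorem ncard_pcode : pcode.ncard = 4096 := by
  classical
  unfold pcode
  rw [punctured_eq, Set.ncard_coe_finset, Finset.card_image_of_injOn, Finset.card_range]
  intro c hc d hd h
  simp only [Finset.coe_range, Set.mem_Iio] at hc hd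
  exact pw_injOn hc hd h

theorem pcode_min {u : ZMod 23 → ZMod 2} (hu : u ∈ pcode) (hne : u ≠ 0) : 7 ≤ hammingNorm u := by
  unfold pcode at hu
  rw [punctured_eq] at hu
  simp only [Finset.coe_image, Finset.coe_range, Set.mem_image, Set.mem_Iio] at hu
  obtain ⟨c, hc, rfl⟩ := hu
  rw [hammingNorm_pw]
  have := (allBelow_iff _ _).mp pmin c hc
  rw [Bool.or_eq_true] at this
  rcases this with h | h
  · exfalso
    apply hne
    have : c = 0 := Nat.eq_of_beq_eq_true h
    subst this
    funext x
    show wordOf (codeMask 0) (some x) = 0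
    have : codeMask 0 = 0 := by decide +kernel
    rw [this, wordOf_zero]
    rfl
  · exact Nat.le_of_ble_eq_true h

theorem pcode_sub {u v : ZMod 23 → ZMod 2} (hu : u ∈ pcode) (hv : v ∈ pcode) : u - v ∈ pcode := by
  obtain ⟨w, hw, hu⟩ := hu
  obtain ⟨w', hw', hv⟩ := hv
  refine ⟨w - w', Submodule.sub_mem _ hw hw', ?_⟩
  intro x
  rw [Pi.sub_apply, Pi.sub_apply, hu, hv]

end Cfsg.Agent.Lib.Helper3.Golay
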